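/-
The generators of the amalgam inside the matrix group `J₁`, and the identification theorem.
-/
import Cfsg.Agent.H9.J1Clos
import Cfsg.Agent.H6.J1
import Cfsg.Prelude.Def_Spor_J1

set_option autoImplicit false
set_option maxRecDepth 100000

namespace CfsgH9.J1

open CfsgH5 CfsgH9.TC Subgroup

noncomputable section

/-- code of a word -/
def wc (O : CfsgH6.GOps) (c : ℕ → ℕ) (l : List ℕ) : ℕ :=
  List.rec (motive := fun _ => ℕ) O.one
    (fun a _ ih => force ih fun v => force (c a) fun u => O.mul u v) l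

theorem code_wd {O : CfsgH6.GOps} {Γ : Type*} [Group Γ] (C : CfsgH6.GC O Γ) {g : ℕ → Γ}
    {c : ℕ → ℕ} (h : ∀ i, C.code (g i) = c i) (l : List ℕ) : C.code (wd g l) = wc O c l := by
  induction l with
  | nil => exact C.code_one
  | cons a l ih =>
    show C.code (g a * wd g l) = force (wc O c l) fun v => force (c a) fun u => O.mul u v
    rw [force_eq, force_eq, C.code_mul, ih, h]

/-- the matrix group -/
abbrev JJ : Type := Cfsg.Spor.J1

/-- codes of its elements -/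
def CJ : CfsgH6.GC CfsgH6.J1.P.ops JJ := CfsgH6.J1.C.comap (Cfsg.Spor.J1).subtype Subtype.val_injective

/-- the two generators -/
def xy (i : ℕ) : JJ :=
  if i = 1 then ⟨Cfsg.Spor.jankoX, subset_closure (by simp)⟩
  else ⟨Cfsg.Spor.jankoY, subset_closure (by simp)⟩

/-- their codes -/
def xyc (i : ℕ) : ℕ := bif' (Nat.beq i 1) (CfsgH6.J1.R 1) (CfsgH6.J1.R 2)

theorem cX : CfsgH6.J1.C.code Cfsg.Spor.jankoX = CfsgH6.J1.R 1 := by
  show CfsgH6.mcode 24 7 Cfsg.jankoMatrixX = CfsgH6.J1.R 1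
  decide +kernel

theorem cY : CfsgH6.J1.C.code Cfsg.Spor.jankoY = CfsgH6.J1.R 2 := by
  show CfsgH6.mcode 24 7 Cfsg.jankoMatrixY = CfsgH6.J1.R 2
  decide +kernel

theorem code_xy (i : ℕ) : CJ.code (xy i) = xyc i := by
  rw [xy, xyc, bif'_eq]
  simp only [beq_true_iff]
  split_ifs
  exacts [cX, cY]

/-- words for the letters -/
def kw (i : ℕ) : List ℕ :=
  [[], [1, 2, 1, 1, 2, 2, 2, 2, 1], [1, 2, 2, 1, 1, 1, 2, 1, 1, 2, 1, 1, 2, 1, 1, 2, 1, 2],
   [2, 1, 1, 2, 2, 2, 2, 1, 1], [1, 2, 1, 2, 2, 2, 2],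
   [1, 2, 2, 1, 1, 2, 2, 1, 2, 1, 2, 1, 1, 2, 2, 1, 2, 1, 2, 2],
   [1, 2, 2, 1, 2, 1, 2, 2, 1, 1, 2, 1, 2, 1, 2, 2, 1, 1, 2, 2, 1],
   [1, 1, 1, 1, 1, 1], [1]].getD i []

/-- the letters in `J₁` -/
def kJ (i : ℕ) : JJ := wd xy (kw i)

/-- their codes -/
def kc (i : ℕ) : ℕ := wc CfsgH6.J1.P.ops xyc (kw i)

theorem code_kJ (i : ℕ) : CJ.code (kJ i) = kc i := code_wd CJ code_xy _

theorem wd_kJ_eq {l l' : List ℕ}
    (h : wc CfsgH6.J1.P.ops kc l = wc CfsgH6.J1.P.ops kc l') : wd kJ l = wd kJ l' :=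
  CJ.inj (by rw [code_wd CJ code_kJ, code_wd CJ code_kJ, h])

theorem base_kJ : Base kJ := by
  refine ⟨rfl, fun l hl => ?_, fun l hl => wd_kJ_eq (l' := []) ?_,
    fun l hl => wd_kJ_eq (l' := []) ?_⟩
  · rw [kJ, kw, List.getD_eq_default _ _ (by simpa using hl)]; rfl
  · revert l; decide +kernel
  · revert l; decide +kernel

theorem comm_kJ : Commute (wd kJ [2, 3]) (wd kJ [8, 6, 2, 1, 2, 3, 5, 7]) := by
  rw [Commute, SemiconjBy, ← wd_append, ← wd_append]
  exact wd_kJ_eq (by decide +kernel)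

theorem wd_mem {G : Type*} [Group G] {g : ℕ → G} {H : Subgroup G} {l : List ℕ}
    (h : ∀ i ∈ l, g i ∈ H) : wd g l ∈ H :=
  H.list_prod_mem (by simpa using h)

theorem gen_kJ : Subgroup.closure {kJ 2, kJ 3, kJ 7} = ⊤ := by
  have hm : ∀ l : List ℕ, (∀ i ∈ l, i = 2 ∨ i = 3 ∨ i = 7) →
      wd kJ l ∈ Subgroup.closure {kJ 2, kJ 3, kJ 7} := fun l hl => wd_mem fun i hi => by
    rcases hl i hi with rfl | rfl | rfl <;> exact subset_closure (by simp)
  have h1 : xy 1 = wd kJ [7, 7, 7, 7, 7, 7] :=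
    CJ.inj (by rw [code_wd CJ code_kJ, code_xy]; decide +kernel)
  have h2 : xy 2 = wd kJ [3, 2, 7, 2, 7, 2, 7, 7, 3, 7, 2, 3, 7, 7, 7] :=
    CJ.inj (by rw [code_wd CJ code_kJ, code_xy]; decide +kernel)
  refine top_unique ((closure_closure_coe_preimage
    (k := {Cfsg.Spor.jankoX, Cfsg.Spor.jankoY})).ge.trans ((closure_le _).2 ?_))
  rintro ⟨a, ha⟩ (rfl | rfl)
  · show xy 1 ∈ _
    rw [h1]; exact hm _ (by decide)
  · show xy 2 ∈ _
    rw [h2]; exact hm _ (by decide)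

theorem simple_JJ : IsSimpleGroup JJ ∧ Nat.card JJ = 175560 := CfsgH6.J1.main _ _ cX cY

theorem iso_J {G : Type*} [Group G] [Finite G] {g : ℕ → G} (h : Base g)
    (hc : Commute (wd g [2, 3]) (wd g [8, 6, 2, 1, 2, 3, 5, 7])) (hne : g 2 ≠ 1) :
    Nonempty (closure {g 2, g 3, g 7} ≃* JJ) := by
  have hb := h.prod base_kJ
  have hcard := card_J hb (by rw [wd_prod, wd_prod]; exact hc.prod comm_kJ)
  set D : Subgroup (G × JJ) := closure {(g 2, kJ 2), (g 3, kJ 3), (g 7, kJ 7)} with hD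
  have r2 : ((MonoidHom.snd G JJ).comp D.subtype).range = ⊤ := by
    rw [MonoidHom.range_comp, range_subtype, hD, MonoidHom.map_closure, ← gen_kJ]
    simp [Set.image_insert_eq]
  have r1 : ((MonoidHom.fst G JJ).comp D.subtype).range = closure {g 2, g 3, g 7} := by
    rw [MonoidHom.range_comp, range_subtype, hD, MonoidHom.map_closure]
    simp [Set.image_insert_eq]
  have b2 : Function.Bijective ((MonoidHom.snd G JJ).comp D.subtype) :=
    (MonoidHom.range_eq_top.1 r2).bijective_of_nat_card_le (by rw [simple_JJ.2]; exact hcard)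
  let e2 := MulEquiv.ofBijective _ b2
  have := simple_JJ.1
  have hs : IsSimpleGroup D := e2.isSimpleGroup
  have i1 : Function.Injective ((MonoidHom.fst G JJ).comp D.subtype) := by
    rw [← MonoidHom.ker_eq_bot_iff]
    refine (hs.eq_bot_or_eq_top_of_normal _ inferInstance).resolve_right fun e => hne ?_
    have : (⟨(g 2, kJ 2), subset_closure (by simp)⟩ : D) ∈
      ((MonoidHom.fst G JJ).comp D.subtype).ker := e ▸ mem_top _
    exact this
  exact ⟨(MulEquiv.subgroupCongr r1.symm).trans ((MonoidHom.ofInjective i1).symm.trans e2)⟩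

end

end CfsgH9.J1
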