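/-
Kernel-checked certificates for coset enumeration.
Letters are numbers below 16 (letter 0 is the identity); words are coded in base 16.
A fact `l + 16 * (i + 2 ^ 14 * j)` says that the letter `l` moves the point `i` to the point `j`.
-/
import Cfsg.Agent.H5.Bits

set_option autoImplicit false

namespace CfsgH9.TC

open CfsgH5
open scoped Pointwise

noncomputable section

variable {G : Type*} [Group G]

/-- value of a coded word -/
def ev (g : ℕ → G) (w : ℕ) : G := ((Nat.digits 16 w).map g).prod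

theorem ev_zero (g : ℕ → G) : ev g 0 = 1 := by simp [ev]

theorem ev_step {g : ℕ → G} (h0 : g 0 = 1) (w : ℕ) : ev g w = g (w % 16) * ev g (w / 16) := by
  rcases Nat.eq_zero_or_pos w with rfl | h
  · simp [ev, h0]
  · rw [ev, Nat.digits_def' (by norm_num) h]; simp [ev]

theorem ev_add {g : ℕ → G} (h0 : g 0 = 1) (k : ℕ) :
    ∀ a b : ℕ, a < 16 ^ k → ev g (a + 16 ^ k * b) = ev g a * ev g b := by
  induction k with
  | zero => intro a b ha; obtain rfl : a = 0 := by simpa using ha
            simp [ev_zero]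
  | succ k ih =>
    intro a b ha
    rw [ev_step h0, ev_step h0 a, mul_assoc, ← ih (a / 16) b (by rw [pow_succ] at ha; omega)]
    have e : a + 16 ^ (k + 1) * b = a + 16 * (16 ^ k * b) := by ring
    rw [e, Nat.add_mul_mod_self_left, Nat.add_mul_div_left _ _ (by norm_num)]

/-- code of a list of letters -/
def enc (l : List ℕ) : ℕ := List.rec (motive := fun _ => ℕ) 0 (fun x _ ih => x + 16 * ih) l

theorem ev_enc {g : ℕ → G} (h0 : g 0 = 1) (l : List ℕ) (hl : ∀ x ∈ l, x < 16) :
    ev g (enc l) = (l.map g).prod ∧ enc l < 16 ^ l.length := by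
  induction l with
  | nil => exact ⟨ev_zero g, by simp [enc]⟩
  | cons x l ih =>
    have hx := hl x List.mem_cons_self
    obtain ⟨h1, h2⟩ := ih fun y hy => hl y (List.mem_cons_of_mem _ hy)
    have e : enc (x :: l) = x + 16 * enc l := rfl
    rw [e, ev_step h0, Nat.add_mul_mod_self_left, Nat.add_mul_div_left _ _ (by norm_num),
      Nat.mod_eq_of_lt hx, Nat.div_eq_of_lt hx, zero_add, h1]
    refine ⟨by simp, ?_⟩
    rw [List.length_cons, pow_succ]; omega

/-- rotation of the relator `e = n + 64 * w` by `k` letters -/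
def rot (e k : ℕ) : ℕ :=
  Nat.add (Nat.div (Nat.div e 64) (Nat.pow 16 k))
    (Nat.mul (Nat.pow 16 (Nat.sub (Nat.mod e 64) k)) (Nat.mod (Nat.div e 64) (Nat.pow 16 k)))

/-- a valid relator entry -/
def RelOK (g : ℕ → G) (e : ℕ) : Prop := ev g (e / 64) = 1 ∧ e / 64 < 16 ^ (e % 64)

theorem ev_rot {g : ℕ → G} (h0 : g 0 = 1) {e : ℕ} (h : RelOK g e) (k : ℕ) : ev g (rot e k) = 1 := by
  obtain ⟨h1, h2⟩ := h
  show ev g (e / 64 / 16 ^ k + 16 ^ (e % 64 - k) * (e / 64 % 16 ^ k)) = 1
  have hk : 0 < 16 ^ k := by positivity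
  rw [ev_add h0]
  · have := ev_add h0 k (e / 64 % 16 ^ k) (e / 64 / 16 ^ k) (Nat.mod_lt _ hk)
    rw [Nat.mod_add_div, h1] at this
    rw [eq_inv_of_mul_eq_one_left this.symm]; simp
  · rw [Nat.div_lt_iff_lt_mul hk, ← pow_add]
    exact h2.trans_le (Nat.pow_le_pow_right (by norm_num) (by omega))

/-- the relator table made from lists of letters -/
def relChk (rels : List (List ℕ)) (L : List ℕ) : Bool :=
  decide (L = rels.map fun l => l.length + 64 * enc l) &&
    rels.all fun l => decide (l.length < 64) && l.all fun x => decide (x < 16)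

theorem relOK_of_chk {g : ℕ → G} (h0 : g 0 = 1) {rels : List (List ℕ)} {L : List ℕ}
    (h : relChk rels L = true) (hr : ∀ l ∈ rels, (l.map g).prod = 1) (r : ℕ) :
    RelOK g (nthD L 0 r) := by
  rcases nthD_mem L 0 r with e | e
  · rw [e]; exact ⟨ev_zero g, by norm_num⟩
  · simp only [relChk, Bool.and_eq_true, decide_eq_true_eq, List.all_eq_true] at h
    obtain ⟨rfl, h2⟩ := h
    obtain ⟨l, hl, e⟩ := List.mem_map.1 e
    obtain ⟨h3, h4⟩ := h2 l hl
    obtain ⟨h5, h6⟩ := ev_enc h0 l h4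
    rw [← e, RelOK, Nat.add_mul_div_left _ _ (by norm_num), Nat.add_mul_mod_self_left,
      Nat.div_eq_of_lt h3, zero_add, Nat.mod_eq_of_lt h3, h5]
    exact ⟨hr l hl, h6⟩

/-- letter of a fact -/
def lab (e : ℕ) : ℕ := Nat.land e 15
/-- source of a fact -/
def src (e : ℕ) : ℕ := Nat.land (Nat.shiftRight e 4) 16383
/-- target of a fact -/
def tgt (e : ℕ) : ℕ := Nat.shiftRight e 18

theorem lab_lt (e : ℕ) : lab e < 16 := Nat.lt_succ_of_le Nat.and_le_right

/-- mask of a block -/
def bmask : ℕ := Nat.sub (Nat.pow 2 2048) 1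
/-- a block of a table -/
def blk (T b : ℕ) : ℕ := Nat.land (Nat.shiftRight T (Nat.mul 2048 b)) bmask
/-- entries of 32 bits -/
def get32 (T m : ℕ) : ℕ := force (Nat.shiftRight m 6) fun b =>
  Nat.land (Nat.shiftRight (blk T b) (Nat.mul 32 (Nat.land m 63))) 4294967295
/-- entries of 16 bits -/
def get16 (T m : ℕ) : ℕ := force (Nat.shiftRight m 7) fun b =>
  Nat.land (Nat.shiftRight (blk T b) (Nat.mul 16 (Nat.land m 127))) 65535

/-- the oriented fact of an item `a`, passed to a continuation (letter, source, target) -/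
def item (F : ℕ → ℕ) (IV m a : ℕ) (k : ℕ → ℕ → ℕ → Bool) : Bool :=
  force (Nat.shiftRight a 1) fun id => band (Nat.blt id m) (force (F id) fun e =>
    bif' (Nat.beq (Nat.land a 1) 0) (k (lab e) (src e) (tgt e))
      (k (ap 4 15 IV (lab e)) (tgt e) (src e)))

/-- one step along a word -/
def step (l w : ℕ) (k : ℕ → Bool) : Bool :=
  force l fun l => bif' (Nat.beq l 0) (k w)
    (band (Nat.beq l (Nat.mod w 16)) (force (Nat.div w 16) k))

/-- walk along `n` items -/
def walk (F : ℕ → ℕ) (IV m fin n : ℕ) : ℕ → ℕ → ℕ → Bool :=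
  Nat.rec (motive := fun _ => ℕ → ℕ → ℕ → Bool)
    (fun _ cur w => band (Nat.beq cur fin) (Nat.beq w 0))
    (fun _ ih its cur w => force (Nat.land its 65535) fun a => item F IV m a fun l i j =>
      band (Nat.beq i cur) (step l w fun w' => force (Nat.shiftRight its 16) fun its' =>
        force j fun j => ih its' j w')) n

/-- check of the derived fact number `m` -/
def chk1 (F : ℕ → ℕ) (IV : ℕ) (L : List ℕ) (m c : ℕ) : Bool :=
  force (F m) fun e => force (rot (nthD L 0 (Nat.land c 63)) (Nat.land (Nat.shiftRight c 6) 63))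
    fun u => step (lab e) u fun w => force (src e) fun i => force (tgt e) fun j =>
      walk F IV m i (Nat.land (Nat.shiftRight c 12) 63) (Nat.shiftRight c 18) j w

/-- check of a list of derived facts -/
def chkL (F : ℕ → ℕ) (IV : ℕ) (L : List ℕ) (l : List ℕ) (m' : ℕ) : ℕ → Bool :=
  List.rec (motive := fun _ => ℕ → Bool) (fun m => Nat.beq m m')
    (fun c _ ih m => band (chk1 F IV L m c) (force (Nat.succ m) ih)) l

/-- check of definitions and of the subgroup generators -/
def chk0 (F : ℕ → ℕ) (SUB na : ℕ) : Bool :=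
  allLt na fun m => force (F m) fun e =>
    bor (band (Nat.blt (src e) m) (Nat.beq (tgt e) m))
      (band (Nat.beq (src e) 0) (band (Nat.beq (tgt e) 0) (tb SUB (lab e))))

/-- check that the first `nf` points are closed under the letter `x` -/
def chkC (F : ℕ → ℕ) (IV m nf x T : ℕ) : Bool :=
  allLt nf fun k => force (get16 T k) fun a => item F IV m a fun l i j =>
    band (Nat.beq l x) (band (Nat.beq i k) (Nat.blt j nf))

variable {Ω : Type*} [MulAction G Ω]

/-- the points -/
def pt (F : ℕ → ℕ) (g : ℕ → G) (ω : Ω) (m : ℕ) : Ω :=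
  Nat.strongRecOn (motive := fun _ => Ω) m fun m ih =>
    if h : src (F m) < m then (g (lab (F m)))⁻¹ • ih _ h else ω

theorem pt_eq (F : ℕ → ℕ) (g : ℕ → G) (ω : Ω) (m : ℕ) :
    pt F g ω m = if src (F m) < m then (g (lab (F m)))⁻¹ • pt F g ω (src (F m)) else ω := by
  rw [pt, Nat.strongRecOn_eq]
  split_ifs <;> rfl

theorem pt_zero (F : ℕ → ℕ) (g : ℕ → G) (ω : Ω) : pt F g ω 0 = ω := by
  rw [pt_eq, if_neg (Nat.not_lt_zero _)]

/-- the facts below `m` hold -/
def Holds (F : ℕ → ℕ) (g : ℕ → G) (ω : Ω) (m : ℕ) : Prop :=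
  ∀ i, i < m → pt F g ω (tgt (F i)) = (g (lab (F i)))⁻¹ • pt F g ω (src (F i))

/-- the hypotheses on the letters -/
structure Let (g : ℕ → G) (IV : ℕ) (L : List ℕ) : Prop where
  zero : g 0 = 1
  inv : ∀ l, l < 16 → g (ap 4 15 IV l) = (g l)⁻¹
  rel : ∀ r, RelOK g (nthD L 0 r)

variable {F : ℕ → ℕ} {g : ℕ → G} {ω : Ω} {IV : ℕ} {L : List ℕ}

theorem holds_zero {SUB na : ℕ} (h : chk0 F SUB na = true)
    (hs : ∀ l, l < 16 → tb SUB l = true → g l • ω = ω) : Holds F g ω na := by
  intro m hm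
  have := (allLt_iff _ _).1 h m hm
  simp only [force_eq, bor_eq, band_eq, Bool.or_eq_true, Bool.and_eq_true, blt_true_iff,
    beq_true_iff] at this
  rcases this with ⟨h1, h2⟩ | ⟨h1, h2, h3⟩
  · rw [h2, pt_eq, if_pos h1]
  · rw [h1, h2, pt_zero, eq_inv_smul_iff, hs _ (lab_lt _) h3]

theorem item_sound (hl : Let g IV L) {m a : ℕ} (H : Holds F g ω m) {k : ℕ → ℕ → ℕ → Bool}
    (h : item F IV m a k = true) :
    ∃ l i j, k l i j = true ∧ pt F g ω j = (g l)⁻¹ • pt F g ω i := by
  simp only [item, force_eq, band_eq, Bool.and_eq_true, blt_true_iff, bif'_eq] at h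
  obtain ⟨h1, h2⟩ := h
  split_ifs at h2
  · exact ⟨_, _, _, h2, H _ h1⟩
  · refine ⟨_, _, _, h2, ?_⟩
    rw [H _ h1, hl.inv _ (lab_lt _), inv_inv, smul_inv_smul]

theorem step_sound (h0 : g 0 = 1) {l w : ℕ} {k : ℕ → Bool} (h : step l w k = true) :
    ∃ w', k w' = true ∧ ev g w = g l * ev g w' := by
  simp only [step, force_eq, band_eq, bif'_eq, beq_true_iff] at h
  split_ifs at h with h1
  · exact ⟨w, h, by rw [h1, h0, one_mul]⟩
  · rw [Bool.and_eq_true, beq_true_iff] at h
    exact ⟨_, h.2, by rw [h.1]; exact ev_step h0 w⟩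

theorem walk_sound (hl : Let g IV L) {m fin : ℕ} (H : Holds F g ω m) (n : ℕ) :
    ∀ its cur w, walk F IV m fin n its cur w = true →
      pt F g ω fin = (ev g w)⁻¹ • pt F g ω cur := by
  induction n with
  | zero =>
    intro its cur w h
    replace h : band (Nat.beq cur fin) (Nat.beq w 0) = true := h
    rw [band_eq, Bool.and_eq_true, beq_true_iff, beq_true_iff] at h
    rw [h.1, h.2, ev_zero, inv_one, one_smul]
  | succ n ih =>
    intro its cur w h
    replace h : (force (Nat.land its 65535) fun a => item F IV m a fun l i j =>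
      band (Nat.beq i cur) (step l w fun w' => force (Nat.shiftRight its 16) fun its' =>
        force j fun j => walk F IV m fin n its' j w')) = true := h
    rw [force_eq] at h
    obtain ⟨l, i, j, h1, h2⟩ := item_sound hl H h
    rw [band_eq, Bool.and_eq_true, beq_true_iff] at h1
    obtain ⟨w', h3, h4⟩ := step_sound hl.zero h1.2
    rw [force_eq, force_eq] at h3
    rw [ih _ _ _ h3, h2, h4, h1.1, mul_inv_rev, mul_smul]

theorem chk1_sound (hl : Let g IV L) {m c : ℕ} (H : Holds F g ω m) (h : chk1 F IV L m c = true) :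
    Holds F g ω (m + 1) := by
  intro i hi
  rcases Nat.lt_succ_iff_lt_or_eq.1 hi with hi | rfl
  · exact H i hi
  simp only [chk1, force_eq] at h
  obtain ⟨w, h1, h2⟩ := step_sound hl.zero h
  rw [ev_rot hl.zero (hl.rel _)] at h2
  rw [walk_sound hl H _ _ _ _ h1, ← mul_smul, ← mul_inv_rev, mul_eq_one_comm.1 h2.symm, inv_one,
    one_smul]

theorem Holds.step (hl : Let g IV L) {l : List ℕ} {m' : ℕ} :
    ∀ {m}, Holds F g ω m → chkL F IV L l m' m = true → Holds F g ω m' := by
  induction l with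
  | nil => intro m H h; rwa [← (beq_true_iff _ _).1 h]
  | cons c l ih =>
    intro m H h
    replace h : band (chk1 F IV L m c) (force (Nat.succ m) (chkL F IV L l m')) = true := h
    rw [band_eq, Bool.and_eq_true, force_eq] at h
    exact ih (chk1_sound hl H h.1) h.2

/-- a letter fixes the base point -/
theorem Holds.fix {m i x : ℕ} (H : Holds F g ω m) (hi : i < m) (hx : F i = x) (h : x < 16) :
    g x • ω = ω := by
  have := H i hi
  rw [hx] at this
  have h0 : ∀ x, x < 16 → lab x = x ∧ src x = 0 ∧ tgt x = 0 := by decide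
  obtain ⟨h1, h2, h3⟩ := h0 x h
  rw [h1, h2, h3, pt_zero, eq_inv_smul_iff] at this
  exact this

theorem Holds.closed (hl : Let g IV L) {m nf x T : ℕ} (H : Holds F g ω m)
    (h : chkC F IV m nf x T = true) :
    g x ∈ MulAction.stabilizer G (pt F g ω '' Set.Iio nf) := by
  have hm : Set.MapsTo (fun y => (g x)⁻¹ • y) (pt F g ω '' Set.Iio nf) (pt F g ω '' Set.Iio nf) := by
    rintro _ ⟨k, hk, rfl⟩
    have := (allLt_iff _ _).1 h k hk
    rw [force_eq] at this
    obtain ⟨l, i, j, h1, h2⟩ := item_sound hl H this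
    simp only [band_eq, Bool.and_eq_true, beq_true_iff, blt_true_iff] at h1
    obtain ⟨rfl, rfl, h3⟩ := h1
    exact ⟨j, h3, h2⟩
  rw [← Subgroup.inv_mem_iff, MulAction.mem_stabilizer_iff]
  have hf : (pt F g ω '' Set.Iio nf).Finite := (Set.finite_Iio nf).image _
  exact ((hf.injOn_iff_bijOn_of_mapsTo hm).1 (MulAction.injective _).injOn).image_eq

theorem smul_one_iff {H : Subgroup G} {a : G} : a • ((1 : G) : G ⧸ H) = ((1 : G) : G ⧸ H) ↔ a ∈ H := by
  rw [MulAction.Quotient.smul_mk, QuotientGroup.eq]; simp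

/-- the order of a group that stabilises the set of the first `nf` cosets -/
theorem card_le_of_closed [Finite G] {H K : Subgroup G} {nf : ℕ} (h0 : 0 < nf)
    (h : K ≤ MulAction.stabilizer G (pt F g ((1 : G) : G ⧸ H) '' Set.Iio nf)) :
    Nat.card K ≤ nf * Nat.card H := by
  have h1 : MulAction.orbit K ((1 : G) : G ⧸ H) ⊆ pt F g ((1 : G) : G ⧸ H) '' Set.Iio nf := by
    rintro _ ⟨k, rfl⟩
    rw [← MulAction.mem_stabilizer_iff.1 (h k.2)]
    exact ⟨_, ⟨0, h0, pt_zero _ _ _⟩, rfl⟩
  have h2 : (MulAction.orbit K ((1 : G) : G ⧸ H)).ncard ≤ nf := by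
    refine (Set.ncard_le_ncard h1 ((Set.finite_Iio nf).image _)).trans
      ((Set.ncard_image_le (Set.finite_Iio nf)).trans ?_)
    simp
  have h3 : Nat.card (MulAction.stabilizer K ((1 : G) : G ⧸ H)) ≤ Nat.card H := by
    refine Nat.card_le_card_of_injective (fun k => ⟨k.1.1, ?_⟩) ?_
    · exact smul_one_iff.1 k.2
    · intro a b hab
      exact Subtype.ext (Subtype.ext (Subtype.mk.inj hab))
  rw [← (MulAction.stabilizer K ((1 : G) : G ⧸ H)).index_mul_card, MulAction.index_stabilizer]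
  exact Nat.mul_le_mul h2 h3

end

end CfsgH9.TC
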