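/-
The amalgam of `2 × A₅` and `2³:7:3`: letters p=1 q=2 r=3 t=4 f=5 f⁻¹=6 z=7 z⁻¹=8.
-/
import Cfsg.Agent.H9.TC

set_option autoImplicit false

namespace CfsgH9.J1

open CfsgH5 CfsgH9.TC

noncomputable section

/-- relators in the letters of `2 × A₅` -/
def relsC : List (List ℕ) :=
  [[], [1, 1], [2, 2], [3, 3], [4, 4], [5, 6], [6, 5],
   [1, 2, 1, 2, 1, 2, 1, 2, 1, 2], [2, 3, 2, 3, 2, 3], [1, 3, 1, 3],
   [1, 2, 3, 1, 2, 3, 1, 2, 3, 1, 2, 3, 1, 2, 3], [4, 1, 4, 1], [4, 2, 4, 2], [4, 3, 4, 3],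
   [6, 2, 1, 3, 2, 1, 2], [5, 5, 5]]

/-- relators that contain `z` -/
def relsZ : List (List ℕ) :=
  [[7, 8], [8, 7], [7, 7, 7, 7, 7, 7, 7], [8, 4, 7, 3], [8, 3, 7, 1], [8, 1, 7, 4, 3],
   [6, 7, 5, 8, 8]]

/-- inverses of letters -/
def IV : ℕ := 0x785643210

variable {G : Type*} [Group G]

/-- value of a word -/
def wd (g : ℕ → G) (l : List ℕ) : G := (l.map g).prod

/-- the relations of the amalgam -/
structure Base (g : ℕ → G) : Prop where
  zero : g 0 = 1
  big : ∀ l, 9 ≤ l → g l = 1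
  relC : ∀ l ∈ relsC, wd g l = 1
  relZ : ∀ l ∈ relsZ, wd g l = 1

variable {g : ℕ → G}

theorem Base.rel (h : Base g) {w : List ℕ} (hw : wd g w = 1) :
    ∀ l ∈ relsC ++ (relsZ ++ [w]), (l.map g).prod = 1 := by
  intro l hl
  rcases List.mem_append.1 hl with hl | hl
  · exact h.relC l hl
  rcases List.mem_append.1 hl with hl | hl
  · exact h.relZ l hl
  · rw [List.mem_singleton.1 hl]; exact hw

theorem Base.two (h : Base g) {a b : ℕ} (hab : [b, a] ∈ relsC ++ relsZ) : g b = (g a)⁻¹ := by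
  have : wd g [b, a] = 1 := by
    rcases List.mem_append.1 hab with hl | hl
    exacts [h.relC _ hl, h.relZ _ hl]
  simp only [wd, List.map, List.prod_cons, List.prod_nil, mul_one] at this
  exact eq_inv_of_mul_eq_one_left this

theorem Base.inv (h : Base g) (l : ℕ) (hl : l < 16) : g (ap 4 15 IV l) = (g l)⁻¹ := by
  have : ∀ l, l < 16 → l = 0 ∧ ap 4 15 IV l = 0 ∨ 9 ≤ l ∧ ap 4 15 IV l = 0 ∨
      [ap 4 15 IV l, l] ∈ relsC ++ relsZ := by decide +kernel
  rcases this l hl with ⟨h1, h2⟩ | ⟨h1, h2⟩ | h1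
  · rw [h2, h1, h.zero, inv_one]
  · rw [h2, h.big l h1, h.zero, inv_one]
  · exact h.two h1

theorem Base.let (h : Base g) {w : List ℕ} (hw : wd g w = 1) {L : List ℕ}
    (hL : relChk (relsC ++ (relsZ ++ [w])) L = true) : Let g IV L :=
  ⟨h.zero, h.inv, relOK_of_chk h.zero hL (h.rel hw)⟩

theorem fix_sub {H : Subgroup G} (hH : ∀ l, 1 ≤ l → l ≤ 6 → g l ∈ H) (h0 : g 0 = 1) :
    ∀ l, l < 16 → tb 127 l = true → g l • ((1 : G) : G ⧸ H) = ((1 : G) : G ⧸ H) := by
  intro l hl h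
  have : ∀ l, l < 16 → tb 127 l = true → l = 0 ∨ 1 ≤ l ∧ l ≤ 6 := by decide
  rcases this l hl h with rfl | h
  · rw [h0, one_smul]
  · exact smul_one_iff.2 (hH l h.1 h.2)

theorem fix_bot (h0 : g 0 = 1) {Ω : Type*} [MulAction G Ω] (ω : Ω) :
    ∀ l, l < 16 → tb 1 l = true → g l • ω = ω := by
  intro l hl h
  have : ∀ l, l < 16 → tb 1 l = true → l = 0 := by decide
  rw [this l hl h, h0, one_smul]

theorem Base.mem7 (h : Base g) {H : Subgroup G} (h8 : g 8 ∈ H) : g 7 ∈ H := by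
  rw [h.two (a := 8) (b := 7) (by decide)]; exact H.inv_mem h8

theorem wd_prod {K : Type*} [Group K] (g : ℕ → G) (k : ℕ → K) (l : List ℕ) :
    wd (fun i => (g i, k i)) l = (wd g l, wd k l) := by
  induction l with
  | nil => rfl
  | cons a l ih =>
    simp only [wd, List.map_cons, List.prod_cons] at ih ⊢
    rw [ih]; rfl

theorem Base.prod {K : Type*} [Group K] {k : ℕ → K} (h : Base g) (h' : Base k) :
    Base fun i => (g i, k i) :=
  ⟨by simp [h.zero, h'.zero, Prod.ext_iff], fun l hl => by simp [h.big l hl, h'.big l hl, Prod.ext_iff],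
    fun l hl => by rw [wd_prod, h.relC l hl, h'.relC l hl]; rfl,
    fun l hl => by rw [wd_prod, h.relZ l hl, h'.relZ l hl]; rfl⟩

theorem map_wd {K : Type*} [Group K] (φ : G →* K) (g : ℕ → G) (l : List ℕ) :
    φ (wd g l) = wd (fun i => φ (g i)) l := by
  rw [wd, map_list_prod, List.map_map]; rfl

theorem wd_congr {g g' : ℕ → G} {l : List ℕ} (h : ∀ i ∈ l, g i = g' i) : wd g l = wd g' l := by
  rw [wd, wd, List.map_congr_left h]

theorem wd_append (g : ℕ → G) (l l' : List ℕ) : wd g (l ++ l') = wd g l * wd g l' := by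
  simp [wd]

/-- the inverse word -/
def rv (l : List ℕ) : List ℕ := (l.map (ap 4 15 IV)).reverse

/-- the commutator word -/
def comm (a b : List ℕ) : List ℕ := a ++ (b ++ (rv a ++ rv b))

theorem Base.wd_rv (h : Base g) {l : List ℕ} (hl : ∀ x ∈ l, x < 16) : wd g (rv l) = (wd g l)⁻¹ := by
  induction l with
  | nil => simp [rv, wd]
  | cons a l ih =>
    have e : rv (a :: l) = rv l ++ [ap 4 15 IV a] := by simp [rv]
    rw [e, wd_append, ih fun x hx => hl x (List.mem_cons_of_mem _ hx)]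
    simp [wd, h.inv a (hl a List.mem_cons_self)]

theorem Base.comm (h : Base g) {a b : List ℕ} (ha : ∀ x ∈ a, x < 16) (hb : ∀ x ∈ b, x < 16)
    (hc : Commute (wd g a) (wd g b)) : wd g (comm a b) = 1 := by
  rw [J1.comm, wd_append, wd_append, wd_append, h.wd_rv ha, h.wd_rv hb, ← mul_assoc, hc.eq]
  group

end

end CfsgH9.J1
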