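/-
The group `2 × A₅`: finite checks.
-/
import Cfsg.Agent.H9.J1Base

set_option autoImplicit false
set_option maxRecDepth 100000

namespace CfsgH9.J1

open Equiv

/-- the alternating group of degree five -/
abbrev A5 : Type := alternatingGroup (Fin 5)
/-- the centraliser of an involution -/
abbrev MM : Type := Multiplicative (ZMod 2) × A5

/-- letter `p` -/
def mP : MM := (1, ⟨swap 1 2 * swap 3 4, Perm.mem_alternatingGroup.2 (by decide)⟩)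
/-- letter `q` -/
def mQ : MM := (1, ⟨swap 0 1 * swap 2 3, Perm.mem_alternatingGroup.2 (by decide)⟩)
/-- letter `r` -/
def mR : MM := (1, ⟨swap 1 4 * swap 2 3, Perm.mem_alternatingGroup.2 (by decide)⟩)
/-- letter `t` -/
def mT : MM := (Multiplicative.ofAdd 1, 1)
/-- letter `f` -/
def mF : MM := mQ * (mP * (mR * (mQ * (mP * mQ))))
/-- an element of order three -/
def mX : MM := mQ * mR
/-- an element of order five -/
def mY : MM := mQ * (mP * (mQ * mR))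
/-- the second element of order three inverted by `r` -/
def mX' : MM := mP * (mQ * (mR * mP))
/-- the second element of order five inverted by `r` -/
def mY' : MM := mP * (mQ * (mP * (mQ * (mR * mP))))

/-- the letters -/
def mL (i : ℕ) : MM := [1, mP, mQ, mR, mT, mF, mF⁻¹].getD i 1

theorem mL_rel : ∀ l ∈ relsC, wd mL l = 1 := by decide +kernel

theorem mT_comm (a : MM) : a * mT = mT * a := by
  revert a; decide +kernel

theorem m_center : ∀ a : MM, a * mP = mP * a → a * mQ = mQ * a → a = 1 ∨ a = mT := by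
  decide +kernel

theorem card_MM : Nat.card MM = 120 := by
  rw [Nat.card_eq_fintype_card]; decide +kernel

/-- addition of bit vectors -/
def xr (a b : Fin 8) : Fin 8 := ⟨(a.1 ^^^ b.1) % 8, Nat.mod_lt _ (by norm_num)⟩

/-- the elements of the Sylow subgroup -/
def eM (k : Fin 8) : MM :=
  ![1, mT, mR, mT * mR, mP, mT * mP, mR * mP, mT * (mR * mP)] k

theorem eM_mul : ∀ a b : Fin 8, eM a * eM b = eM (xr a b) := by decide +kernel
theorem eM_inj : Function.Injective eM := by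
  intro a b; revert a b; decide +kernel
theorem xr_comm : ∀ a b : Fin 8, xr a b = xr b a := by decide
theorem xr_self : ∀ a : Fin 8, xr a a = 0 := by decide

theorem m_cent_e : ∀ a : MM, ∀ k : Fin 8, k ≠ 0 → k ≠ 1 → a * eM k = eM k * a → ∃ j, a = eM j := by
  decide +kernel

theorem m_three : ∀ a : MM, a * (a * a) = 1 → a = 1 ∨ ∃ m : A5, a = (1, m)⁻¹ * mX * (1, m) := by
  decide +kernel

theorem m_five : ∀ a : MM, a * (a * (a * (a * a))) = 1 → a = 1 ∨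
    ∃ m : A5, a = (1, m)⁻¹ * mY * (1, m) ∨ a = (1, m)⁻¹ * (mY * mY) * (1, m) := by
  decide +kernel

theorem m_invX : ∀ a : MM, a * a = 1 → a * mX = mX * a → a = 1 ∨ a = mT := by decide +kernel
theorem m_invY : ∀ a : MM, a * a = 1 → a * mY = mY * a → a = 1 ∨ a = mT := by decide +kernel
theorem m_centX : ∀ a : MM, a * mX = mX * a → a ∈ [1, mX, mX * mX, mT, mT * mX, mT * (mX * mX)] := by
  decide +kernel

theorem m_key : ∀ a : MM, a * a = 1 → ∀ s ∈ [mR, mT * mR], a * s = s * a ∨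
    ∃ n ∈ List.range 10, (s * a) ^ n ∈ [mX, mX', mY, mY'] := by
  decide +kernel

theorem m_count : (Finset.univ.filter fun a : MM => a * a = 1 ∧ ∀ j, a ≠ eM j).card = 24 := by
  decide +kernel

/-- words for the elements of `A₅` -/
def w60 : List (List ℕ) := [[], [1], [2], [3], [1, 2], [1, 3], [2, 1], [2, 3], [3, 2], [1, 2, 1], [1, 2, 3], [1, 3, 2], [2, 1, 2], [2, 1, 3], [2, 3, 2], [3, 2, 1], [1, 2, 1, 2], [1, 2, 1, 3], [1, 2, 3, 2], [1, 3, 2, 1], [2, 1, 2, 1], [2, 1, 2, 3], [2, 1, 3, 2], [2, 3, 2, 1], [3, 2, 1, 2], [1, 2, 1, 2, 1], [1, 2, 1, 2, 3], [1, 2, 1, 3, 2], [1, 2, 3, 2, 1], [1, 3, 2, 1, 2], [2, 1, 2, 1, 3], [2, 1, 2, 3, 2], [2, 1, 3, 2, 1], [2, 3, 2, 1, 2], [3, 2, 1, 2, 1], [3, 2, 1, 2, 3], [1, 2, 1, 2, 1, 3], [1, 2, 1, 2, 3, 2], [1, 2, 1, 3, 2, 1], [1, 2, 3, 2, 1, 2], [1, 3, 2, 1, 2, 1], [1, 3, 2, 1, 2, 3], [2, 1, 2, 1, 3, 2], [2, 1, 2, 3, 2, 1], [2, 1,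 3, 2, 1, 2], [2, 3, 2, 1, 2, 1], [2, 3, 2, 1, 2, 3], [3, 2, 1, 2, 1, 3], [1, 2, 1, 2, 1, 3, 2], [1, 2, 1, 2, 3, 2, 1], [1, 2, 1, 3, 2, 1, 2], [1, 2, 3, 2, 1, 2, 1], [1, 2, 3, 2, 1, 2, 3], [1, 3, 2, 1, 2, 1, 3], [2, 1, 2, 1, 3, 2, 1], [2, 1, 2, 3, 2, 1, 2], [2, 1, 3, 2, 1, 2, 1], [2, 1, 3, 2, 1, 2, 3], [2, 3, 2, 1, 2, 1, 3], [3, 2, 1, 2, 1, 3, 2]]

theorem m_gen : ∀ a : MM, ∃ w ∈ w60, a = wd mL w ∨ a = mT * wd mL w := by decide +kernel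

theorem w60_le : ∀ w ∈ w60, ∀ i ∈ w, i = 1 ∨ i = 2 ∨ i = 3 := by decide

/-- an outer automorphism -/
def mα : MM ≃* MM :=
  MulEquiv.prodCongr (MulEquiv.refl _) (MulAut.conjNormal (swap (2 : Fin 5) 3))

theorem mα_e : ∀ k : Fin 8, mα (eM k) = eM (![0, 1, 2, 3, 6, 7, 4, 5] k) := by decide +kernel

theorem m_small : mX ≠ 1 ∧ mY ≠ 1 ∧ mX * (mX * mX) = 1 ∧ mY ^ 5 = 1 ∧ mR * mX * mR = mX⁻¹ ∧
    mR * mY * mR = mY⁻¹ ∧ mF ≠ 1 ∧ mF * (mF * mF) = 1 ∧ mX' = mP⁻¹ * mX * mP ∧ mQ ≠ 1 ∧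
    mR * mY ≠ mY * mR ∧ mT * mR * mY ≠ mY * (mT * mR) := by
  refine ⟨?_, ?_, ?_, ?_, ?_, ?_, ?_, ?_, ?_, ?_, ?_, ?_⟩ <;> decide +kernel

theorem m_actF : mF⁻¹ * mT * mF = eM 1 ∧ mF⁻¹ * mR * mF = eM 4 ∧ mF⁻¹ * mP * mF = eM 6 := by
  decide +kernel

end CfsgH9.J1
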