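/-
Groups with an involution centraliser `2 × A₅`: the Sylow subgroup and its normaliser.
-/
import Cfsg.Agent.H9.J1Model
import Cfsg.Agent.H1.Transfer

set_option autoImplicit false
set_option maxRecDepth 100000

namespace CfsgH9.J1

open Subgroup

/-- linear maps of bit vectors, by the images of the basis -/
abbrev T3 : Type := Fin 8 × Fin 8 × Fin 8

/-- application -/
def ap3 (A : T3) (k : Fin 8) : Fin 8 :=
  xr (if k.1 % 2 = 1 then A.1 else 0)
    (xr (if k.1 / 2 % 2 = 1 then A.2.1 else 0) (if k.1 / 4 % 2 = 1 then A.2.2 else 0))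

/-- first `A`, then `B` -/
def cp (A B : T3) : T3 := (ap3 B A.1, ap3 B A.2.1, ap3 B A.2.2)

/-- identity -/
def aI : T3 := (1, 2, 4)
/-- the action of `f` -/
def aF : T3 := (1, 4, 6)
/-- the action of `z` -/
def aZ : T3 := (2, 4, 3)
/-- the mirrored action -/
def aZ' : T3 := (2, 6, 5)

/-- words in `aF` and `A` -/
def evW (A : T3) (w : List ℕ) : T3 := w.foldr (fun c R => cp (if c = 1 then A else aF) R) aI

theorem fc : ∀ A : T3, A.1 ≠ 1 → (∀ k, k ≠ 0 → ap3 A k ≠ 0) →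
    ∃ w ∈ [[0, 0, 1, 1, 0, 1, 1, 1, 1], [1, 0, 0, 1, 0, 1], [0, 1, 0, 0, 1, 0], [0, 1, 0, 1],
      [0, 0, 1, 0, 1, 0, 0, 1, 0], [1, 1, 0, 0, 1, 1, 1, 1, 0], [0, 1, 1, 1, 0, 1, 0, 1, 1],
      [1, 0, 1, 1, 1, 0, 1, 1, 0], [0, 0, 1, 1, 0, 1, 1]],
      evW A w = aZ ∨ evW A w = aZ' ∨ (evW A w ≠ aI ∧ cp (evW A w) (evW A w) = aI) := by
  decide +kernel

theorem ap3_basis : ∀ A : T3, ap3 A 1 = A.1 ∧ ap3 A 2 = A.2.1 ∧ ap3 A 4 = A.2.2 := by
  decide +kernel

theorem ap3_aI : ∀ k, ap3 aI k = k := by decide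

variable {G : Type*} [Group G]

/-- the local hypothesis -/
structure Loc (φ : MM →* G) : Prop where
  inj : Function.Injective φ
  cent : ∀ g, g * φ mT = φ mT * g → ∃ m, g = φ m
  syl : ¬ 16 ∣ Nat.card G

/-- elements of the Sylow subgroup -/
def el (φ : MM →* G) (k : Fin 8) : G := φ (eM k)

variable {φ : MM →* G}

theorem el_mul (a b : Fin 8) : el φ a * el φ b = el φ (xr a b) := by
  rw [el, el, el, ← map_mul, eM_mul]

theorem el_zero : el φ 0 = 1 := map_one φ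
theorem el_one : el φ 1 = φ mT := rfl
theorem el_two : el φ 2 = φ mR := rfl
theorem el_three : el φ 3 = φ mT * φ mR := map_mul φ _ _
theorem el_four : el φ 4 = φ mP := rfl

theorem el_sq (a : Fin 8) : el φ a * el φ a = 1 := by rw [el_mul, xr_self, el_zero]

theorem el_inv (a : Fin 8) : (el φ a)⁻¹ = el φ a := inv_eq_of_mul_eq_one_left (el_sq a)

theorem el_comm (a b : Fin 8) : el φ a * el φ b = el φ b * el φ a := by
  rw [el_mul, el_mul, xr_comm]

theorem Loc.el_inj (h : Loc φ) : Function.Injective (el φ) := h.inj.comp eM_inj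

theorem Loc.el_ne (h : Loc φ) {k : Fin 8} (hk : k ≠ 0) : el φ k ≠ 1 := fun e =>
  hk (h.el_inj (e.trans el_zero.symm))

variable (φ) in
/-- the Sylow subgroup -/
def SS : Subgroup G where
  carrier := Set.range (el φ)
  mul_mem' := by rintro _ _ ⟨a, rfl⟩ ⟨b, rfl⟩; exact ⟨_, (el_mul a b).symm⟩
  one_mem' := ⟨0, el_zero⟩
  inv_mem' := by rintro _ ⟨a, rfl⟩; exact ⟨a, (el_inv a).symm⟩

theorem mem_SS {g : G} : g ∈ SS φ ↔ ∃ k, el φ k = g := Iff.rfl

theorem el_mem (k : Fin 8) : el φ k ∈ SS φ := ⟨k, rfl⟩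

theorem Loc.card_SS (h : Loc φ) : Nat.card (SS φ) = 8 := by
  have := Nat.card_range_of_injective h.el_inj
  rwa [Nat.card_eq_fintype_card (α := Fin 8), Fintype.card_fin] at this

theorem pgroup_SS : IsPGroup 2 (SS φ) := by
  rintro ⟨_, k, rfl⟩
  exact ⟨1, Subtype.ext (by simpa [pow_two] using el_sq k)⟩

theorem Loc.sylowIn (h : Loc φ) : CfsgH1.IsSylowIn 2 (SS φ) ⊤ := by
  refine ⟨le_top, pgroup_SS, fun hd => h.syl ?_⟩
  rw [relIndex_top_right] at hd
  rw [← (SS φ).card_mul_index, h.card_SS]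
  exact Nat.mul_dvd_mul_left 8 hd

theorem SS_comm : SS φ ≤ centralizer (SS φ : Set G) := by
  rintro _ ⟨a, rfl⟩ _ ⟨b, rfl⟩
  exact el_comm b a

theorem Loc.mem_SS_of_comm (h : Loc φ) {g : G} {k : Fin 8} (h0 : k ≠ 0) (h1 : k ≠ 1)
    (ht : g * φ mT = φ mT * g) (hk : g * el φ k = el φ k * g) : g ∈ SS φ := by
  obtain ⟨m, rfl⟩ := h.cent g ht
  rw [el, ← map_mul, ← map_mul] at hk
  obtain ⟨j, rfl⟩ := m_cent_e m k h0 h1 (h.inj hk)
  exact el_mem j

theorem Loc.mem_SS_of_sq (h : Loc φ) {g : G} (hg : g ∈ normalizer (SS φ : Set G))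
    (h2 : g * g ∈ SS φ) : g ∈ SS φ := by
  obtain ⟨k, hk⟩ := h2
  have h4 : g ^ 2 ^ 2 = 1 := by
    rw [show g ^ 2 ^ 2 = (g * g) * (g * g) by simp [pow_succ, mul_assoc], ← hk, el_sq]
  have hp := (CfsgH1.isPGroup_zpowers h4).to_sup_of_normal_right' (pgroup_SS (φ := φ))
    ((zpowers_le).2 hg)
  have := h.sylowIn.sylow.is_maximal' hp le_sup_right
  have e : g ∈ zpowers g ⊔ SS φ := mem_sup_left (mem_zpowers g)
  rwa [this] at e

variable (φ) in
/-- the action of `g` on the Sylow subgroup -/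
def Act (g : G) (A : T3) : Prop := ∀ k, g⁻¹ * el φ k * g = el φ (ap3 A k)

theorem act_of_gens {g : G} {a b c : Fin 8} (h1 : g⁻¹ * el φ 1 * g = el φ a)
    (h2 : g⁻¹ * el φ 2 * g = el φ b) (h4 : g⁻¹ * el φ 4 * g = el φ c) : Act φ g (a, b, c) := by
  intro k
  have key : ∀ (P : Prop) [Decidable P] (i j : Fin 8), g⁻¹ * el φ i * g = el φ j →
      g⁻¹ * el φ (if P then i else 0) * g = el φ (if P then j else 0) := by
    intro P _ i j hij
    split_ifs
    · exact hij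
    · simp [el_zero]
  conv_lhs => rw [← ap3_aI k]
  rw [ap3, ap3, ← el_mul, ← el_mul, ← el_mul, ← el_mul,
    ← key _ _ _ h1, ← key _ _ _ h2, ← key _ _ _ h4]
  simp only [aI]
  group

theorem Act.mul {g g' : G} {A B : T3} (h : Act φ g A) (h' : Act φ g' B) :
    Act φ (g * g') (cp A B) := by
  have key : ∀ k, (g * g')⁻¹ * el φ k * (g * g') = el φ (ap3 B (ap3 A k)) := fun k => by
    rw [← h', ← h]; group
  obtain ⟨e1, e2, e4⟩ := ap3_basis A
  exact act_of_gens (by rw [key, e1]) (by rw [key, e2]) (by rw [key, e4])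

theorem act_one : Act φ 1 aI := fun k => by simp [ap3_aI]

theorem act_el (j : Fin 8) : Act φ (el φ j) aI := fun k => by
  rw [ap3_aI, mul_assoc, el_comm k j, inv_mul_cancel_left]

theorem act_F : Act φ (φ mF) aF := by
  obtain ⟨h1, h2, h4⟩ := m_actF
  refine act_of_gens ?_ ?_ ?_
  · conv_rhs => rw [el, ← h1, map_mul, map_mul, map_inv]
    rfl
  · conv_rhs => rw [el, ← h2, map_mul, map_mul, map_inv]
    rfl
  · conv_rhs => rw [el, ← h4, map_mul, map_mul, map_inv]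
    rfl

theorem Act.norm {g : G} {A : T3} (h : Act φ g A) : g ∈ normalizer (SS φ : Set G) := by
  have : Finite (SS φ : Set G) := Set.finite_range (el φ)
  refine (Subgroup.inv_mem_iff _).1 (mem_normalizer_fintype ?_)
  rintro _ ⟨k, rfl⟩
  rw [inv_inv, h]; exact el_mem _

theorem exists_act {g : G} (hg : g ∈ normalizer (SS φ : Set G)) : ∃ A, Act φ g A := by
  have key : ∀ k, ∃ j, g⁻¹ * el φ k * g = el φ j := fun k => by
    obtain ⟨j, hj⟩ := (mem_normalizer_iff''.1 hg _).1 (el_mem k)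
    exact ⟨j, hj.symm⟩
  obtain ⟨a, ha⟩ := key 1
  obtain ⟨b, hb⟩ := key 2
  obtain ⟨c, hc⟩ := key 4
  exact ⟨_, act_of_gens ha hb hc⟩

theorem Loc.mem_of_act (h : Loc φ) {g : G} (hg : Act φ g aI) : g ∈ SS φ := by
  have key : ∀ k, g * el φ k = el φ k * g := fun k => by
    have := hg k
    rw [ap3_aI] at this
    conv_lhs => rw [← this]
    group
  exact h.mem_SS_of_comm (k := 2) (by decide) (by decide) (key 1) (key 2)

theorem Loc.act_unique (h : Loc φ) {g : G} {A B : T3} (hA : Act φ g A) (hB : Act φ g B) :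
    A = B := by
  have key : ∀ k, ap3 A k = ap3 B k := fun k => h.el_inj ((hA k).symm.trans (hB k))
  obtain ⟨e1, e2, e4⟩ := ap3_basis A
  obtain ⟨f1, f2, f4⟩ := ap3_basis B
  exact Prod.ext (by rw [← e1, key, f1]) (Prod.ext (by rw [← e2, key, f2]) (by rw [← e4, key, f4]))

theorem Loc.act_invol (h : Loc φ) {g : G} {A : T3} (hA : Act φ g A) (h2 : cp A A = aI) :
    A = aI := by
  obtain ⟨k, rfl⟩ := h.mem_SS_of_sq hA.norm (h.mem_of_act (h2 ▸ hA.mul hA))
  exact h.act_unique hA (act_el k)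

theorem Loc.exists_move [Finite G] [IsSimpleGroup G] (h : Loc φ) :
    ∃ g ∈ normalizer (SS φ : Set G), g⁻¹ * el φ 1 * g ≠ el φ 1 := by
  by_contra hc
  push Not at hc
  have h1 := h.sylowIn.inf_resIn_of_comm SS_comm
  have hN : CfsgH1.IsSylowIn 2 (SS φ) (normalizer (SS φ : Set G)) :=
    h.sylowIn.of_le le_normalizer le_top
  have h2 := (hN.commutator_sup_centralizer le_rfl SS_comm).2
  have h3 : CfsgH1.resIn 2 (⊤ : Subgroup G) = ⊤ := by
    have hn : (CfsgH1.resIn 2 (⊤ : Subgroup G)).Normal :=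
      normalizer_eq_top_iff.1 (top_unique (CfsgH1.le_normalizer_resIn ⊤))
    refine (hn.eq_bot_or_eq_top).resolve_left fun e => ?_
    have h3 : φ mX ^ 3 = 1 := by
      rw [← map_pow, show mX ^ 3 = mX * (mX * mX) by simp [pow_succ, mul_assoc], m_small.2.2.1,
        map_one]
    have : φ mX ∈ CfsgH1.resIn 2 (⊤ : Subgroup G) := CfsgH1.mem_resIn (mem_top _)
      (Nat.Coprime.coprime_dvd_left (orderOf_dvd_of_pow_eq_one h3) (by norm_num))
    rw [e, mem_bot, ← map_one φ] at this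
    exact m_small.1 (h.inj this)
  rw [h3, inf_top_eq, top_inf_eq] at h1
  rw [← h1] at h2
  have : el φ 1 ∈ SS φ ⊓ centralizer (normalizer (SS φ : Set G) : Set G) :=
    ⟨el_mem 1, fun g hg => by
      have := hc g hg
      conv_lhs => rw [← this]
      group⟩
  rw [h2, mem_bot] at this
  exact h.el_ne (by decide) this

theorem Loc.exists_mu [Finite G] [IsSimpleGroup G] (h : Loc φ) :
    ∃ z, Act φ z aZ ∨ Act φ z aZ' := by
  obtain ⟨g, hg, hne⟩ := h.exists_move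
  obtain ⟨A, hA⟩ := exists_act hg
  have key : ∀ w, ∃ z, Act φ z (evW A w) := fun w => by
    induction w with
    | nil => exact ⟨1, act_one⟩
    | cons c w ih =>
      obtain ⟨z, hz⟩ := ih
      show ∃ z, Act φ z (cp (if c = 1 then A else aF) (evW A w))
      split_ifs
      exacts [⟨_, hA.mul hz⟩, ⟨_, act_F.mul hz⟩]
  obtain ⟨w, -, hw⟩ := fc A (fun e => hne (by rw [hA, (ap3_basis A).1, e])) fun k hk e => by
    have := hA k
    rw [e, el_zero] at this
    refine h.el_ne hk ?_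
    rw [show el φ k = g * (g⁻¹ * el φ k * g) * g⁻¹ by group, this]; group
  obtain ⟨z, hz⟩ := key w
  rcases hw with e | e | ⟨e1, e2⟩
  · exact ⟨z, Or.inl (e ▸ hz)⟩
  · exact ⟨z, Or.inr (e ▸ hz)⟩
  · exact absurd (h.act_invol hz e2) e1

/-- correction terms in powers of `z ^ 2 * el k` -/
def sq (k : Fin 8) : ℕ → Fin 8
  | 0 => 0
  | i + 1 => xr (ap3 aZ (ap3 aZ (sq k i))) k

theorem fc2 : ∀ k : Fin 8, xr (sq k 4) (ap3 aF (xr (sq k 2) (ap3 aF k))) = 0 →
    ∃ j, xr k (ap3 aF j) = xr (ap3 aZ j) j := by decide +kernel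

theorem Act.pow {g : G} {A : T3} (h : Act φ g A) (n : ℕ) :
    Act φ (g ^ n) ((fun B => cp B A)^[n] aI) := by
  induction n with
  | zero => simpa using act_one
  | succ n ih => rw [pow_succ, Function.iterate_succ_apply']; exact ih.mul h

theorem Act.el_mul {g : G} {A : T3} (h : Act φ g A) (k : Fin 8) :
    el φ k * g = g * el φ (ap3 A k) := by rw [← h]; group

theorem Loc.pow_seven (h : Loc φ) {z : G} (hz : Act φ z aZ) : z ^ 7 = 1 := by
  obtain ⟨k, hk⟩ := h.mem_of_act (g := z ^ 7) (by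
    have := hz.pow 7
    rwa [show (fun B => cp B aZ)^[7] aI = aI by decide +kernel] at this)
  have h1 : el φ (ap3 aZ k) = el φ k := by rw [← hz, hk]; group
  have h2 : ∀ k, ap3 aZ k = k → k = 0 := by decide
  rw [← hk, h2 k (h.el_inj h1), el_zero]

theorem F_cube : φ mF * (φ mF * φ mF) = 1 := by
  rw [← map_mul, ← map_mul, m_small.2.2.2.2.2.2.2.1, map_one]

theorem Loc.exists_z (h : Loc φ) {z : G} (hz : Act φ z aZ) :
    ∃ z, Act φ z aZ ∧ (φ mF)⁻¹ * z * φ mF = z ^ 2 := by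
  have h7 := h.pow_seven hz
  have hF : (φ mF)⁻¹ = φ mF * φ mF := inv_eq_of_mul_eq_one_right F_cube
  obtain ⟨k, hk⟩ := h.mem_of_act (g := z ^ 5 * (φ mF * φ mF * z * φ mF)) (by
    have := (hz.pow 5).mul (((act_F.mul act_F).mul hz).mul act_F)
    rwa [show cp ((fun B => cp B aZ)^[5] aI) (cp (cp (cp aF aF) aZ) aF) = aI by decide +kernel]
      at this)
  have h1 : (φ mF)⁻¹ * z * φ mF = z ^ 2 * el φ k := by
    rw [hk, ← mul_assoc, ← pow_add, h7, one_mul, hF]
  have hp : ∀ i, (z ^ 2 * el φ k) ^ i = z ^ (2 * i) * el φ (sq k i) := fun i => by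
    induction i with
    | zero => simp [sq, el_zero]
    | succ i ih =>
      rw [pow_succ, ih, sq, ← J1.el_mul, mul_add, pow_add, mul_one, mul_assoc, mul_assoc,
        ← mul_assoc (el φ _), pow_two, ← mul_assoc (el φ _), hz.el_mul, mul_assoc z, hz.el_mul]
      simp only [mul_assoc]
  have hc : ∀ i j, (φ mF)⁻¹ * (z ^ i * el φ j) * φ mF =
      z ^ (2 * i) * el φ (xr (sq k i) (ap3 aF j)) := fun i j => by
    have e : ((φ mF)⁻¹ * z * φ mF) ^ i = (φ mF)⁻¹ * z ^ i * φ mF := by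
      simpa using conj_pow (a := (φ mF)⁻¹) (b := z) (i := i)
    rw [← J1.el_mul, ← mul_assoc (z ^ (2 * i)), ← hp, ← h1, ← act_F j, e]
    group
  have h3 : el φ (xr (sq k 4) (ap3 aF (xr (sq k 2) (ap3 aF k)))) = 1 := by
    have e1 := hc 2 k
    have e2 := hc 4 (xr (sq k 2) (ap3 aF k))
    rw [show 2 * 4 = 7 + 1 by rfl, pow_succ _ 7, h7, one_mul, show 4 = 2 * 2 by rfl, ← e1, ← h1] at e2
    have e3 : (φ mF)⁻¹ * ((φ mF)⁻¹ * ((φ mF)⁻¹ * z * φ mF) * φ mF) * φ mF =
        (φ mF * (φ mF * φ mF))⁻¹ * z * (φ mF * (φ mF * φ mF)) := by group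
    rw [e3, F_cube, inv_one, one_mul, mul_one] at e2
    exact (left_eq_mul.1 e2)
  obtain ⟨j, hj⟩ := fc2 k (h.el_inj (h3.trans el_zero.symm))
  refine ⟨z * el φ j, ?_, ?_⟩
  · have := hz.mul (act_el j)
    rwa [show cp aZ aI = aZ by decide] at this
  · have := hc 1 j
    rw [pow_one] at this
    rw [this, show sq k 1 = k by clear * -; revert k; decide, hj, ← J1.el_mul,
      pow_two (z * _), mul_assoc z, ← mul_assoc (el φ j), hz.el_mul]
    simp only [mul_assoc, pow_two, mul_one]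

theorem Loc.mirror (h : Loc φ) : Loc (φ.comp mα.toMonoidHom) := by
  have hT : mα mT = mT := mα_e 1
  refine ⟨h.inj.comp mα.injective, fun g hg => ?_, h.syl⟩
  simp only [MonoidHom.comp_apply, MulEquiv.coe_toMonoidHom, hT] at hg ⊢
  obtain ⟨m, rfl⟩ := h.cent g hg
  exact ⟨mα.symm m, by simp⟩

theorem Act.mirror {z : G} (hz : Act φ z aZ') : Act (φ.comp mα.toMonoidHom) z aZ := by
  have key : ∀ k, el (φ.comp mα.toMonoidHom) k = el φ (![0, 1, 2, 3, 6, 7, 4, 5] k) :=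
    fun k => congrArg φ (mα_e k)
  intro k
  rw [key, key, hz]
  congr 1
  revert k; decide

variable (φ) in
/-- the letters -/
def gL (z : G) (i : ℕ) : G := if i = 7 then z else if i = 8 then z⁻¹ else φ (mL i)

/-- the full configuration -/
structure Conf (φ : MM →* G) (z : G) : Prop extends Loc φ where
  act : Act φ z aZ
  frob : (φ mF)⁻¹ * z * φ mF = z ^ 2

theorem Loc.exists_conf [Finite G] [IsSimpleGroup G] (h : Loc φ) :
    ∃ (φ' : MM →* G) (z : G), Conf φ' z := by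
  obtain ⟨z, hz | hz⟩ := h.exists_mu
  · obtain ⟨z, h1, h2⟩ := h.exists_z hz
    exact ⟨φ, z, h, h1, h2⟩
  · obtain ⟨z, h1, h2⟩ := h.mirror.exists_z hz.mirror
    exact ⟨_, z, h.mirror, h1, h2⟩

theorem wd_gL {z : G} {l : List ℕ} (hl : ∀ i ∈ l, i < 7) : wd (gL φ z) l = φ (wd mL l) := by
  rw [map_wd]
  refine wd_congr fun i hi => ?_
  have := hl i hi
  rw [gL, if_neg (by omega), if_neg (by omega)]

theorem Conf.base {z : G} (h : Conf φ z) : Base (gL φ z) := by
  refine ⟨map_one φ, fun l hl => ?_, fun l hl => ?_, ?_⟩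
  · rw [gL, if_neg (by omega), if_neg (by omega), mL,
      List.getD_eq_default _ _ (by simp; omega), map_one]
  · rw [wd_gL (by revert l; decide), mL_rel l hl, map_one]
  · have h1 : z⁻¹ * (φ mT * (z * φ mR)) = 1 := by
      rw [← mul_assoc, ← mul_assoc, ← el_one, h.act 1]; exact el_sq 2
    have h2 : z⁻¹ * (φ mR * (z * φ mP)) = 1 := by
      rw [← mul_assoc, ← mul_assoc, ← el_two, h.act 2]; exact el_sq 4
    have h3 : z⁻¹ * (φ mP * (z * (φ mT * φ mR))) = 1 := by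
      rw [← mul_assoc, ← mul_assoc, ← el_four, h.act 4, ← el_three]; exact el_sq 3
    have h4 : (φ mF)⁻¹ * (z * (φ mF * (z⁻¹ * z⁻¹))) = 1 := by
      rw [← mul_assoc, ← mul_assoc, h.frob]; group
    have h7 := h.pow_seven h.act
    simp only [pow_succ, pow_zero, one_mul, mul_assoc] at h7
    simp [relsZ, wd, gL, mL, h1, h2, h3, h4, h7]

end CfsgH9.J1
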