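/-
Groups with an involution centraliser `2 × A₅`: the dichotomy.
-/
import Cfsg.Agent.H9.J1Loc
import Cfsg.Agent.H9.J1Coll
import Cfsg.Agent.H4.Dihedral

set_option autoImplicit false

namespace CfsgH9.J1

open Subgroup

variable {G : Type*} [Group G]

theorem cmul' (w a b : G) : w⁻¹ * a * w * (w⁻¹ * b * w) = w⁻¹ * (a * b) * w := by group

theorem cpow' (w a : G) (n : ℕ) : (w⁻¹ * a * w) ^ n = w⁻¹ * a ^ n * w := by
  simpa using conj_pow (a := w⁻¹) (b := a) (i := n)

/-- Two involutions with a product of odd order are swapped by an involution. -/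
theorem exists_mid {a b : G} (ha : a * a = 1) (hb : b * b = 1) (h : Odd (orderOf (a * b))) :
    ∃ k : ℕ, (a * b) ^ (2 * k + 1) = 1 ∧ ((a * b) ^ k * a) * ((a * b) ^ k * a) = 1 ∧
      ((a * b) ^ k * a) * a = b * ((a * b) ^ k * a) := by
  obtain ⟨k, hk⟩ := h
  have h1 : (a * b) ^ (2 * k + 1) = 1 := hk ▸ pow_orderOf_eq_one _
  have h2 := CfsgH4.inverts_pow (CfsgH4.dih_inv_left ha hb) k
  have hi : a⁻¹ = a := inv_eq_of_mul_eq_one_left ha
  rw [hi] at h2
  refine ⟨k, h1, ?_, ?_⟩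
  · rw [mul_assoc, ← mul_assoc a, h2, mul_inv_cancel]
  · have h3 : b = a * (a * b) := by rw [← mul_assoc, ha, one_mul]
    have h4 : (a * b) ^ (k + 1) = ((a * b) ^ k)⁻¹ :=
      eq_inv_of_mul_eq_one_left (by rw [← pow_add, ← h1]; congr 1; ring)
    conv_rhs => rw [h3]
    rw [mul_assoc, ha, mul_one, mul_assoc a, ← mul_assoc (a * b), ← h3, ← pow_succ', h4,
      ← mul_assoc]
    have h5 : a * ((a * b) ^ k)⁻¹ * a = (a * ((a * b) ^ k) * a)⁻¹ := by
      simp only [mul_inv_rev, hi, mul_assoc]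
    rw [h5, h2, inv_inv]

/-- odd order of a product of involutions, or a central involution -/
theorem odd_or_central [Finite G] {a b : G} (ha : a * a = 1) (hb : b * b = 1) :
    Odd (orderOf (a * b)) ∨ ∃ c ∈ zpowers (a * b), c * c = 1 ∧ c ≠ 1 ∧ Commute c a ∧ Commute c b := by
  rcases Nat.even_or_odd (orderOf (a * b)) with h | h
  · have h2 := CfsgH4.orderOf_eq_two_iff.1 (CfsgH4.orderOf_pow_half h (orderOf_pos _).ne')
    have hm : (a * b) ^ (orderOf (a * b) / 2) ∈ zpowers (a * b) := pow_mem (mem_zpowers _) _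
    exact Or.inr ⟨_, hm, h2.1, h2.2, CfsgH4.dih_commute_left ha hb hm h2.1,
      CfsgH4.dih_commute_right ha hb hm h2.1⟩
  · exact Or.inl h

theorem gen_lemma [Finite G] {x t r c : G} (ht : t * t = 1) (ht1 : t ≠ 1) (hr : r * r = 1)
    (hx : r * x * r = x⁻¹) (htx : Commute t x)
    (hu : ∀ m, m * m = 1 → Commute m t → Commute m x → m = 1 ∨ m = t)
    (hc : Commute c x) (hct : ¬ Commute c t) :
    ∃ m, m * m = 1 ∧ Commute m x ∧ ¬ Commute m t ∧ (Commute m r ∨ Commute m (t * r)) := by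
  set a := c * t * c⁻¹ with ha
  set b := r * a * r with hb
  have ri : r⁻¹ = r := inv_eq_of_mul_eq_one_left hr
  have a2 : a * a = 1 := by rw [ha, conj_mul, ht]; group
  have a1 : a ≠ 1 := fun e => ht1 (by rw [ha] at e; simpa using e)
  have b2 : b * b = 1 := by rw [hb]; nth_rewrite 2 4 [← ri]; rw [conj_mul, a2]; group
  have b1 : b ≠ 1 := fun e => a1 (by rw [hb] at e; nth_rewrite 2 [← ri] at e; simpa using e)
  have ax : Commute a x := (hc.mul_left htx).mul_left hc.inv_left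
  have bx : Commute b x := by
    have h1 : x = r * x⁻¹ * r := by
      rw [← hx, ← mul_assoc, ← mul_assoc, hr, one_mul, mul_assoc, hr, mul_one]
    rw [h1, hb]; nth_rewrite 2 4 [← ri]
    exact ax.inv_right.conj r
  have hat : a ≠ t := fun e => hct (by rw [ha, mul_inv_eq_iff_eq_mul] at e; exact e)
  have nat : ¬ Commute a t := fun e => (hu a a2 e ax).elim a1 hat
  have hodd : Odd (orderOf (a * b)) := by
    by_cases hab : a = b
    · rw [← hab, a2, orderOf_one]; exact odd_one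
    refine (odd_or_central a2 b2).resolve_right ?_
    rintro ⟨d, hd, d2, d1, da, -⟩
    have dx : Commute d x := by
      obtain ⟨n, rfl⟩ := mem_zpowers_iff.1 hd
      exact (ax.mul_left bx).zpow_left n
    have e := hu (c⁻¹ * d * c) (by
        rw [show c⁻¹ * d * c * (c⁻¹ * d * c) = c⁻¹ * (d * d) * c by group, d2]; group)
      (by have := da.conj c⁻¹; rw [ha] at this; simpa [mul_assoc] using this)
      ((hc.inv_left.mul_left dx).mul_left hc)
    rcases e with e | e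
    · exact d1 (by rw [show d = c * (c⁻¹ * d * c) * c⁻¹ by group, e]; group)
    · have : d = a := by rw [ha, ← e]; group
      exact CfsgH4.dih_left_notMem (CfsgH4.orderOf_eq_two_iff.2 ⟨a2, a1⟩)
        (CfsgH4.orderOf_eq_two_iff.2 ⟨b2, b1⟩) hab (this ▸ hd)
  obtain ⟨k, h1, h2, h3⟩ := exists_mid a2 b2 hodd
  set m := (a * b) ^ k * a with hm
  have mx : Commute m x := ((ax.mul_left bx).pow_left k).mul_left ax
  have mr : Commute m r := by
    have e1 : r * (a * b) * r⁻¹ = (a * b)⁻¹ := by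
      rw [mul_inv_rev, inv_eq_of_mul_eq_one_left a2, inv_eq_of_mul_eq_one_left b2, hb, ri]
      simp only [← mul_assoc]
      rw [mul_assoc _ r r, hr, mul_one]
    have e2 := CfsgH4.inverts_pow e1 k
    have e3 : r * m * r⁻¹ = ((a * b) ^ k)⁻¹ * b := by
      have hb' : b = r * a * r⁻¹ := by rw [ri]
      rw [← e2]; nth_rewrite 2 [hb']; rw [conj_mul]
    have e4 : ((a * b) ^ k)⁻¹ = (a * b) ^ (k + 1) :=
      inv_eq_of_mul_eq_one_right (by rw [← pow_add, ← h1]; congr 1; ring)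
    rw [e4, pow_succ, mul_assoc _ (a * b), mul_assoc a, b2, mul_one, ← hm,
      mul_inv_eq_iff_eq_mul] at e3
    exact e3.symm
  by_cases hmt : Commute m t
  · rcases hu m h2 hmt mx with e | e
    · exfalso
      have e1 : a = ((a * b) ^ k)⁻¹ := eq_inv_of_mul_eq_one_right e
      have e2 : a ^ (2 * k + 1) = 1 := by
        rw [e1, inv_pow, ← pow_mul, mul_comm, pow_mul, h1, one_pow, inv_one]
      rw [pow_succ, pow_mul, pow_two, a2, one_pow, one_mul] at e2
      exact a1 e2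
    · refine ⟨a, a2, ax, nat, Or.inr ?_⟩
      rw [e, hb] at h3
      have mr' := e ▸ mr
      have e3 : r * (t * a) = a * (r * t) := by
        rw [h3]; simp only [← mul_assoc]; rw [hr, one_mul]
      rw [Commute, SemiconjBy, mr'.eq, ← e3, mul_assoc]
  · exact ⟨m, h2, mx, hmt, Or.inl mr⟩

variable {φ : MM →* G} {z : G}

theorem T_sq : φ mT * φ mT = 1 := el_sq 1

theorem comm_T (a : MM) : Commute (φ a) (φ mT) := by
  rw [Commute, SemiconjBy, ← map_mul, ← map_mul, mT_comm]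

theorem Loc.T_ne (h : Loc φ) : φ mT ≠ 1 := h.el_ne (k := 1) (by decide)

theorem Conf.z_move (h : Conf φ z) : ¬ Commute z (φ mT) := fun e => by
  have := h.act 1
  rw [mul_assoc, el_one, ← e.eq, inv_mul_cancel_left, ← el_one] at this
  exact absurd (h.el_inj this) (by decide)

theorem Conf.conj_el (h : Conf φ z) {k : Fin 8} (hk : k ≠ 0) :
    ∃ i : ℕ, (z ^ i)⁻¹ * φ mT * z ^ i = el φ k := by
  have : ∀ k : Fin 8, k ≠ 0 → ∃ i ∈ List.range 7, ap3 ((fun B => cp B aZ)^[i] aI) 1 = k := by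
    decide +kernel
  obtain ⟨i, -, hi⟩ := this k hk
  exact ⟨i, hi ▸ h.act.pow i 1⟩

theorem Conf.conj_invol [Finite G] (h : Conf φ z) {K : Subgroup G} (hS : SS φ ≤ K) (hz : z ∈ K)
    {v : G} (hv : v ∈ K) (h2 : v * v = 1) (h1 : v ≠ 1) : ∃ g ∈ K, v = g⁻¹ * φ mT * g := by
  obtain ⟨g, hg, hle⟩ := (h.sylowIn.of_le hS le_top).exists_cj_le
    (CfsgH1.isPGroup_zpowers (x := v) (k := 1) (by simpa [pow_two] using h2)) ((zpowers_le).2 hv)
  obtain ⟨k, hk⟩ := hle (CfsgH1.conj_mem_cj g (mem_zpowers v))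
  obtain ⟨i, hi⟩ := h.conj_el (k := k) (by
    rintro rfl
    rw [el_zero, eq_comm] at hk
    exact h1 (by simpa using hk))
  refine ⟨z ^ i * g, K.mul_mem (K.pow_mem hz i) hg, ?_⟩
  rw [mul_inv_rev, mul_assoc g⁻¹, mul_assoc g⁻¹, ← mul_assoc _ _ g, hi, hk]; group

theorem Conf.conj_invol' [Finite G] (h : Conf φ z) {v : G} (h2 : v * v = 1) (h1 : v ≠ 1) :
    ∃ g, v = g⁻¹ * φ mT * g :=
  let ⟨g, _, hg⟩ := h.conj_invol le_top (mem_top z) (mem_top v) h2 h1
  ⟨g, hg⟩

theorem Conf.pow_of_comm [Finite G] (h : Conf φ z) {v g : G} (h2 : v * v = 1) (h1 : v ≠ 1)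
    (hc : Commute g v) : g ^ 120 = 1 := by
  obtain ⟨a, rfl⟩ := h.conj_invol' h2 h1
  obtain ⟨m, hm⟩ := h.cent (a * g * a⁻¹) (by simpa [mul_assoc] using (hc.conj a).eq)
  have : (a * g * a⁻¹) ^ 120 = 1 := by rw [hm, ← map_pow, ← card_MM, pow_card_eq_one', map_one]
  rw [conj_pow] at this
  simpa using this

theorem Conf.key [Finite G] (h : Conf φ z) {x : MM} (hx : mR * x * mR = x⁻¹)
    (hu : ∀ a : MM, a * a = 1 → a * x = x * a → a = 1 ∨ a = mT) {c : G} (hc : Commute c (φ x))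
    (hct : ¬ Commute c (φ mT)) : ∃ a ∈ [mX, mX', mY, mY'],
      Commute (φ x) ((φ mF * z)⁻¹ * φ a * (φ mF * z)) ∨
      Commute (φ x) ((φ mF * z) * φ a * (φ mF * z)⁻¹) := by
  obtain ⟨m, m2, mx, mt, hm⟩ := gen_lemma (r := φ mR) T_sq h.T_ne (el_sq 2)
    (by rw [← map_mul, ← map_mul, hx, map_inv]) (comm_T x).symm (fun m m2 mt mx => by
      obtain ⟨a, rfl⟩ := h.cent m mt
      rw [← map_mul, ← map_one φ] at m2
      rw [Commute, SemiconjBy, ← map_mul, ← map_mul] at mx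
      rcases hu a (h.inj m2) (h.inj mx) with e | e
      · left; rw [e, map_one]
      · right; rw [e]) hc hct
  set w := φ mF * z with hw
  have hA : Act φ w (cp aF aZ) := act_F.mul h.act
  have w1 : w⁻¹ * φ mT * w = φ mR := hA 1
  have w3 : w⁻¹ * φ (mT * mR) * w = φ mT := hA 3
  have htm : ∀ n : ℕ, Commute (φ x) ((φ mT * m) ^ n) := fun n =>
    ((comm_T x).mul_right mx.symm).pow_right n
  rcases hm with hm | hm
  · obtain ⟨a, ha⟩ := h.cent (w * m * w⁻¹) (by
      have := (hm.conj w).eq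
      rwa [← w1, show w * (w⁻¹ * φ mT * w) * w⁻¹ = φ mT by group] at this)
    have a2 : a * a = 1 := h.inj (by rw [map_mul, ← ha, conj_mul, m2, map_one]; group)
    have hm' : m = w⁻¹ * φ a * w := by rw [← ha]; group
    rcases m_key a a2 (mT * mR) (by simp) with e | ⟨n, -, e⟩
    · refine absurd ?_ mt
      have : Commute (φ a) (φ (mT * mR)) := by
        rw [Commute, SemiconjBy, ← map_mul, ← map_mul, e]
      have := this.conj w⁻¹
      rwa [inv_inv, ← hm', w3] at this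
    · refine ⟨_, e, Or.inl ?_⟩
      have := htm n
      rw [← w3, hm', cmul', cpow', ← map_mul, ← map_pow] at this
      exact this
  · obtain ⟨a, ha⟩ := h.cent (w⁻¹ * m * w) (by
      have := (hm.conj w⁻¹).eq
      rwa [inv_inv, ← map_mul, w3] at this)
    have a2 : a * a = 1 := h.inj (by
      rw [map_mul, ← ha, cmul', m2, map_one]; group)
    have hm' : m = w * φ a * w⁻¹ := by rw [← ha]; group
    have w1' : φ mT = w * φ mR * w⁻¹ := by rw [← w1]; group
    rcases m_key a a2 mR (by simp) with e | ⟨n, -, e⟩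
    · refine absurd ?_ mt
      have : Commute (φ a) (φ mR) := by
        rw [Commute, SemiconjBy, ← map_mul, ← map_mul, e]
      have := this.conj w
      rwa [← hm', ← w1'] at this
    · refine ⟨_, e, Or.inr ?_⟩
      have := htm n
      rw [w1', hm', conj_mul, conj_pow, ← map_mul, ← map_pow] at this
      exact this

theorem Conf.no_coll (h : Conf φ z)
    (hc : ∀ {H : Subgroup G}, (∀ l, 1 ≤ l → l ≤ 6 → gL φ z l ∈ H) → gL φ z 7 ∈ H) : False := by
  refine h.z_move (mem_centralizer_singleton_iff.1 (hc (H := centralizer {φ mT}) fun l _ h2 => ?_))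
  rw [gL, if_neg (by omega), if_neg (by omega)]
  exact mem_centralizer_singleton_iff.2 (comm_T _)

/-- small centralisers of elements of order three and five -/
def Small (φ : MM →* G) : Prop :=
  (∀ c, Commute c (φ mX) → Commute c (φ mT)) ∧ ∀ c, Commute c (φ mY) → Commute c (φ mT)

theorem Conf.dichotomy [Finite G] (h : Conf φ z) :
    Commute (wd (gL φ z) [2, 3]) (wd (gL φ z) [8, 6, 2, 1, 2, 3, 5, 7]) ∨ Small φ := by
  have hb := h.base
  have eX : wd (gL φ z) [2, 3] = φ mX := by simp [wd, gL, mL, mX]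
  have eY : wd (gL φ z) [2, 1, 2, 3] = φ mY := by simp [wd, gL, mL, mY]
  have i1 : wd (gL φ z) [8, 6, 2, 3, 5, 7] = (φ mF * z)⁻¹ * φ mX * (φ mF * z) := by
    simp [wd, gL, mL, mX, mul_assoc]
  have i2 : wd (gL φ z) [8, 6, 1, 2, 3, 1, 5, 7] = (φ mF * z)⁻¹ * φ mX' * (φ mF * z) := by
    simp [wd, gL, mL, mX', mul_assoc]
  have i3 : wd (gL φ z) [8, 6, 2, 1, 2, 3, 5, 7] = (φ mF * z)⁻¹ * φ mY * (φ mF * z) := by
    simp [wd, gL, mL, mY, mul_assoc]
  have i4 : wd (gL φ z) [8, 6, 1, 2, 1, 2, 3, 1, 5, 7] = (φ mF * z)⁻¹ * φ mY' * (φ mF * z) := by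
    simp [wd, gL, mL, mY', mul_assoc]
  have o1 : wd (gL φ z) [5, 7, 2, 3, 8, 6] = (φ mF * z) * φ mX * (φ mF * z)⁻¹ := by
    simp [wd, gL, mL, mX, mul_assoc]
  have o2 : wd (gL φ z) [5, 7, 1, 2, 3, 1, 8, 6] = (φ mF * z) * φ mX' * (φ mF * z)⁻¹ := by
    simp [wd, gL, mL, mX', mul_assoc]
  have o3 : wd (gL φ z) [5, 7, 2, 1, 2, 3, 8, 6] = (φ mF * z) * φ mY * (φ mF * z)⁻¹ := by
    simp [wd, gL, mL, mY, mul_assoc]
  have o4 : wd (gL φ z) [5, 7, 1, 2, 1, 2, 3, 1, 8, 6] = (φ mF * z) * φ mY' * (φ mF * z)⁻¹ := by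
    simp [wd, gL, mL, mY', mul_assoc]
  rw [or_iff_not_imp_left]
  intro hn
  have hX : ∀ c, Commute c (φ mX) → Commute c (φ mT) := by
    intro c hc
    by_contra hct
    obtain ⟨a, ha, e⟩ := h.key m_small.2.2.2.2.1 m_invX hc hct
    simp only [List.mem_cons, List.not_mem_nil, or_false] at ha
    rcases ha with rfl | rfl | rfl | rfl <;> rcases e with e | e
    · exact h.no_coll (xi1 hb (by rwa [i1, eX]))
    · exact h.no_coll (xo1 hb (by rwa [o1, eX]))
    · exact h.no_coll (xi2 hb (by rwa [i2, eX]))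
    · exact h.no_coll (xo2 hb (by rwa [o2, eX]))
    · exact hn (by rwa [i3, eX])
    · exact h.no_coll (xo3 hb (by rwa [o3, eX]))
    · exact h.no_coll (xi4 hb (by rwa [i4, eX]))
    · exact h.no_coll (xo4 hb (by rwa [o4, eX]))
  refine ⟨hX, fun c hc => ?_⟩
  by_contra hct
  have hX' : ∀ c, Commute c (φ mX') → Commute c (φ mT) := by
    intro c hc
    rw [m_small.2.2.2.2.2.2.2.2.1, map_mul, map_mul, map_inv] at hc
    have h1 := hX _ (by simpa [mul_assoc] using hc.conj (φ mP))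
    have h2 := h1.conj (φ mP)⁻¹
    rw [inv_inv, mul_assoc _ (φ mT), ← (comm_T mP).eq] at h2
    simpa [mul_assoc] using h2
  set w := φ mF * z with hw
  have hA : Act φ w (cp aF aZ) := act_F.mul h.act
  have w1 : w⁻¹ * φ mT * w = φ mR := hA 1
  have w3 : w⁻¹ * φ (mT * mR) * w = φ mT := hA 3
  have n1 : ∀ a, (∀ c, Commute c (φ a) → Commute c (φ mT)) → ¬ Commute (φ mY) (w⁻¹ * φ a * w) :=
    fun a ha e => by
      have h1 := (ha _ (by simpa [mul_assoc] using e.conj w)).conj w⁻¹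
      rw [inv_inv, w1, show w⁻¹ * (w * (φ mY * w⁻¹)) * w = φ mY by group, Commute, SemiconjBy,
        ← map_mul, ← map_mul] at h1
      exact m_small.2.2.2.2.2.2.2.2.2.2.1 (h.inj h1).symm
  have n2 : ∀ a, (∀ c, Commute c (φ a) → Commute c (φ mT)) → ¬ Commute (φ mY) (w * φ a * w⁻¹) :=
    fun a ha e => by
      have h1 := (ha _ (by simpa [mul_assoc] using e.conj w⁻¹)).conj w
      rw [← w3, show w * (w⁻¹ * (φ mY * w)) * w⁻¹ = φ mY by group,
        show w * (w⁻¹ * φ (mT * mR) * w) * w⁻¹ = φ (mT * mR) by group, Commute, SemiconjBy,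
        ← map_mul, ← map_mul] at h1
      exact m_small.2.2.2.2.2.2.2.2.2.2.2 (h.inj h1).symm
  obtain ⟨a, ha, e⟩ := h.key m_small.2.2.2.2.2.1 m_invY hc hct
  simp only [List.mem_cons, List.not_mem_nil, or_false] at ha
  rcases ha with rfl | rfl | rfl | rfl <;> rcases e with e | e
  · exact n1 _ hX e
  · exact n2 _ hX e
  · exact n1 _ hX' e
  · exact n2 _ hX' e
  · exact h.no_coll (yi3 hb (by rwa [i3, eY]))
  · exact h.no_coll (yo3 hb (by rwa [o3, eY]))
  · exact h.no_coll (yi4 hb (by rwa [i4, eY]))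
  · exact h.no_coll (yo4 hb (by rwa [o4, eY]))

end CfsgH9.J1
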