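/-
Counting lemmas for conjugation actions.
-/
import Cfsg.Agent.H9.J1Gen
import Cfsg.Agent.H4.SimpleIdx

set_option autoImplicit false

namespace CfsgH9.J1

open Subgroup

variable {G : Type*} [Group G]

theorem ncard_modEq_fixed [Finite G] {I : Set G} {g : G} (p : ℕ) [Fact p.Prime] (hg : g ^ p = 1)
    (hI : ∀ v ∈ I, g⁻¹ * v * g ∈ I) : I.ncard ≡ {v | v ∈ I ∧ Commute v g}.ncard [MOD p] := by
  classical
  have := Fintype.ofFinite I
  let f : Function.End I := fun v => ⟨g⁻¹ * v * g, hI _ v.2⟩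
  have hn : ∀ (n : ℕ) (v : I), ((f ^ n) v : G) = (g ^ n)⁻¹ * v * g ^ n := by
    intro n
    induction n with
    | zero => intro v; simp only [pow_zero, inv_one, one_mul, mul_one]; rfl
    | succ n ih =>
      intro v
      rw [pow_succ']
      show g⁻¹ * ((f ^ n) v : G) * g = _
      rw [ih, pow_succ]; group
  have hf : f ^ p ^ 1 = 1 := by
    funext v
    apply Subtype.ext
    rw [pow_one, hn, hg, inv_one, one_mul, mul_one]; rfl
  have h1 := Equiv.Perm.card_fixedPoints_modEq hf
  rw [← Nat.card_eq_fintype_card, ← Nat.card_eq_fintype_card, Nat.card_coe_set_eq,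
    Nat.card_coe_set_eq, ← Set.ncard_image_of_injective _ Subtype.val_injective] at h1
  convert h1 using 2
  ext v
  constructor
  · rintro ⟨h2, h3⟩
    refine ⟨⟨v, h2⟩, Subtype.ext ?_, rfl⟩
    show g⁻¹ * v * g = v
    rw [mul_assoc, h3.eq, inv_mul_cancel_left]
  · rintro ⟨v, h2, rfl⟩
    have h3 : g⁻¹ * v * g = v := congrArg Subtype.val h2
    refine ⟨v.2, ?_⟩
    rw [Commute, SemiconjBy]
    conv_rhs => rw [← h3]
    group

theorem ncard_class (K : Subgroup G) (t : G) :
    {v | ∃ g ∈ K, v = g⁻¹ * t * g}.ncard * Nat.card (K ⊓ centralizer {t} : Subgroup G) =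
      Nat.card K := by
  let _ : MulAction K G := MulAction.compHom G (MulAut.conj.comp K.subtype)
  have hs : ∀ (k : K) (v : G), k • v = k * v * (k : G)⁻¹ := fun _ _ => rfl
  have h1 : MulAction.orbit K t = {v | ∃ g ∈ K, v = g⁻¹ * t * g} := by
    ext v
    constructor
    · rintro ⟨k, rfl⟩
      exact ⟨k⁻¹, K.inv_mem k.2, by simp [hs]⟩
    · rintro ⟨g, hg, rfl⟩
      exact ⟨⟨g⁻¹, K.inv_mem hg⟩, by simp [hs]⟩
  have h2 : MulAction.stabilizer K t = (K ⊓ centralizer {t}).subgroupOf K := by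
    ext k
    rw [MulAction.mem_stabilizer_iff, hs, mem_subgroupOf, mem_inf, mem_centralizer_singleton_iff,
      mul_inv_eq_iff_eq_mul]
    simp
  rw [← (MulAction.stabilizer K t).index_mul_card, MulAction.index_stabilizer, h1, h2,
    Nat.card_congr (subgroupOfEquivOfLe inf_le_left).toEquiv]

theorem exists_prime_pow {h : G} [Finite G] (h1 : h ≠ 1) :
    ∃ p n : ℕ, p.Prime ∧ orderOf (h ^ n) = p := by
  obtain ⟨p, hp, hd⟩ := Nat.exists_prime_and_dvd (mt orderOf_eq_one_iff.1 h1)
  exact ⟨p, _, hp, orderOf_pow_orderOf_div (orderOf_pos h).ne' hd⟩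

theorem not_simple_of_sylow [Finite G] [IsSimpleGroup G] {p m : ℕ} [hp : Fact p.Prime]
    (h : Nat.card G = m * p) (h2 : 2 ∣ m) (hp2 : p ≠ 2)
    (hm : ∀ d ∈ m.divisors, d % p = 1 → d = 1) : False := by
  obtain ⟨P⟩ : Nonempty (Sylow p G) := inferInstance
  have hm0 : m ≠ 0 := by rintro rfl; simp [Nat.card_pos.ne'] at h
  obtain ⟨c, hc⟩ : p ∣ Nat.card P := by
    have := P.pow_dvd_card_of_pow_dvd_card (n := 1) (by rw [h, pow_one]; exact dvd_mul_left _ _)
    rwa [pow_one] at this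
  have h3 : P.index ∣ m := by
    have := P.1.index_mul_card
    rw [hc, h, mul_comm p c, ← mul_assoc] at this
    exact Dvd.intro _ (Nat.eq_of_mul_eq_mul_right hp.out.pos this)
  have h4 := hm _ (Nat.mem_divisors.2 ⟨P.card_dvd_index.trans h3, hm0⟩)
    (Eq.trans (card_sylow_modEq_one p G) (Nat.mod_eq_of_lt hp.out.one_lt))
  rw [P.card_eq_index_normalizer, index_eq_one] at h4
  rcases (normalizer_eq_top_iff.1 h4).eq_bot_or_eq_top with e | e
  · rw [e, card_bot] at hc
    exact hp.out.one_lt.ne' (Nat.eq_one_of_mul_eq_one_right hc.symm)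
  · obtain ⟨k, hk⟩ := P.isPGroup'.exists_card_eq
    rw [e, card_top, h] at hk
    exact hp2 ((Nat.prime_dvd_prime_iff_eq Nat.prime_two hp.out).1
      (Nat.prime_two.dvd_of_dvd_pow (hk ▸ h2.mul_right p))).symm

theorem card_normalizer_dvd [Finite G] (H : Subgroup G) :
    Nat.card (normalizer (H : Set G)) ∣
      Nat.card (centralizer (H : Set G)) * Nat.card (MulAut H) := by
  rw [← H.normalizerMonoidHom.ker.card_mul_index, index_ker, normalizerMonoidHom_ker,
    Nat.card_congr (subgroupOfEquivOfLe (centralizer_le_normalizer _)).toEquiv]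
  exact Nat.mul_dvd_mul_left _ (card_subgroup_dvd_card _)

variable {φ : MM →* G} {z : G}

theorem Loc.centralizer_eq (h : Loc φ) : centralizer {φ mT} = φ.range := by
  ext g
  rw [mem_centralizer_singleton_iff]
  exact ⟨fun e => (h.cent g e).imp fun _ e => e.symm, by rintro ⟨m, rfl⟩; exact comm_T m⟩

theorem Loc.card_centralizer (h : Loc φ) : Nat.card (centralizer {φ mT}) = 120 := by
  rw [h.centralizer_eq, ← Nat.card_congr (MonoidHom.ofInjective h.inj).toEquiv, card_MM]

theorem Conf.z_ne (h : Conf φ z) : z ≠ 1 := fun e => h.z_move (e ▸ Commute.one_left _)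

theorem Conf.order_z (h : Conf φ z) : orderOf z = 7 :=
  haveI := Fact.mk (by norm_num : Nat.Prime 7)
  orderOf_eq_prime (h.pow_seven h.act) h.z_ne

theorem Conf.z_no_invol [Finite G] (h : Conf φ z) {v : G} (h2 : v * v = 1) (h1 : v ≠ 1) :
    ¬ Commute z v := fun e => by
  have := orderOf_dvd_of_pow_eq_one (h.pow_of_comm h2 h1 e)
  rw [h.order_z] at this
  exact absurd this (by norm_num)

theorem Conf.order_F (h : Conf φ z) : orderOf (φ mF) = 3 :=
  haveI := Fact.mk Nat.prime_three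
  orderOf_eq_prime (by rw [pow_succ', pow_two]; exact F_cube) fun e =>
    m_small.2.2.2.2.2.2.1 (h.inj (e.trans (map_one φ).symm))

end CfsgH9.J1
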