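/-
Groups with an involution centraliser `2 × A₅`: small centralisers are impossible.
-/
import Cfsg.Agent.H9.J1Cnt

set_option autoImplicit false

namespace CfsgH9.J1

open Subgroup

variable {G : Type*} [Group G] {φ : MM →* G} {z : G}

theorem comm_conj {a b g : G} : Commute (g⁻¹ * a * g) (g⁻¹ * b * g) ↔ Commute a b :=
  ⟨fun h => by simpa [mul_assoc] using h.conj g, fun h => by simpa using h.conj g⁻¹⟩

theorem conj_eq_one {a g : G} (h : g⁻¹ * a * g = 1) : a = 1 := by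
  rw [show a = g * (g⁻¹ * a * g) * g⁻¹ by group, h]; group

theorem Conf.small_key [Finite G] (h : Conf φ z) (hs : Small φ) {v c : G} (h2 : v * v = 1)
    (h1 : v ≠ 1) (hc : Commute c v) (hp : orderOf c = 3 ∨ orderOf c = 5) :
    (∀ g, Commute g c → Commute g v) ∧ ∀ u, u * u = 1 → u ≠ 1 → Commute u c → u = v := by
  have key : ∀ (b : G) (x : MM), (∀ g, Commute g (φ x) → Commute g (φ mT)) →
      (∀ a : MM, a * a = 1 → a * x = x * a → a = 1 ∨ a = mT) → v = b⁻¹ * φ mT * b →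
      (∀ g, Commute g c → Commute g (b⁻¹ * φ x * b)) →
      (∀ g, Commute g c → Commute g v) ∧ ∀ u, u * u = 1 → u ≠ 1 → Commute u c → u = v := by
    intro b x k1 k2 k3 k4
    have k5 : ∀ g, Commute g c → Commute (b * g * b⁻¹) (φ x) := fun g hg => by
      rw [← comm_conj (g := b), show b⁻¹ * (b * g * b⁻¹) * b = g by group]; exact k4 g hg
    refine ⟨fun g hg => ?_, fun u u2 u1 hu => ?_⟩
    · have := comm_conj (g := b).2 (k1 _ (k5 g hg))
      rwa [show b⁻¹ * (b * g * b⁻¹) * b = g by group, ← k3] at this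
    · obtain ⟨a, ha⟩ := h.cent _ (k1 _ (k5 u hu))
      have e := k5 u hu
      rw [ha, Commute, SemiconjBy, ← map_mul, ← map_mul] at e
      have e2 : a * a = 1 := h.inj (by rw [map_mul, ← ha, conj_mul, u2, map_one]; group)
      rcases k2 a e2 (h.inj e) with rfl | rfl
      · rw [map_one] at ha; exact absurd (by simpa using ha) u1
      · rw [k3, ← ha]; group
  obtain ⟨a, rfl⟩ := h.conj_invol' h2 h1
  obtain ⟨m, hm⟩ := h.cent (a * c * a⁻¹) (by simpa [mul_assoc] using (hc.conj a).eq)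
  have hc' : c = a⁻¹ * φ m * a := by rw [← hm]; group
  have ho : orderOf m = orderOf c := by
    rw [← orderOf_injective φ h.inj, ← hm, CfsgH4.orderOf_conj']
  have hm1 : m ≠ 1 := by
    rintro rfl
    rw [orderOf_one] at ho; omega
  have hT : ∀ n : MM, a⁻¹ * φ mT * a = (φ n * a)⁻¹ * φ mT * (φ n * a) := fun n => by
    rw [mul_inv_rev, mul_assoc a⁻¹ (φ n)⁻¹, (comm_T n).inv_left.eq]; group
  have hx : ∀ n x : MM, m = n⁻¹ * x * n → c = (φ n * a)⁻¹ * φ x * (φ n * a) := fun n x e => by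
    rw [hc', e, map_mul, map_mul, map_inv]; group
  rcases hp with hp | hp
  · have := pow_orderOf_eq_one m
    rw [ho, hp] at this
    obtain ⟨n, e⟩ := (m_three m (by simpa [pow_succ, mul_assoc] using this)).resolve_left hm1
    exact key _ _ hs.1 m_invX (hT _) fun g hg => hx _ _ e ▸ hg
  · have := pow_orderOf_eq_one m
    rw [ho, hp] at this
    obtain ⟨n, e | e⟩ := (m_five m (by simpa [pow_succ, mul_assoc] using this)).resolve_left hm1
    · exact key _ _ hs.2 m_invY (hT _) fun g hg => hx _ _ e ▸ hg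
    · refine key _ _ hs.2 m_invY (hT (1, n)) fun g hg => ?_
      have := hg.pow_right 3
      rwa [hx _ _ e, cpow', ← map_pow, ← pow_two, ← pow_mul, show 2 * 3 = 5 + 1 by rfl, pow_succ,
        m_small.2.2.2.1, one_mul] at this

theorem Conf.prime_of_comm [Finite G] (h : Conf φ z) {v c : G} {p : ℕ} (hp : p.Prime)
    (h2 : v * v = 1) (h1 : v ≠ 1) (hc : Commute c v) (ho : orderOf c = p) :
    p = 2 ∨ p = 3 ∨ p = 5 := by
  have := orderOf_dvd_of_pow_eq_one (h.pow_of_comm h2 h1 hc)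
  rw [ho] at this
  have h3 : ∀ p ∈ Nat.divisors 120, p.Prime → p = 2 ∨ p = 3 ∨ p = 5 := by decide +kernel
  exact h3 p (Nat.mem_divisors.2 ⟨this, by norm_num⟩) hp

theorem Conf.cent_z [Finite G] (h : Conf φ z) (hs : Small φ) {v c : G} (h2 : v * v = 1)
    (h1 : v ≠ 1) (hc : Commute c v) (hz : Commute z c) : c = 1 := by
  by_contra hc1
  obtain ⟨p, n, hp, ho⟩ := exists_prime_pow hc1
  rcases h.prime_of_comm hp h2 h1 (hc.pow_left n) ho with rfl | hp'
  · have := CfsgH4.orderOf_eq_two_iff.1 ho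
    exact h.z_no_invol this.1 this.2 (hz.pow_right n)
  · exact h.z_no_invol h2 h1
      ((h.small_key hs h2 h1 (hc.pow_left n) (ho ▸ hp')).1 z (hz.pow_right n))

theorem Conf.order_X (h : Conf φ z) : orderOf (φ mX) = 3 :=
  haveI := Fact.mk Nat.prime_three
  orderOf_eq_prime (by rw [pow_succ', pow_two, ← map_mul, ← map_mul, m_small.2.2.1, map_one])
    fun e => m_small.1 (h.inj (e.trans (map_one φ).symm))

theorem Conf.order_Y (h : Conf φ z) : orderOf (φ mY) = 5 :=
  haveI := Fact.mk Nat.prime_five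
  orderOf_eq_prime (by rw [← map_pow, m_small.2.2.2.1, map_one])
    fun e => m_small.2.1 (h.inj (e.trans (map_one φ).symm))

theorem Conf.three_comm [Finite G] (h : Conf φ z) (hs : Small φ) {c : G} (hc : orderOf c = 3) :
    ∃ v, v * v = 1 ∧ v ≠ 1 ∧ Commute c v := by
  have := Fact.mk Nat.prime_three
  obtain ⟨P, hP⟩ := CfsgH4.exists_sylow_mem_of_pow (p := 3) (x := φ mX) (k := 1)
    (by rw [pow_one, ← h.order_X, pow_orderOf_eq_one])
  obtain ⟨a, ha, a1, hac⟩ := CfsgH4.exists_central_ne_one P.isPGroup' (fun e => by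
    have : φ mX ∈ (P : Subgroup G) := hP
    rw [e, mem_bot] at this
    exact absurd (this ▸ h.order_X) (by simp))
  obtain ⟨p, n, hp, ho⟩ := exists_prime_pow a1
  obtain ⟨k, hk⟩ := P.isPGroup' ⟨a ^ n, pow_mem ha n⟩
  have hp3 : p = 3 := by
    have := orderOf_dvd_of_pow_eq_one (congrArg Subtype.val hk)
    simp only [ho] at this
    exact (Nat.prime_dvd_prime_iff_eq hp Nat.prime_three).1 (hp.dvd_of_dvd_pow this)
  have h1 : Commute (a ^ n) (φ mT) := hs.1 _ ((Commute.symm (hac _ hP)).pow_left n)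
  obtain ⟨g, hg⟩ := CfsgH4.exists_conj_mem_sylow_of_pow P (x := c) (k := 1)
    (by rw [pow_one, ← hc, pow_orderOf_eq_one])
  have h2 := (h.small_key hs T_sq h.T_ne h1 (Or.inl (ho.trans hp3))).1 _
    (Commute.pow_right (hac _ hg) n)
  refine ⟨g⁻¹ * φ mT * g, by rw [cmul', T_sq]; group, fun e => h.T_ne (conj_eq_one e), ?_⟩
  simpa [mul_assoc] using comm_conj (g := g).2 h2

theorem Conf.no_invert [Finite G] (h : Conf φ z) (hs : Small φ) {u : G} (h2 : u * u = 1)
    (hu : u * z * u = z⁻¹) : False := by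
  have := Fact.mk Nat.prime_three
  have hz1 : z⁻¹ ≠ z := fun e => by
    have : z ^ 2 = 1 := by rw [pow_two]; nth_rewrite 1 [← e]; exact inv_mul_cancel z
    have := orderOf_dvd_of_pow_eq_one this
    rw [h.order_z] at this; exact absurd this (by norm_num)
  have u1 : u ≠ 1 := by rintro rfl; exact hz1 (by simpa using hu.symm)
  have ui : u⁻¹ = u := inv_eq_of_mul_eq_one_left h2
  set I : Set G := {v | v * v = 1 ∧ v * z * v = z⁻¹} with hI
  set C : Subgroup G := centralizer {z} with hC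
  have c1 : I.ncard ≤ (C : Set G).ncard := by
    refine Set.ncard_le_ncard_of_injOn (fun v => u * v) ?_ (mul_right_injective u).injOn
    rintro v ⟨v2, hv⟩
    refine mem_centralizer_singleton_iff.2 ?_
    have e1 : v * z = z⁻¹ * v := by rw [← hv, mul_assoc, v2, mul_one]
    have e2 : u * z⁻¹ = z * u := by rw [← hu, ← mul_assoc, ← mul_assoc, h2, one_mul]
    rw [mul_assoc, e1, ← mul_assoc, e2, mul_assoc]
  have c2 : (C : Set G).ncard ≤ I.ncard := by
    refine Set.ncard_le_ncard_of_injOn (fun c => c⁻¹ * u * c) ?_ ?_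
    · intro c hc
      have e : c⁻¹ * z * c = z := by
        rw [mul_assoc, ← mem_centralizer_singleton_iff.1 hc, inv_mul_cancel_left]
      refine ⟨by rw [cmul', h2]; group, ?_⟩
      rw [← e, cmul', cmul', hu]; group
    · intro c hc d hd e
      simp only at e
      have e1 : Commute (d * c⁻¹) u := by
        have : u = c * (d⁻¹ * u * d) * c⁻¹ := by rw [← e]; group
        rw [Commute, SemiconjBy]; nth_rewrite 1 [this]; group
      have e2 : Commute z (d * c⁻¹) :=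
        (mem_centralizer_singleton_iff.1 (C.mul_mem hd (C.inv_mem hc))).symm
      exact (mul_inv_eq_one.1 (h.cent_z hs h2 u1 e1 e2)).symm
  have c3 : ¬ 3 ∣ I.ncard := by
    rw [le_antisymm c1 c2, ← Nat.card_coe_set_eq]
    intro hd
    obtain ⟨c, hc⟩ := exists_prime_orderOf_dvd_card' (G := C) 3 hd
    rw [← orderOf_coe] at hc
    obtain ⟨v, v2, v1, hv⟩ := h.three_comm hs hc
    have := h.cent_z hs v2 v1 hv (mem_centralizer_singleton_iff.1 c.2).symm
    rw [this, orderOf_one] at hc; omega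
  have c4 := ncard_modEq_fixed (I := I) (g := φ mF) 3 (by rw [← h.order_F, pow_orderOf_eq_one]) (by
    rintro v ⟨v2, hv⟩
    refine ⟨by rw [cmul', v2]; group, ?_⟩
    have e1 : z = (φ mF)⁻¹ * z ^ 4 * φ mF := by
      rw [← cpow', h.frob, ← pow_mul, show 2 * 4 = 7 + 1 by rfl, pow_succ, h.pow_seven h.act, one_mul]
    have e2 : v * z ^ 4 * v = (z ^ 4)⁻¹ := by
      have vi : v⁻¹ = v := inv_eq_of_mul_eq_one_left v2
      have := CfsgH4.inverts_pow (t := v) (r := z) (by rwa [vi]) 4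
      rwa [vi] at this
    rw [e1, cmul', cmul', e2]; group)
  obtain ⟨v, ⟨v2, hv⟩, hf⟩ : {v | v ∈ I ∧ Commute v (φ mF)}.Nonempty := by
    rw [Set.nonempty_iff_ne_empty]
    intro e
    rw [e, Set.ncard_empty] at c4
    exact c3 ((Nat.modEq_zero_iff_dvd).1 c4)
  have v1 : v ≠ 1 := by rintro rfl; exact hz1 (by simpa using hv.symm)
  obtain rfl := (h.small_key hs T_sq h.T_ne (comm_T mF) (Or.inl h.order_F)).2 v v2 v1 hf
  have e1 : φ mT * z = z * el φ 2 := h.act.el_mul 1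
  rw [e1, ← el_one, mul_assoc, el_mul] at hv
  have e2 : el φ (xr 2 1) = (z ^ 2)⁻¹ := by
    rw [pow_two, mul_inv_rev]; nth_rewrite 2 [← hv]; group
  have e3 : z ^ 4 = 1 := by
    have := el_sq (φ := φ) (xr 2 1)
    rw [e2, ← mul_inv_rev, inv_eq_one, ← pow_add] at this
    exact this
  have := orderOf_dvd_of_pow_eq_one e3
  rw [h.order_z] at this; exact absurd this (by norm_num)

theorem Conf.sylow_z [Finite G] (h : Conf φ z) :
    CfsgH1.IsSylowIn 7 (zpowers z) (normalizer (SS φ : Set G)) := by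
  have := Fact.mk (by norm_num : Nat.Prime 7)
  have hle : zpowers z ≤ normalizer (SS φ : Set G) := (zpowers_le).2 h.act.norm
  refine ⟨hle, CfsgH1.isPGroup_zpowers (k := 1) (h.pow_seven h.act), fun hd => ?_⟩
  have h1 := card_normalizer_dvd (SS φ)
  have h2 : centralizer (SS φ : Set G) = SS φ := le_antisymm (fun g hg =>
    h.mem_SS_of_comm (k := 2) (by decide) (by decide) (hg _ (el_mem 1)).symm
      (hg _ (el_mem 2)).symm) SS_comm
  have h3 : Nat.card (MulAut (SS φ)) ∣ Nat.factorial 8 := by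
    rw [← h.card_SS, ← Nat.card_perm]
    exact card_dvd_of_injective (MulAut.toPerm _) fun a b e => MulEquiv.toEquiv_injective e
  rw [h2, h.card_SS, ← CfsgH1.card_mul_relIndex hle, Nat.card_zpowers, h.order_z] at h1
  exact absurd (((Nat.mul_dvd_mul_left 7 hd).trans h1).trans (Nat.mul_dvd_mul_left 8 h3))
    (by decide)

theorem Conf.invert_comm [Finite G] (h : Conf φ z) (hs : Small φ) {u g : G} (h2 : u * u = 1)
    (hg : g ∈ normalizer (SS φ : Set G)) (g1 : g ≠ 1) (hu : u * g * u = g⁻¹) :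
    ∃ k, k ≠ 0 ∧ Commute u (el φ k) := by
  obtain ⟨p, n, hp, ho⟩ := exists_prime_pow g1
  have ui : u⁻¹ = u := inv_eq_of_mul_eq_one_left h2
  have hu' : u * g ^ n * u⁻¹ = (g ^ n)⁻¹ := CfsgH4.inverts_pow (by rwa [ui]) n
  have hg' := pow_mem hg n
  generalize g ^ n = a at ho hu' hg'
  have := Fact.mk hp
  by_cases p2 : p = 2
  · subst p2
    obtain ⟨a2, a1⟩ := CfsgH4.orderOf_eq_two_iff.1 ho
    obtain ⟨k, rfl⟩ := h.mem_SS_of_sq hg' (a2 ▸ one_mem _)
    refine ⟨k, by rintro rfl; exact a1 el_zero, ?_⟩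
    rwa [el_inv, mul_inv_eq_iff_eq_mul] at hu'
  by_cases p7 : p = 7
  · subst p7
    exfalso
    obtain ⟨b, -, hb⟩ := h.sylow_z.exists_cj_le (CfsgH1.isPGroup_zpowers (x := a) (k := 1)
      (by rw [pow_one, ← ho, pow_orderOf_eq_one])) ((zpowers_le).2 hg')
    obtain ⟨i, hi⟩ := (mem_powers_iff_mem_zpowers.2 (hb (CfsgH1.conj_mem_cj b (mem_zpowers a))))
    simp only at hi
    obtain ⟨j, hj⟩ := exists_pow_eq_self_of_coprime (x := z) (n := i) (by
      rw [h.order_z, Nat.coprime_comm, Nat.Prime.coprime_iff_not_dvd hp]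
      intro hd
      rw [← h.order_z, orderOf_dvd_iff_pow_eq_one, hi] at hd
      have : a = 1 := by simpa using hd
      rw [this, orderOf_one] at ho; omega)
    have b2 : b * u * b⁻¹ * (b * u * b⁻¹) = 1 := by rw [conj_mul, h2]; group
    refine h.no_invert hs b2 ?_
    have e := CfsgH4.inverts_pow hu' j
    rw [ui] at e
    rw [← hj, hi, conj_pow, conj_mul, conj_mul, e]; group
  obtain ⟨A, hA⟩ := exists_act hg'
  have c1 := ncard_modEq_fixed (I := (SS φ : Set G) \ {1}) (g := a) p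
    (by rw [← ho, pow_orderOf_eq_one]) (by
      rintro _ ⟨⟨k, rfl⟩, hk⟩
      exact ⟨hA k ▸ el_mem _, fun e => hk (conj_eq_one e)⟩)
  rw [Set.ncard_sdiff_singleton_of_mem (one_mem _), ← Nat.card_coe_set_eq] at c1
  obtain ⟨_, ⟨⟨k, rfl⟩, hk⟩, hf⟩ : {v | v ∈ (SS φ : Set G) \ {1} ∧ Commute v a}.Nonempty := by
    rw [Set.nonempty_iff_ne_empty]
    intro e
    rw [e, Set.ncard_empty, SetLike.coe_sort_coe, h.card_SS] at c1
    exact p7 ((Nat.prime_dvd_prime_iff_eq hp (by norm_num)).1 ((Nat.modEq_zero_iff_dvd).1 c1))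
  refine ⟨k, by rintro rfl; exact hk el_zero, ?_⟩
  have := (h.small_key hs (el_sq k) hk hf.symm
    (ho ▸ (h.prime_of_comm hp (el_sq k) hk hf.symm ho).resolve_left p2)).2 (u * el φ k * u⁻¹)
    (by rw [conj_mul, el_sq]; group) (fun e => hk (by simpa using e))
    (by have := (hf.conj u).inv_right; rwa [hu', inv_inv] at this)
  exact mul_inv_eq_iff_eq_mul.1 this

/-- the set of involutions -/
def Inv (G : Type*) [Group G] : Set G := {v | v * v = 1 ∧ v ≠ 1}

theorem Conf.card_inv [Finite G] (h : Conf φ z) : (Inv G).ncard * 120 = Nat.card G := by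
  have := ncard_class (⊤ : Subgroup G) (φ mT)
  rw [top_inf_eq, h.card_centralizer, card_top] at this
  rw [← this]
  congr 2
  ext v
  exact ⟨fun hv => h.conj_invol le_top (mem_top z) (mem_top v) hv.1 hv.2, by
    rintro ⟨g, -, rfl⟩
    exact ⟨by rw [cmul', T_sq]; group, fun e => h.T_ne (conj_eq_one e)⟩⟩

theorem inv_conj (g : G) : ∀ v ∈ Inv G, g⁻¹ * v * g ∈ Inv G := fun v hv =>
  ⟨by rw [cmul', hv.1]; group, fun e => hv.2 (conj_eq_one e)⟩

variable (φ) in
/-- involutions of the centraliser outside the Sylow subgroup -/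
def Out : Set G := {u | u * u = 1 ∧ Commute u (φ mT) ∧ u ∉ SS φ}

theorem Loc.card_out (h : Loc φ) : (Out φ).ncard = 24 := by
  rw [← m_count, ← Set.ncard_coe_finset, ← Set.ncard_image_of_injective _ h.inj]
  congr 1
  ext u
  simp only [Finset.coe_filter, Finset.mem_univ, true_and, Set.mem_image, Set.mem_ofPred_eq]
  constructor
  · rintro ⟨h1, h2, h3⟩
    obtain ⟨a, rfl⟩ := h.cent u h2
    exact ⟨a, ⟨h.inj (by rw [map_mul, h1, map_one]), fun j e => h3 ⟨j, by rw [e]; rfl⟩⟩, rfl⟩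
  · rintro ⟨a, ⟨h1, h2⟩, rfl⟩
    exact ⟨by rw [← map_mul, h1, map_one], comm_T a, fun ⟨j, e⟩ => h2 j (h.inj e).symm⟩

theorem arith {n a b : ℕ} (h0 : 168 ≤ n) (h1 : a ≤ b) (h2 : n ≤ 8 + 168 + a)
    (h4 : b * 168 ≤ n * 120) (m2 : ¬ 16 ∣ n * 120) (m3 : n ≡ 1 [MOD 3]) (m5 : n ≡ 1 [MOD 5])
    (m7 : n ≡ 0 [MOD 7]) : n = 301 ∨ n = 511 := by
  unfold Nat.ModEq at m3 m5 m7
  have h5 : n < 617 := by omega
  have h6 : n % 2 = 1 := by omega
  have : ∀ n ∈ List.range 617, (168 ≤ n ∧ n % 3 = 1 % 3 ∧ n % 5 = 1 % 5) ∧ n % 7 = 0 % 7 ∧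
    n % 2 = 1 → n = 301 ∨ n = 511 := by decide +kernel
  exact this n (List.mem_range.2 h5) ⟨⟨h0, m3, m5⟩, m7, h6⟩

theorem Conf.not_small [Finite G] [IsSimpleGroup G] (h : Conf φ z) : ¬ Small φ := by
  intro hs
  set ψ : ℕ × G → G := fun x => (z ^ x.1)⁻¹ * x.2 * z ^ x.1 with hψ
  have hinj : Set.InjOn ψ (Set.Iio 7 ×ˢ Out φ) := by
    have key : ∀ i d u u', i + d < 7 → u ∈ Out φ → u' ∈ Out φ → ψ (i, u) = ψ (i + d, u') →
        d = 0 := by
      intro i d u u' hd hu hu' e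
      have e1 : u = (z ^ d)⁻¹ * u' * z ^ d := by
        simp only [hψ] at e
        rw [show u = z ^ i * ((z ^ i)⁻¹ * u * z ^ i) * (z ^ i)⁻¹ by group, e]; group
      have e2 := comm_conj (g := z ^ d).2 hu'.2.1
      rw [← e1, ← el_one, h.act.pow d 1] at e2
      have : ∀ d, d < 7 → d ≠ 0 → ap3 ((fun B => cp B aZ)^[d] aI) 1 ≠ 0 ∧
          ap3 ((fun B => cp B aZ)^[d] aI) 1 ≠ 1 := by decide +kernel
      by_contra d0
      obtain ⟨k0, k1⟩ := this d (by omega) d0
      exact hu.2.2 (h.mem_SS_of_comm k0 k1 hu.2.1 e2)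
    rintro ⟨i, u⟩ ⟨hi, hu⟩ ⟨j, u'⟩ ⟨hj, hu'⟩ e
    have : i = j := by
      rcases le_total i j with hij | hij
      · obtain ⟨d, rfl⟩ := Nat.exists_eq_add_of_le hij
        rw [key i d u u' hj hu hu' e, add_zero]
      · obtain ⟨d, rfl⟩ := Nat.exists_eq_add_of_le hij
        rw [key j d u' u hi hu' hu e.symm, add_zero]
    subst this
    simp only [hψ, mul_left_inj, mul_right_inj] at e
    rw [e]
  have hcard : (ψ '' (Set.Iio 7 ×ˢ Out φ)).ncard = 168 := by
    rw [hinj.ncard_image, Set.ncard_prod, h.card_out]; simp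
  have hlow : 168 ≤ (Inv G).ncard := by
    rw [← hcard]
    refine Set.ncard_le_ncard ?_
    rintro _ ⟨⟨i, u⟩, ⟨-, hu⟩, rfl⟩
    exact inv_conj _ _ ⟨hu.1, fun e => hu.2.2 (e ▸ one_mem _)⟩
  set N := normalizer (SS φ : Set G) with hN
  set J₁ : Set G := {u | u ∈ Inv G ∧ ∀ k, k ≠ 0 → ¬ Commute u (el φ k)} with hJ
  have h1 : J₁.ncard ≤ N.index := by
    rw [index, ← Set.ncard_univ]
    refine Set.ncard_le_ncard_of_injOn (fun u => (u : G ⧸ N)) (fun _ _ => trivial) ?_
    rintro u ⟨hu, hu'⟩ v ⟨hv, -⟩ e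
    have e1 : u⁻¹ * v ∈ N := QuotientGroup.eq.1 e
    have ui : u⁻¹ = u := inv_eq_of_mul_eq_one_left hu.1
    have vi : v⁻¹ = v := inv_eq_of_mul_eq_one_left hv.1
    by_contra huv
    obtain ⟨k, k0, hk⟩ := h.invert_comm hs hu.1 e1 (fun e => huv (inv_mul_eq_one.1 e)) (by
      rw [mul_inv_cancel_left, mul_inv_rev, inv_inv, vi])
    exact hu' k k0 hk
  have h2 : (Inv G).ncard ≤ 8 + 168 + J₁.ncard := by
    rw [← hcard, ← h.card_SS, ← SetLike.coe_sort_coe, Nat.card_coe_set_eq]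
    refine le_trans (Set.ncard_le_ncard ?_) ((Set.ncard_union_le _ _).trans
      (Nat.add_le_add_right (Set.ncard_union_le _ _) _))
    intro u hu
    by_cases h3 : u ∈ J₁
    · exact Or.inr h3
    by_cases h4 : u ∈ SS φ
    · exact Or.inl (Or.inl h4)
    refine Or.inl (Or.inr ?_)
    simp only [hJ, Set.mem_ofPred_eq, hu, true_and, not_forall, not_not] at h3
    obtain ⟨k, k0, hk⟩ := h3
    have : ∀ k : Fin 8, k ≠ 0 → ∃ i, i < 7 ∧ ap3 ((fun B => cp B aZ)^[i] aI) 1 = k := by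
      decide +kernel
    obtain ⟨i, hi, rfl⟩ := this k k0
    refine ⟨(i, z ^ i * u * (z ^ i)⁻¹), ⟨hi, by rw [conj_mul, hu.1]; group, ?_, fun e => h4 ?_⟩,
      by simp only [hψ]; group⟩
    · rw [← h.act.pow i 1, el_one] at hk
      simpa [mul_assoc] using hk.conj (z ^ i)
    · exact (mem_normalizer_iff.1 (h.act.pow i).norm u).2 e
  have h3 : 168 ∣ Nat.card N := by
    have d8 : 8 ∣ Nat.card N := h.card_SS ▸ card_dvd_of_le le_normalizer
    have d7 : 7 ∣ Nat.card N := h.order_z ▸ N.orderOf_dvd_natCard h.act.norm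
    have d3 : 3 ∣ Nat.card N := h.order_F ▸ N.orderOf_dvd_natCard act_F.norm
    omega
  have h4 : N.index * 168 ≤ (Inv G).ncard * 120 := by
    rw [h.card_inv, ← N.index_mul_card]
    exact Nat.mul_le_mul_left _ (Nat.le_of_dvd Nat.card_pos h3)
  have := Fact.mk Nat.prime_three
  have := Fact.mk Nat.prime_five
  have := Fact.mk (by norm_num : Nat.Prime 7)
  have m7 := ncard_modEq_fixed 7 (h.pow_seven h.act) (inv_conj z)
  rw [show {v | v ∈ Inv G ∧ Commute v z} = ∅ from Set.eq_empty_of_forall_notMem fun v hv =>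
    h.z_no_invol hv.1.1 hv.1.2 hv.2.symm, Set.ncard_empty] at m7
  have key : ∀ x : MM, orderOf (φ x) = 3 ∨ orderOf (φ x) = 5 →
      {v | v ∈ Inv G ∧ Commute v (φ x)}.ncard = 1 := fun x hx => by
    rw [Set.ncard_eq_one]
    refine ⟨φ mT, Set.eq_singleton_iff_unique_mem.2 ⟨⟨⟨T_sq, h.T_ne⟩, (comm_T x).symm⟩, ?_⟩⟩
    exact fun v hv => (h.small_key hs T_sq h.T_ne (comm_T x) hx).2 v hv.1.1 hv.1.2 hv.2
  have m3 := ncard_modEq_fixed 3 (by rw [← h.order_X, pow_orderOf_eq_one]) (inv_conj (φ mX))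
  have m5 := ncard_modEq_fixed 5 (orderOf_dvd_iff_pow_eq_one.1 h.order_Y.dvd) (inv_conj (φ mY))
  rw [key _ (Or.inl h.order_X)] at m3
  rw [key _ (Or.inr h.order_Y)] at m5
  have m2 := h.syl
  have hc := h.card_inv
  rw [← hc] at m2
  have := arith hlow h1 h2 h4 m2 m3 m5 m7
  rcases this with e | e
  · have := Fact.mk (by norm_num : Nat.Prime 43)
    exact not_simple_of_sylow (G := G) (p := 43) (m := 840) (by rw [← hc, e]) (by norm_num)
      (by norm_num) (by decide +kernel)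
  · have := Fact.mk (by norm_num : Nat.Prime 73)
    exact not_simple_of_sylow (G := G) (p := 73) (m := 840) (by rw [← hc, e]) (by norm_num)
      (by norm_num) (by decide +kernel)

end CfsgH9.J1
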