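/-
Groups with an involution centraliser `2 × A₅`: identification with `J₁`.
-/
import Cfsg.Agent.H9.J1Small
import Cfsg.Agent.H9.J1Mat

set_option autoImplicit false

namespace CfsgH9.J1

open Subgroup

theorem no_odd_sub {Γ : Type*} [Group Γ] [Finite Γ] [IsSimpleGroup Γ] (hc : Nat.card Γ = 175560)
    {z f : Γ} (hz : orderOf z = 7) (hf : orderOf f = 3) (hfz : f⁻¹ * z * f = z ^ 2)
    (hi : ∀ v, v * v = 1 → v ≠ 1 → ¬ Commute z v) (D : Subgroup Γ) (ho : Odd (Nat.card D))
    (hd : 1463 ∣ Nat.card D) : False := by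
  have := Fact.mk (by norm_num : Nat.Prime 7)
  have c7 : Nat.card (zpowers z) = 7 := by rw [Nat.card_zpowers, hz]
  let P : Sylow 7 Γ := (IsPGroup.of_card (G := zpowers z) (n := 1) c7).toSylow (by
    have := (zpowers z).index_mul_card
    rw [c7, hc] at this; omega)
  have hn : ∀ Q : Sylow 7 Γ,
      Nat.card (Sylow 7 Γ) * Nat.card (normalizer (Q : Set Γ)) = 175560 := fun Q => by
    rw [Q.card_eq_index_normalizer, index_mul_card, hc]
  have d7 : 7 ∣ Nat.card (normalizer (P : Set Γ)) :=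
    hz.symm.dvd.trans
      (Subgroup.orderOf_dvd_natCard _ (le_normalizer (H := zpowers z) (mem_zpowers z)))
  have d3 : 3 ∣ Nat.card (normalizer (P : Set Γ)) := by
    refine hf ▸ Subgroup.orderOf_dvd_natCard _ ((Subgroup.inv_mem_iff _).1
      (mem_normalizer_fintype ?_))
    rintro _ ⟨k, rfl⟩
    have := conj_zpow (a := f⁻¹) (b := z) (i := k)
    simp only
    rw [← this, inv_inv, hfz]
    exact zpow_mem (pow_mem (mem_zpowers z) 2) k
  have d4 : ¬ 4 ∣ Nat.card (normalizer (P : Set Γ)) := fun h4 => by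
    have h1 := h4.trans (card_normalizer_dvd (zpowers z))
    rw [IsCyclic.card_mulAut, c7, show Nat.totient 7 = 6 by decide] at h1
    obtain ⟨v, hv, v2⟩ := CfsgH4.exists_involution_mem_of_even
      (H := centralizer (zpowers z : Set Γ)) (by rw [Nat.even_iff]; omega)
    have := CfsgH4.orderOf_eq_two_iff.1 v2
    exact hi v this.1 this.2 (hv z (mem_zpowers z))
  have d11 : 11 ∣ Nat.card (normalizer (P : Set Γ)) := by
    obtain ⟨Q⟩ : Nonempty (Sylow 7 D) := inferInstance
    have h1 : Nat.card (Sylow 7 D) * Nat.card (normalizer (Q : Set D)) = Nat.card D := by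
      rw [Q.card_eq_index_normalizer, index_mul_card]
    have h2 : Nat.card D ∣ 21945 := by
      have := D.card_subgroup_dvd_card
      rw [hc, show 175560 = 2 ^ 3 * 21945 by norm_num] at this
      exact (Nat.Coprime.pow_right 3 ho.coprime_two_right).dvd_of_dvd_mul_left this
    have h3 : ∀ d ∈ Nat.divisors 21945, d % 7 = 1 % 7 → ¬ 11 ∣ d := by decide +kernel
    have h4 := h3 _ (Nat.mem_divisors.2 ⟨(Dvd.intro _ h1).trans h2, by norm_num⟩)
      (card_sylow_modEq_one 7 D)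
    have h5 : 11 ∣ Nat.card (normalizer (Q : Set D)) :=
      ((Nat.Prime.dvd_mul (by norm_num)).1 (h1 ▸ Dvd.dvd.trans (by norm_num) hd)).resolve_left h4
    obtain ⟨R, hR⟩ := (Q.isPGroup'.map D.subtype).exists_le_sylow
    have h6 : Nat.card R = 7 := (Nat.card_congr (R.equiv P).toEquiv).trans c7
    have h7 : (Q : Subgroup D).map D.subtype = R := eq_of_le_of_card_ge hR (by
      rw [h6, card_map_of_injective D.subtype_injective]
      refine Nat.le_of_dvd Nat.card_pos ?_
      have := Q.pow_dvd_card_of_pow_dvd_card (n := 1) (Dvd.dvd.trans (by norm_num) hd)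
      rwa [pow_one] at this)
    have h8 := card_dvd_of_le (le_normalizer_map (H := (Q : Subgroup D)) D.subtype)
    rw [card_map_of_injective D.subtype_injective, h7] at h8
    have h9 := Nat.eq_of_mul_eq_mul_left Nat.card_pos ((hn R).trans (hn P).symm)
    exact h9 ▸ h5.trans h8
  obtain ⟨c, hc'⟩ : 231 ∣ Nat.card (normalizer (P : Set Γ)) := by omega
  have h1 := hn P
  rw [hc'] at h1 d4
  have h2 : Nat.card (Sylow 7 Γ) * c = 760 := by nlinarith
  have h3 : ∀ d ∈ Nat.divisors 760, d % 7 = 1 % 7 → d = 1 ∨ d = 8 ∨ d = 190 := by decide +kernel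
  rcases h3 _ (Nat.mem_divisors.2 ⟨Dvd.intro _ h2, by norm_num⟩) (card_sylow_modEq_one 7 Γ)
    with e | e | e
  · rw [e] at h2; omega
  · rw [P.card_eq_index_normalizer] at e
    have := CfsgH4.card_dvd_factorial_of_simple (H := normalizer (P : Set Γ))
      (fun h => by rw [h, index_top] at e; omega)
    rw [e, hc] at this
    exact absurd this (by decide)
  · rw [e] at h2; omega

variable {G : Type*} [Group G] {φ : MM →* G} {z : G}

theorem Conf.mem_closure (h : Conf φ z) (a : MM) :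
    φ a ∈ closure {gL φ z 2, gL φ z 3, gL φ z 7} := by
  set K := closure {gL φ z 2, gL φ z 3, gL φ z 7}
  have m2 : φ mQ ∈ K := subset_closure (Or.inl rfl)
  have m3 : φ mR ∈ K := subset_closure (Or.inr (Or.inl rfl))
  have m7 : z ∈ K := subset_closure (Or.inr (Or.inr rfl))
  have m1 : φ mP ∈ K := by
    have : z⁻¹ * φ mR * z = φ mP := h.act 2
    exact this ▸ K.mul_mem (K.mul_mem (K.inv_mem m7) m3) m7
  have m4 : φ mT ∈ K := by
    have : z⁻¹ * φ mT * z = φ mR := h.act 1
    rw [show φ mT = z * φ mR * z⁻¹ by rw [← this]; group]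
    exact K.mul_mem (K.mul_mem m7 m3) (K.inv_mem m7)
  obtain ⟨w, hw, e⟩ := m_gen a
  have : φ (wd mL w) ∈ K := by
    rw [map_wd]
    refine wd_mem fun i hi => ?_
    rcases w60_le w hw i hi with rfl | rfl | rfl
    exacts [m1, m2, m3]
  rcases e with e | e <;> rw [e]
  · exact this
  · rw [map_mul]; exact K.mul_mem m4 this

theorem Conf.eq_top [Finite G] [IsSimpleGroup G] (h : Conf φ z) {K : Subgroup G}
    [IsSimpleGroup K] (hc : Nat.card K = 175560) (hφ : ∀ a, φ a ∈ K) (hz : z ∈ K) : K = ⊤ := by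
  have hS : SS φ ≤ K := by rintro _ ⟨k, rfl⟩; exact hφ _
  have hC : ∀ g, Commute g (φ mT) → g ∈ K := fun g hg => by
    obtain ⟨m, rfl⟩ := h.cent g hg; exact hφ m
  have se : ∀ v g, v ∈ K → v * v = 1 → v ≠ 1 → g⁻¹ * v * g ∈ K → g ∈ K := by
    intro v g hv v2 v1 hg
    obtain ⟨a, ha, e1⟩ := h.conj_invol hS hz hv v2 v1
    obtain ⟨b, hb, e2⟩ := h.conj_invol hS hz hg (inv_conj g v ⟨v2, v1⟩).1 (inv_conj g v ⟨v2, v1⟩).2
    have : a * g * b⁻¹ ∈ K := hC _ (by
      have e3 : φ mT = b * (g⁻¹ * (a⁻¹ * φ mT * a) * g) * b⁻¹ := by rw [← e1, e2]; group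
      rw [Commute, SemiconjBy]; nth_rewrite 1 [e3]; group)
    rw [show g = a⁻¹ * (a * g * b⁻¹) * b by group]
    exact K.mul_mem (K.mul_mem (K.inv_mem ha) this) hb
  by_contra hK
  obtain ⟨u, u2, uK⟩ : ∃ u, u * u = 1 ∧ u ∉ K := by
    by_contra hn
    push Not at hn
    rcases (normalClosure_normal (s := {φ mT})).eq_bot_or_eq_top with e | e
    · exact h.T_ne (mem_bot.1 (e ▸ subset_normalClosure (Set.mem_singleton _)))
    · refine hK (top_unique (e ▸ (closure_le _).2 fun v hv => ?_))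
      obtain ⟨_, rfl, hv⟩ := Group.mem_conjugatesOfSet_iff.1 hv
      obtain ⟨g, rfl⟩ := isConj_iff.1 hv
      exact hn _ (by rw [conj_mul, T_sq]; group)
  have ui : u⁻¹ = u := inv_eq_of_mul_eq_one_left u2
  set D := K ⊓ K.comap (MulAut.conj u⁻¹).toMonoidHom with hD
  have mD : ∀ d, d ∈ D ↔ d ∈ K ∧ u⁻¹ * d * u ∈ K := fun d => by simp [hD]
  have ho : Odd (Nat.card D) := CfsgH4.odd_card_iff_no_involution.2 fun v hv v2 => by
    have := CfsgH4.orderOf_eq_two_iff.1 v2
    exact uK (se v u ((mD v).1 hv).1 this.1 this.2 ((mD v).1 hv).2)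
  have htr : {v | ∃ g ∈ D, v = g⁻¹ * φ mT * g} = {v | ∃ g ∈ K, v = g⁻¹ * φ mT * g} := by
    refine Set.Subset.antisymm (fun v ⟨g, hg, e⟩ => ⟨g, hg.1, e⟩) ?_
    rintro s ⟨g, hg, e⟩
    have sK : s ∈ K := e ▸ K.mul_mem (K.mul_mem (K.inv_mem hg) (hφ _)) hg
    obtain ⟨s2, s1⟩ : s ∈ Inv G := e ▸ inv_conj g _ ⟨T_sq, h.T_ne⟩
    obtain ⟨b2, b1⟩ := inv_conj u s ⟨s2, s1⟩
    have hodd := (odd_or_central T_sq b2).resolve_right (by
      rintro ⟨c, -, c2, c1, ct, cb⟩
      refine uK (se s u sK s2 s1 (se c _ (hC c ct) c2 c1 ?_))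
      rw [mul_assoc, cb.eq, inv_mul_cancel_left]; exact hC c ct)
    obtain ⟨k, -, m2, hm⟩ := exists_mid T_sq b2 hodd
    generalize (φ mT * (u⁻¹ * s * u)) ^ k * φ mT = m at m2 hm
    have mi : m⁻¹ = m := inv_eq_of_mul_eq_one_left m2
    have e1 : s = (m * u)⁻¹ * φ mT * (m * u) := by
      rw [mul_inv_rev, mi, mul_assoc u⁻¹, hm, ui]
      simp only [← mul_assoc]
      rw [u2, one_mul, mul_assoc _ m m, m2, mul_one, mul_assoc, u2, mul_one]
    have e2 : m * u ∈ K := se _ _ (hφ _) T_sq h.T_ne (e1 ▸ sK)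
    refine ⟨m * u, (mD _).2 ⟨e2, ?_⟩, e1⟩
    rw [mul_assoc, mul_assoc, u2, mul_one, ← mi, ← mul_inv_rev]
    exact K.inv_mem e2
  have c1 := ncard_class K (φ mT)
  have c2 := ncard_class D (φ mT)
  rw [inf_eq_right.2 (fun g hg => hC g (mem_centralizer_singleton_iff.1 hg)), h.card_centralizer,
    hc] at c1
  rw [htr, show {v | ∃ g ∈ K, v = g⁻¹ * φ mT * g}.ncard = 1463 by omega] at c2
  have e := Nat.card_congr (subgroupOfEquivOfLe (H := D) (K := K) inf_le_left).toEquiv
  exact no_odd_sub hc (z := ⟨z, hz⟩) (f := ⟨φ mF, hφ _⟩) (by rw [orderOf_mk, h.order_z])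
    (by rw [orderOf_mk, h.order_F]) (Subtype.ext h.frob)
    (fun v v2 v1 hv => h.z_no_invol (congrArg Subtype.val v2) (fun e => v1 (Subtype.ext e))
      (congrArg Subtype.val hv)) (D.subgroupOf K) (e ▸ ho) (e ▸ Dvd.intro _ c2)

theorem Loc.iso [Finite G] [IsSimpleGroup G] (h : Loc φ) : Nonempty (G ≃* JJ) := by
  obtain ⟨φ, z, h⟩ := h.exists_conf
  obtain ⟨e⟩ := iso_J h.base (h.dichotomy.resolve_right h.not_small) fun e =>
    m_small.2.2.2.2.2.2.2.2.2.1 (h.inj (e.trans (map_one φ).symm))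
  have := simple_JJ.1
  have := e.isSimpleGroup
  have := h.eq_top ((Nat.card_congr e.toEquiv).trans simple_JJ.2) h.mem_closure
    (subset_closure (Or.inr (Or.inr rfl)))
  exact ⟨(topEquiv.symm.trans (MulEquiv.subgroupCongr this.symm)).trans e⟩

theorem iso_of_centralizer [Finite G] [IsSimpleGroup G] {t : G}
    (ht : Cfsg.IsTwoCentralInvolution t) (e : centralizer ({t} : Set G) ≃* MM) :
    Nonempty (G ≃* JJ) := by
  obtain ⟨h2, P, hP, hc⟩ := ht
  set φ : MM →* G := (centralizer {t}).subtype.comp e.symm.toMonoidHom with hφ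
  have hinj : Function.Injective φ := Subtype.val_injective.comp e.symm.injective
  have ht : t ∈ centralizer ({t} : Set G) := mem_centralizer_singleton_iff.2 rfl
  have hT : φ mT = t := by
    have key : ∀ a, e ⟨t, ht⟩ * a = a * e ⟨t, ht⟩ := fun a => by
      obtain ⟨b, rfl⟩ := e.surjective a
      rw [← map_mul, ← map_mul]
      exact congrArg e (Subtype.ext (mem_centralizer_singleton_iff.1 b.2).symm)
    rcases m_center _ (key _) (key _) with h | h
    · rw [map_eq_one_iff _ e.injective] at h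
      exact absurd (congrArg Subtype.val h) (CfsgH4.ne_one_of_orderOf h2)
    · rw [← h]; simp [hφ]
  refine Loc.iso (φ := φ) ⟨hinj, fun g hg => ?_, fun h16 => ?_⟩
  · rw [hT] at hg
    exact ⟨e ⟨g, mem_centralizer_singleton_iff.2 hg⟩, by simp [hφ]⟩
  · have h1 := (P.pow_dvd_card_of_pow_dvd_card (n := 4) h16).trans
      (card_dvd_of_le (K := centralizer {t}) fun x hx => mem_centralizer_singleton_iff.2 (hc x hx))
    rw [Nat.card_congr e.toEquiv, card_MM] at h1
    exact absurd h1 (by norm_num)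

end CfsgH9.J1
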