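import Cfsg.Agent.H9.Dickson

set_option autoImplicit false

namespace CfsgH9
open Matrix
open scoped MatrixGroups

theorem sl2_normal_eq_top {F : Type*} [Field F] (h3 : 3 < ENat.card F) {N : Subgroup SL(2, F)}
    [hN : N.Normal] (hnc : ¬ N ≤ Subgroup.center SL(2, F)) : N = ⊤ := by
  rcases r1_normal_dichotomy special_UU_LL.1 (N := N) (fun x _ => cj_of_normal x N) (by rw [UU_sup_LL]; exact le_top)
    with ⟨n, hn, e⟩ | h
  · have h1 : N ⊔ UU F = ⊤ := by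
      rw [eq_top_iff, ← UU_sup_LL, ← e]
      exact sup_le le_sup_right (cj_le_of_mem (Subgroup.mem_sup_left hn) le_sup_right)
    have h2 := Subgroup.Normal.commutator_le_of_self_sup_commutative_eq_top h1 (comm_self_iff.1 comm_UU)
    rw [sl2_perfect h3] at h2
    exact top_le_iff.1 h2
  · exact absurd (fun n hn => Subgroup.mem_center_iff.2 fun g =>
      (h n hn g (by rw [UU_sup_LL]; trivial)).symm) hnc

section R
variable {R : Type*} [CommRing R]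

/-- scalar matrices -/
def Ctr (g : SL(2, R)) : Prop := g.1 0 1 = 0 ∧ g.1 1 0 = 0 ∧ g.1 0 0 = g.1 1 1

theorem Ctr.comm {g : SL(2, R)} (h : Ctr g) (x : SL(2, R)) : g * x = x * g := by
  obtain ⟨h1, h2, h3⟩ := h
  apply sl2_ext <;> simp only [sl2_mul_apply, h1, h2, h3] <;> ring

theorem ctr_of_commute {g : SL(2, R)} {c z : R} (hc : IsUnit c) (hz : IsUnit z) (h1 : g * xU c = xU c * g)
    (h2 : g * xL z = xL z * g) : Ctr g := by
  have e1 := congrArg (fun g : SL(2, R) => g.1 0 0) h1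
  have e2 := congrArg (fun g : SL(2, R) => g.1 0 1) h1
  have e3 := congrArg (fun g : SL(2, R) => g.1 0 0) h2
  simp only [sl2_mul_apply] at e1 e2 e3
  simp at e1 e2 e3
  refine ⟨hz.mul_left_eq_zero.1 e3, hc.mul_right_eq_zero.1 e1, ?_⟩
  rw [← sub_eq_zero]
  exact hc.mul_right_eq_zero.1 (by linear_combination e2)

theorem ctr_iff_center {g : SL(2, R)} : Ctr g ↔ g ∈ Subgroup.center SL(2, R) :=
  ⟨fun h => Subgroup.mem_center_iff.2 fun x => (h.comm x).symm, fun h =>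
    ctr_of_commute isUnit_one isUnit_one (Subgroup.mem_center_iff.1 h _).symm
      (Subgroup.mem_center_iff.1 h _).symm⟩

theorem conj_xU_coe (g : SL(2, R)) (c : R) : (g * xU c * g⁻¹).1 0 0 = 1 - c * g.1 0 0 * g.1 1 0 ∧
    (g * xU c * g⁻¹).1 0 1 = c * g.1 0 0 ^ 2 ∧ (g * xU c * g⁻¹).1 1 0 = -(c * g.1 1 0 ^ 2) ∧
    (g * xU c * g⁻¹).1 1 1 = 1 + c * g.1 0 0 * g.1 1 0 := by
  have hd := sl2_det g
  simp only [sl2_mul_apply, sl2_inv_coe]
  simp
  refine ⟨?_, ?_, ?_, ?_⟩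
  · linear_combination hd
  · ring
  · ring
  · linear_combination hd

theorem conj_xL_coe (g : SL(2, R)) (c : R) : (g * xL c * g⁻¹).1 0 0 = 1 + c * g.1 0 1 * g.1 1 1 ∧
    (g * xL c * g⁻¹).1 0 1 = -(c * g.1 0 1 ^ 2) ∧ (g * xL c * g⁻¹).1 1 0 = c * g.1 1 1 ^ 2 ∧
    (g * xL c * g⁻¹).1 1 1 = 1 - c * g.1 0 1 * g.1 1 1 := by
  have hd := sl2_det g
  simp only [sl2_mul_apply, sl2_inv_coe]
  simp
  refine ⟨?_, ?_, ?_, ?_⟩
  · linear_combination hd
  · ring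
  · ring
  · linear_combination hd

theorem lower_eq_zero_of_conj (h2 : IsUnit (2 : R)) {g : SL(2, R)} {c : R} (hc : IsUnit c)
    (h1 : (g * xU c * g⁻¹).1 1 0 = 0) (h0 : (g * xU c * g⁻¹).1 0 0 = (g * xU c * g⁻¹).1 1 1) :
    g.1 1 0 = 0 := by
  obtain ⟨a1, -, a3, a4⟩ := conj_xU_coe g c
  rw [a3] at h1
  rw [a1, a4] at h0
  have e1 : g.1 1 0 ^ 2 = 0 := hc.mul_right_eq_zero.1 (by linear_combination -h1)
  have e2 : g.1 0 0 * g.1 1 0 = 0 :=
    hc.mul_right_eq_zero.1 (h2.mul_right_eq_zero.1 (by linear_combination -h0))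
  linear_combination g.1 1 1 * e2 - g.1 0 1 * e1 - g.1 1 0 * sl2_det g

theorem upper_eq_zero_of_conj (h2 : IsUnit (2 : R)) {g : SL(2, R)} {c : R} (hc : IsUnit c)
    (h1 : (g * xL c * g⁻¹).1 0 1 = 0) (h0 : (g * xL c * g⁻¹).1 0 0 = (g * xL c * g⁻¹).1 1 1) :
    g.1 0 1 = 0 := by
  obtain ⟨a1, a2, -, a4⟩ := conj_xL_coe g c
  rw [a2] at h1
  rw [a1, a4] at h0
  have e1 : g.1 0 1 ^ 2 = 0 := hc.mul_right_eq_zero.1 (by linear_combination -h1)
  have e2 : g.1 0 1 * g.1 1 1 = 0 :=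
    hc.mul_right_eq_zero.1 (h2.mul_right_eq_zero.1 (by linear_combination h0))
  linear_combination g.1 0 0 * e2 - g.1 1 0 * e1 - g.1 0 1 * sl2_det g

theorem upper_of_ctr_comm (h2 : IsUnit (2 : R)) {g : SL(2, R)} {c : R} (hc : IsUnit c)
    (h : Ctr (g * xU c * g⁻¹ * (xU c)⁻¹)) : g.1 1 0 = 0 ∧ g.1 0 0 = g.1 1 1 := by
  obtain ⟨h1, h3, h4⟩ := h
  have e : g * xU c * g⁻¹ = (g * xU c * g⁻¹ * (xU c)⁻¹) * xU c := by group
  generalize g * xU c * g⁻¹ * (xU c)⁻¹ = l at *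
  have e10 : g.1 1 0 = 0 := by
    refine lower_eq_zero_of_conj h2 hc ?_ ?_ <;> rw [e] <;> simp only [sl2_mul_apply, h1, h3, h4] <;> simp
  obtain ⟨a1, a2, -, -⟩ := conj_xU_coe g c
  rw [e] at a1 a2
  simp only [sl2_mul_apply, h1, e10] at a1 a2
  simp at a1 a2
  refine ⟨e10, ?_⟩
  have e3 : g.1 0 0 ^ 2 - 1 = 0 := hc.mul_right_eq_zero.1 (by linear_combination -a2 + c * a1)
  have hd := sl2_det g
  rw [e10] at hd
  linear_combination g.1 1 1 * e3 - g.1 0 0 * hd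

theorem lower_of_ctr_comm (h2 : IsUnit (2 : R)) {g : SL(2, R)} {c : R} (hc : IsUnit c)
    (h : Ctr (g * xL c * g⁻¹ * (xL c)⁻¹)) : g.1 0 1 = 0 ∧ g.1 0 0 = g.1 1 1 := by
  obtain ⟨h1, h3, h4⟩ := h
  have e : g * xL c * g⁻¹ = (g * xL c * g⁻¹ * (xL c)⁻¹) * xL c := by group
  generalize g * xL c * g⁻¹ * (xL c)⁻¹ = l at *
  have e01 : g.1 0 1 = 0 := by
    refine upper_eq_zero_of_conj h2 hc ?_ ?_ <;> rw [e] <;> simp only [sl2_mul_apply, h1, h3, h4] <;> simp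
  obtain ⟨-, -, a2, a1⟩ := conj_xL_coe g c
  rw [e] at a1 a2
  simp only [sl2_mul_apply, h3, e01] at a1 a2
  simp at a1 a2
  refine ⟨e01, ?_⟩
  have e3 : g.1 1 1 ^ 2 - 1 = 0 := hc.mul_right_eq_zero.1 (by linear_combination -a2 + c * a1)
  have hd := sl2_det g
  rw [e01] at hd
  linear_combination -g.1 0 0 * e3 + g.1 1 1 * hd

theorem ctr_of_ctr_comm (h2 : IsUnit (2 : R)) {g : SL(2, R)} {c z : R} (hc : IsUnit c) (hz : IsUnit z)
    (h : Ctr (g * xU c * g⁻¹ * (xU c)⁻¹)) (h' : Ctr (g * xL z * g⁻¹ * (xL z)⁻¹)) : Ctr g :=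
  ⟨(lower_of_ctr_comm h2 hz h').1, upper_of_ctr_comm h2 hc h⟩

/-- reduction modulo an ideal -/
abbrev red (J : Ideal R) : SL(2, R) →* SL(2, R ⧸ J) := Matrix.SpecialLinearGroup.map (Ideal.Quotient.mk J)

theorem slmap_apply {R' : Type*} [CommRing R'] (f : R →+* R') (g : SL(2, R)) (i j : Fin 2) :
    (Matrix.SpecialLinearGroup.map f g).1 i j = f (g.1 i j) := rfl

theorem slmap_xU {R' : Type*} [CommRing R'] (f : R →+* R') (c : R) :
    Matrix.SpecialLinearGroup.map f (xU c) = xU (f c) := by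
  apply sl2_ext <;> simp [slmap_apply]

theorem slmap_xL {R' : Type*} [CommRing R'] (f : R →+* R') (c : R) :
    Matrix.SpecialLinearGroup.map f (xL c) = xL (f c) := by
  apply sl2_ext <;> simp [slmap_apply]

theorem red_eq_one {J : Ideal R} {g : SL(2, R)} :
    red J g = 1 ↔ g.1 0 0 - 1 ∈ J ∧ g.1 0 1 ∈ J ∧ g.1 1 0 ∈ J ∧ g.1 1 1 - 1 ∈ J := by
  simp only [← Ideal.Quotient.eq_zero_iff_mem, map_sub, map_one, sub_eq_zero]
  constructor
  · intro h
    simp only [← slmap_apply, h]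
    simp
  · rintro ⟨h1, h2, h3, h4⟩
    apply sl2_ext <;> rw [slmap_apply] <;> simp [*]

theorem ctr_red {J : Ideal R} {g : SL(2, R)} :
    Ctr (red J g) ↔ g.1 0 1 ∈ J ∧ g.1 1 0 ∈ J ∧ g.1 0 0 - g.1 1 1 ∈ J := by
  simp only [Ctr, slmap_apply, Ideal.Quotient.eq_zero_iff_mem, Ideal.Quotient.eq]

theorem red_comm_of_ctr {J : Ideal R} {g : SL(2, R)} (h : Ctr (red J g)) (x : SL(2, R)) :
    red J (g * x * g⁻¹ * x⁻¹) = 1 := by
  simp only [map_mul, map_inv]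
  rw [h.comm]; group

theorem ctr_one : Ctr (1 : SL(2, R)) := by simp [Ctr]

variable {k : Type*} [Field k] [Algebra k R]

theorem map_HK {R' : Type*} [CommRing R'] [Algebra k R'] (f : R →ₐ[k] R') (z : R) :
    (HK k z).map (Matrix.SpecialLinearGroup.map (f : R →+* R')) = HK k (f z) := by
  rw [HK, HK, MonoidHom.map_closure, Set.image_union]
  congr 2
  · ext g
    constructor
    · rintro ⟨_, ⟨c, rfl⟩, rfl⟩; exact ⟨c, by rw [slmap_xU]; simp⟩
    · rintro ⟨c, rfl⟩; exact ⟨_, ⟨c, rfl⟩, by rw [slmap_xU]; simp⟩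
  · ext g
    constructor
    · rintro ⟨_, ⟨c, rfl⟩, rfl⟩; exact ⟨c, by rw [slmap_xL]; simp⟩
    · rintro ⟨c, rfl⟩; exact ⟨_, ⟨c, rfl⟩, by rw [slmap_xL]; simp⟩

theorem adjoin_quot {z : R} (hadj : Algebra.adjoin k {z} = ⊤) (m : Ideal R) :
    Algebra.adjoin k {Ideal.Quotient.mk m z} = ⊤ := by
  have := AlgHom.map_adjoin (Ideal.Quotient.mkₐ k m) {z}
  rw [hadj, Set.image_singleton, Algebra.map_top, (AlgHom.range_eq_top _).2
    (Ideal.Quotient.mkₐ_surjective k m)] at this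
  exact this.symm

theorem three_lt_card_of_algebra (h3 : 3 < ENat.card k) (F : Type*) [Field F] [Algebra k F] :
    3 < ENat.card F :=
  h3.trans_le (ENat.card_le_card_of_injective (algebraMap k F).injective)

theorem map_HK_eq_top [Module.Finite k R] (h2 : (2 : k) ≠ 0) (h3 : 3 < ENat.card k) {z : R} (hz : IsUnit z)
    (hadj : Algebra.adjoin k {z} = ⊤) (m : Ideal R) [hm : m.IsMaximal] : (HK k z).map (red m) = ⊤ := by
  letI := Ideal.Quotient.field m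
  have := map_HK (Ideal.Quotient.mkₐ k m) z
  refine this.trans (dickson h2 h3 (Algebra.IsIntegral.isIntegral _) ?_ (adjoin_quot hadj m))
  exact (hz.map (Ideal.Quotient.mkₐ k m)).ne_zero

theorem isUnit_two (h2 : (2 : k) ≠ 0) : IsUnit (2 : R) := by
  rw [← map_ofNat (algebraMap k R) 2]; exact h2.isUnit.map _

theorem claimN [Module.Finite k R] (h2 : (2 : k) ≠ 0) (h3 : 3 < ENat.card k) {z : R} (hz : IsUnit z)
    (hadj : Algebra.adjoin k {z} = ⊤) (N : Subgroup SL(2, R))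
    (hN : ∀ h ∈ HK k z, ∀ n ∈ N, h * n * h⁻¹ ∈ N) (hnc : ∃ n ∈ N, ¬ Ctr n) :
    ∃ r : R, r ≠ 0 ∧ ∀ c : k, xU (algebraMap k R c * r) ∈ N := by
  have hart : IsArtinianRing R := IsArtinianRing.of_finite k R
  have h2R : IsUnit (2 : R) := isUnit_two h2
  have hx1 : xU (1 : R) ∈ HK k z := by simpa using xU_mem_HK (k := k) z 1
  have hy1 : xL z ∈ HK k z := by simpa using xL_mem_HK (k := k) z 1
  have hcomm : ∀ n ∈ N, ∀ h ∈ HK k z, n * h * n⁻¹ * h⁻¹ ∈ N := by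
    intro n hn h hh
    have := mul_mem hn (hN h hh _ (inv_mem hn))
    simpa [mul_assoc] using this
  obtain ⟨J, ⟨n, hn, hnJ, hnc'⟩, hmin⟩ := (wellFounded_lt (α := Ideal R)).has_min
    {J | ∃ n ∈ N, Ctr (red J n) ∧ ¬ Ctr n} (by
      obtain ⟨n, hn, h⟩ := hnc
      exact ⟨⊤, n, hn, ctr_red.2 ⟨trivial, trivial, trivial⟩, h⟩)
  obtain ⟨n₁, hn₁, hn₁J, hn₁c⟩ : ∃ n₁ ∈ N, red J n₁ = 1 ∧ ¬ Ctr n₁ := by
    by_contra hcon
    push Not at hcon
    exact hnc' (ctr_of_ctr_comm h2R isUnit_one hz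
      (hcon _ (hcomm n hn _ hx1) (red_comm_of_ctr hnJ _)) (hcon _ (hcomm n hn _ hy1) (red_comm_of_ctr hnJ _)))
  have hJ : ⊥ < J := by
    rw [bot_lt_iff_ne_bot]
    rintro rfl
    exact hnc' (by simpa [Ctr, sub_eq_zero] using ctr_red.1 hnJ)
  obtain ⟨J', hJ'J, hmax⟩ := (wellFounded_gt (α := Ideal R)).has_min {I | I < J} ⟨⊥, hJ⟩
  have hJ'le : J' ≤ J := le_of_lt hJ'J
  have hsup : ∀ I : Ideal R, I ≤ J → ¬ I ≤ J' → J ≤ I ⊔ J' := by
    intro I hI hI'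
    by_contra hcon
    exact hmax (I ⊔ J') (lt_of_le_of_ne (sup_le hI hJ'le) fun e => hcon e.ge)
      (lt_of_le_of_ne le_sup_right fun e => hI' (le_sup_left.trans e.ge))
  have hctr : ∀ n ∈ N, Ctr (red J' n) → Ctr n := by
    intro n hn h
    by_contra hc
    exact hmin J' ⟨n, hn, h, hc⟩ hJ'J
  have hconjJ : ∀ n h : SL(2, R), red J n = 1 → red J (h * n * h⁻¹) = 1 := by
    intro n h e; simp [e]
  have half : ∀ a : R, 2 * a ∈ J' → a ∈ J' := fun a h => (Ideal.unit_mul_mem_iff_mem _ h2R).1 h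
  obtain ⟨h, hh, h10, h00⟩ : ∃ h ∈ N, h.1 1 0 ∈ J' ∧ h.1 0 0 ^ 2 - 1 ∉ J' := by
    by_cases hA : J * J ≤ J'
    · have mm : ∀ {a b : R}, a ∈ J → b ∈ J → a * b ∈ J' := fun ha hb => hA (Ideal.mul_mem_mul ha hb)
      have caseA : ∀ n ∈ N, red J n = 1 → n.1 1 0 ∉ J' → ∃ h ∈ N, h.1 1 0 ∈ J' ∧ h.1 0 0 ^ 2 - 1 ∉ J' := by
        intro n hn hnJ hc
        obtain ⟨a1, a2, a3, a4⟩ := red_eq_one.1 hnJ
        have hd := sl2_det n
        refine ⟨xU 1 * n * (xU 1)⁻¹ * n⁻¹, mul_mem (hN _ hx1 _ hn) (inv_mem hn), ?_, fun hc' => hc (half _ ?_)⟩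
        · have : (xU 1 * n * (xU 1)⁻¹ * n⁻¹).1 1 0 = n.1 1 0 * n.1 1 0 := by
            simp only [sl2_mul_apply, sl2_inv_coe]; simp; ring
          rw [this]; exact mm a3 a3
        · have : (xU 1 * n * (xU 1)⁻¹ * n⁻¹).1 0 0 = 1 + n.1 1 0 * (n.1 0 0 + n.1 1 0) := by
            simp only [sl2_mul_apply, sl2_inv_coe]; simp; linear_combination hd
          rw [this] at hc'
          have e := sub_mem hc' (mm a3 (add_mem (J.mul_mem_left 2 (add_mem a1 a3))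
            (J.mul_mem_right ((n.1 0 0 + n.1 1 0) ^ 2) a3)))
          convert e using 1
          ring
      obtain ⟨a1, a2, a3, a4⟩ := red_eq_one.1 hn₁J
      have hd := sl2_det n₁
      by_cases c1 : n₁.1 1 0 ∈ J'
      · by_cases c2 : n₁.1 0 0 - n₁.1 1 1 ∈ J'
        · have c3 : n₁.1 0 1 ∉ J' := fun c3 => hn₁c (hctr _ hn₁ (ctr_red.2 ⟨c3, c1, c2⟩))
          refine caseA _ (hN _ hy1 _ hn₁) (hconjJ _ _ hn₁J) fun c4 => c3 ?_
          have : (xL z * n₁ * (xL z)⁻¹).1 1 0 = n₁.1 1 0 + z * (n₁.1 0 0 - n₁.1 1 1) - z ^ 2 * n₁.1 0 1 := by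
            simp only [sl2_mul_apply, sl2_inv_coe]; simp; ring
          rw [this] at c4
          refine (Ideal.unit_mul_mem_iff_mem _ (hz.pow 2)).1 ?_
          have e := sub_mem (add_mem c1 (J'.mul_mem_left z c2)) c4
          convert e using 1
          ring
        · refine ⟨n₁, hn₁, c1, fun c3 => c2 ?_⟩
          have e := sub_mem (add_mem (sub_mem c3 (mm a1 a1)) (mm a1 a4)) (mm a2 a3)
          convert e using 1
          linear_combination -hd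
      · exact caseA _ hn₁ hn₁J c1
    · rw [Ideal.mul_le] at hA
      push Not at hA
      obtain ⟨j₀, hj₀, j₁, hj₁, hj⟩ := hA
      have hj₀' : j₀ ∉ J' := fun h => hj (J'.mul_mem_right _ h)
      let m : Ideal R := J'.colon {j₀}
      have hm : ∀ r, r ∈ m ↔ r * j₀ ∈ J' := fun r => by simp [m, Submodule.mem_colon_singleton]
      have hgen : ∀ a ∈ J, a ∉ J' → ∀ j ∈ J, ∃ s, j - s * a ∈ J' := by
        intro a ha ha' j hj
        have := hsup (Ideal.span {a}) ((Ideal.span_singleton_le_iff_mem _).2 ha)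
          (fun h => ha' (h (Ideal.mem_span_singleton_self a))) hj
        obtain ⟨s, b, hb, e⟩ := Ideal.mem_span_singleton_sup.1 this
        exact ⟨s, by rw [← e]; simpa using hb⟩
      have hmJ : ∀ r ∈ m, ∀ j ∈ J, r * j ∈ J' := by
        intro r hr j hj
        obtain ⟨s, hs⟩ := hgen j₀ hj₀ hj₀' j hj
        have e := add_mem (J'.mul_mem_left r hs) (J'.mul_mem_left s ((hm r).1 hr))
        convert e using 1
        ring
      have hmax' : m.IsMaximal := by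
        rw [Ideal.isMaximal_iff]
        refine ⟨fun h => hj₀' (by simpa using (hm 1).1 h), fun I x hI hx hxI => ?_⟩
        obtain ⟨s, hs⟩ := hgen (x * j₀) (J.mul_mem_left _ hj₀) (fun h => hx ((hm x).2 h)) j₀ hj₀
        have h1 : 1 - s * x ∈ m := (hm _).2 (by convert hs using 1; ring)
        have := add_mem (hI h1) (I.mul_mem_left s hxI)
        simpa using this
      have hinf : ∀ x ∈ J, x ∈ m → x ∈ J' := by
        intro x hx hxm
        obtain ⟨s, hs⟩ := hgen (j₀ * j₁) (J.mul_mem_right _ hj₀) hj j₀ hj₀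
        have h1 : 1 - s * j₁ ∈ m := (hm _).2 (by convert hs using 1; ring)
        have e := add_mem (hmJ _ h1 x hx) (hmJ x hxm _ (J.mul_mem_left s hj₁))
        convert e using 1
        ring
      letI := Ideal.Quotient.field m
      have htop := map_HK_eq_top h2 h3 hz hadj m
      have h3F := three_lt_card_of_algebra h3 (R ⧸ m)
      have hnorm : ((N ⊓ (red J).ker).map (red m)).Normal := by
        constructor
        rintro _ ⟨n, hn, rfl⟩ g
        obtain ⟨h, hh, rfl⟩ : g ∈ (HK k z).map (red m) := by rw [htop]; trivial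
        exact ⟨h * n * h⁻¹, ⟨hN h hh n hn.1, hconjJ n h hn.2⟩, by simp⟩
      have hT := sl2_normal_eq_top h3F (N := (N ⊓ (red J).ker).map (red m)) (by
        intro hle
        obtain ⟨a1, a2, a3, a4⟩ := red_eq_one.1 hn₁J
        obtain ⟨b1, b2, b3⟩ := ctr_red.1 (ctr_iff_center.2 (hle ⟨n₁, ⟨hn₁, hn₁J⟩, rfl⟩))
        refine hn₁c (hctr _ hn₁ (ctr_red.2 ⟨hinf _ a2 b1, hinf _ a3 b2, hinf _ ?_ b3⟩))
        simpa using sub_mem a1 a4)
      obtain ⟨a, ha, ha2⟩ := exists_sq_ne_one h3F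
      obtain ⟨h, hh, e⟩ : (⟨!![a, 0; 0, a⁻¹], by simp [Matrix.det_fin_two, ha]⟩ : SL(2, R ⧸ m)) ∈
        (N ⊓ (red J).ker).map (red m) := by rw [hT]; trivial
      have e00 : Ideal.Quotient.mk m (h.1 0 0) = a := by rw [← slmap_apply, e]; rfl
      have e10 : Ideal.Quotient.mk m (h.1 1 0) = 0 := by rw [← slmap_apply, e]; rfl
      refine ⟨h, hh.1, hinf _ (red_eq_one.1 hh.2).2.2.1 (Ideal.Quotient.eq_zero_iff_mem.1 e10), fun hc => ha2 ?_⟩
      have : h.1 0 0 ^ 2 - 1 ∈ m := (hm _).2 (J'.mul_mem_right _ hc)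
      rw [← Ideal.Quotient.eq_zero_iff_mem, map_sub, map_pow, e00, map_one, sub_eq_zero] at this
      exact this
  have h10' : h.1 1 0 = 0 := by
    have hg := hcomm h hh _ hx1
    have e1 : red J' (h * xU 1 * h⁻¹ * (xU 1)⁻¹) = xU ((red J' h).1 0 0 ^ 2 * 1 + -1) := by
      simp only [map_mul, map_inv, slmap_xU, map_one]
      rw [borel_conj_xU (by rw [slmap_apply, Ideal.Quotient.eq_zero_iff_mem]; exact h10), xU_inv, xU_add]
    have e2 := upper_of_ctr_comm h2R isUnit_one (hctr _ (hcomm _ hg _ hx1) (by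
      rw [map_mul, map_mul, map_mul, map_inv, map_inv, e1, slmap_xU, comm_UU _ ⟨_, rfl⟩ _ ⟨_, rfl⟩]
      simpa using ctr_one))
    have e : h * xU 1 * h⁻¹ = (h * xU 1 * h⁻¹ * (xU 1)⁻¹) * xU 1 := by group
    generalize h * xU 1 * h⁻¹ * (xU 1)⁻¹ = l at *
    refine lower_eq_zero_of_conj h2R isUnit_one ?_ ?_ <;> rw [e] <;>
      simp only [sl2_mul_apply, e2.1, e2.2] <;> simp
  refine ⟨h.1 0 0 ^ 2 - 1, fun e => h00 (e ▸ zero_mem _), fun c => ?_⟩
  have := hcomm h hh _ (xU_mem_HK z c)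
  rw [borel_conj_xU h10', xU_inv, ← xU_add] at this
  convert this using 2
  ring

theorem field_of_min [Module.Finite k R] [Nontrivial R] (h2 : (2 : k) ≠ 0) (h3 : 3 < ENat.card k) {z : R}
    (hz : IsUnit z) (hadj : Algebra.adjoin k {z} = ⊤) (N : Subgroup SL(2, R))
    (hN : ∀ h ∈ HK k z, ∀ n ∈ N, h * n * h⁻¹ ∈ N) (hnc : ∃ n ∈ N, ¬ Ctr n)
    (hmin : ∀ r : R, r ≠ 0 → (∀ c : k, xU (algebraMap k R c * r) ∈ N) → IsUnit r) :
    IsField R ∧ N = ⊤ ∧ HK k z = ⊤ := by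
  have h2R : IsUnit (2 : R) := isUnit_two h2
  have hx1 : xU (1 : R) ∈ HK k z := by simpa using xU_mem_HK (k := k) z 1
  have hy1 : xL z ∈ HK k z := by simpa using xL_mem_HK (k := k) z 1
  obtain ⟨m, hm⟩ := Ideal.exists_maximal R
  letI := Ideal.Quotient.field m
  have htop := map_HK_eq_top h2 h3 hz hadj m
  have hlift : ∀ g : SL(2, R ⧸ m), ∃ h ∈ HK k z, red m h = g := fun g => by
    have : g ∈ (HK k z).map (red m) := by rw [htop]; trivial
    exact this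
  obtain ⟨r₁, hr₁, hr₁N⟩ := claimN h2 h3 hz hadj N hN hnc
  have hu₁ := hmin r₁ hr₁ hr₁N
  have hx₁ : xU r₁ ∈ N := by simpa using hr₁N 1
  have hKN : ∀ n ∈ N, Ctr (red m n) → Ctr n := by
    intro n hn hc
    by_contra hcon
    obtain ⟨r, hr, hrN⟩ := claimN h2 h3 hz hadj (N ⊓ (Subgroup.center _).comap (red m))
      (fun h hh n hn => ⟨hN h hh n hn.1, by
        have := (Subgroup.normal_of_characteristic (Subgroup.center SL(2, R ⧸ m))).conj_mem _ hn.2 (red m h)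
        simpa using this⟩) ⟨n, ⟨hn, ctr_iff_center.1 hc⟩, hcon⟩
    have h1 := hmin r hr fun c => (hrN c).1
    have h4 := (ctr_red.1 (ctr_iff_center.2 (hrN 1).2)).1
    simp only [map_one, one_mul, xU_coe, of_apply, cons_val', cons_val_one, cons_val_fin_one,
      cons_val_zero] at h4
    exact hm.ne_top (Ideal.eq_top_of_isUnit_mem _ h4 h1)
  have hK : ∀ g ∈ HK k z, Ctr (red m g) → Ctr g := by
    have up : ∀ g ∈ HK k z, Ctr (red m g) → g.1 1 0 = 0 ∧ g.1 0 0 = g.1 1 1 := by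
      intro g hg hc
      refine upper_of_ctr_comm h2R hu₁ (hKN _ (mul_mem (hN g hg _ hx₁) (inv_mem hx₁)) ?_)
      rw [red_comm_of_ctr hc]; exact ctr_one
    intro g hg hc
    obtain ⟨a1, a2⟩ := up g hg hc
    obtain ⟨b1, -⟩ := up (xL z * g * (xL z)⁻¹) (mul_mem (mul_mem hy1 hg) (inv_mem hy1)) (by
      rw [map_mul, map_mul, ← hc.comm, map_inv, mul_inv_cancel_right]; exact hc)
    refine ⟨(hz.pow 2).mul_right_eq_zero.1 ?_, a1, a2⟩
    simp only [sl2_mul_apply, sl2_inv_coe, a1, a2] at b1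
    simp at b1
    linear_combination -b1
  have h2F : NeZero (2 : R ⧸ m) := ⟨(isUnit_two h2).ne_zero⟩
  have liftU : ∀ j : R ⧸ m, ∃ l ∈ LevU (HK k z), Ideal.Quotient.mk m l = j := by
    intro j
    obtain ⟨g, hg, e⟩ := hlift (xU (j / 2))
    obtain ⟨a1, a2⟩ := upper_of_ctr_comm h2R isUnit_one (hK _
      (mul_mem (mul_mem (mul_mem hg hx1) (inv_mem hg)) (inv_mem hx1)) (by
        rw [map_mul, map_mul, map_mul, map_inv, map_inv, e, slmap_xU, comm_UU _ ⟨_, rfl⟩ _ ⟨_, rfl⟩]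
        simpa using ctr_one))
    have hd := sl2_det g
    rw [a1, a2, mul_zero, sub_zero] at hd
    have hsq : g * g = xU (2 * g.1 1 1 * g.1 0 1) := by
      apply sl2_ext <;> simp only [sl2_mul_apply, a1, a2] <;> simp [hd]
      ring
    refine ⟨_, mem_LevU.2 (hsq ▸ mul_mem hg hg), ?_⟩
    rw [← xU_inj, ← slmap_xU, ← hsq, map_mul, e, ← xU_add, add_halves]
  have liftL : ∀ j : R ⧸ m, ∃ l ∈ LevL (HK k z), Ideal.Quotient.mk m l = j := by
    intro j
    obtain ⟨g, hg, e⟩ := hlift (xL (j / 2))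
    obtain ⟨a1, a2⟩ := lower_of_ctr_comm h2R hz (hK _
      (mul_mem (mul_mem (mul_mem hg hy1) (inv_mem hg)) (inv_mem hy1)) (by
        rw [map_mul, map_mul, map_mul, map_inv, map_inv, e, slmap_xL, comm_LL _ ⟨_, rfl⟩ _ ⟨_, rfl⟩]
        simpa using ctr_one))
    have hd := sl2_det g
    rw [a1, a2, zero_mul, sub_zero] at hd
    have hsq : g * g = xL (2 * g.1 1 1 * g.1 1 0) := by
      apply sl2_ext <;> simp only [sl2_mul_apply, a1, a2] <;> simp [hd]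
      ring
    refine ⟨_, mem_LevL.2 (hsq ▸ mul_mem hg hg), ?_⟩
    rw [← xL_inj, ← slmap_xL, ← hsq, map_mul, e, ← xL_add, add_halves]
  have hpair : ∀ a ∈ LevU (HK k z), ∀ b ∈ LevL (HK k z),
      Ideal.Quotient.mk m b * Ideal.Quotient.mk m a = 1 → a * b = 1 := by
    intro a ha b hb e
    have hw : xU a * xL (-b) * xU a ∈ HK k z := mul_mem (mul_mem ha (neg_mem hb)) ha
    obtain ⟨μ, hμ, eμ⟩ := liftL (-(Ideal.Quotient.mk m b ^ 2 * 1))
    obtain ⟨c1, c2, c3⟩ := hK _ (mul_mem (mul_mem (mul_mem hw hx1) (inv_mem hw)) (inv_mem (mem_LevL.1 hμ))) (by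
      rw [map_mul, map_mul, map_mul, map_inv, map_inv, map_mul, map_mul, slmap_xU, slmap_xU, slmap_xL,
        slmap_xL, map_neg, map_one, w_conj_xU e, eμ, mul_inv_cancel]
      exact ctr_one)
    have e0 : (xU a * xL (-b) * xU a).1 0 0 = 1 - a * b := by
      simp only [sl2_mul_apply]; simp; ring
    generalize xU a * xL (-b) * xU a = w at *
    have e1 : w * xU 1 * w⁻¹ = (w * xU 1 * w⁻¹ * (xL μ)⁻¹) * xL μ := by group
    obtain ⟨a1, a2, -, a4⟩ := conj_xU_coe w 1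
    rw [e1] at a1 a2 a4
    generalize w * xU 1 * w⁻¹ * (xL μ)⁻¹ = l at *
    simp only [sl2_mul_apply, c1, c2, c3] at a1 a2 a4
    simp at a1 a2 a4
    have f1 : w.1 0 0 * w.1 1 0 = 0 := h2R.mul_right_eq_zero.1 (by linear_combination a1 - a4)
    have f2 : w.1 0 0 = 0 := by
      linear_combination (-w.1 1 1) * a2 - w.1 0 1 * f1 - w.1 0 0 * sl2_det w
    linear_combination e0 - f2
  have hU : ∀ a ∈ LevU (HK k z), a ≠ 0 → ∃ b ∈ LevL (HK k z), a * b = 1 := by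
    intro a ha ha0
    have : Ideal.Quotient.mk m a ≠ 0 := fun e => ha0 (by
      simpa using (hK _ ha (ctr_red.2 ⟨Ideal.Quotient.eq_zero_iff_mem.1 e, by simp, by simp⟩)).1)
    obtain ⟨b, hb, e⟩ := liftL (Ideal.Quotient.mk m a)⁻¹
    exact ⟨b, hb, hpair a ha b hb (by rw [e, inv_mul_cancel₀ this])⟩
  have hL : ∀ a ∈ LevL (HK k z), a ≠ 0 → ∃ b ∈ LevU (HK k z), a * b = 1 := by
    intro a ha ha0
    have : Ideal.Quotient.mk m a ≠ 0 := fun e => ha0 (by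
      simpa using (hK _ ha (ctr_red.2 ⟨by simp, Ideal.Quotient.eq_zero_iff_mem.1 e, by simp⟩)).2.1)
    obtain ⟨b, hb, e⟩ := liftU (Ideal.Quotient.mk m a)⁻¹
    exact ⟨b, hb, by rw [mul_comm]; exact hpair b hb a ha (by rw [e, mul_inv_cancel₀ this])⟩
  have hΛ := hua _ _ hU hL (xU_mem_HK z) h2 hy1 hz.ne_zero hadj
  have hF : IsField R := ⟨exists_pair_ne R, mul_comm, fun {a} ha => by
    obtain ⟨b, -, e⟩ := hU a (by rw [hΛ]; trivial) ha
    exact ⟨b, e⟩⟩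
  letI := hF.toField
  have hH : HK k z = ⊤ := eq_top_of_xU (fun r => by rw [← mem_LevU, hΛ]; trivial) hz.ne_zero hy1
  refine ⟨hF, ?_, hH⟩
  have : N.Normal := ⟨fun n hn g => hN g (by rw [hH]; trivial) n hn⟩
  obtain ⟨n, hn, hc⟩ := hnc
  exact sl2_normal_eq_top (three_lt_card_of_algebra h3 R) fun h => hc (ctr_iff_center.2 (h hn))

end R

end CfsgH9
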