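import Cfsg.Agent.H9.DCount
import Cfsg.Agent.H9.SL2

set_option autoImplicit false

namespace CfsgH9
open MulAction Matrix
open scoped MatrixGroups OnePoint

theorem dickson_count' {Γ X : Type*} [Group Γ] [MulAction Γ X] (H : Subgroup Γ) [Finite H]
    (U : X → Subgroup Γ) {p : ℕ} (hp : p.Prime)
    (hU : ∀ ω g, g ∈ U ω ↔ (∀ x : X, g • x = x) ∨ fixedBy X g = {ω})
    (ha : ∀ g : Γ, (∀ x : X, g • x = x) ∨ (∃ ω, fixedBy X g = {ω}) ∨ ∃ ω ω', ω ≠ ω' ∧ fixedBy X g = {ω, ω'})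
    (hc : ∀ (ω : X) (g h : Γ), g • ω = ω → h • ω = ω → g * h * g⁻¹ * h⁻¹ ∈ U ω)
    (hpow : ∀ ω, ∀ g ∈ U ω, ∀ x : X, g ^ p • x = x) (o x₀ : X)
    (hQ : 4 ≤ {y | ∃ u ∈ H, u ∈ U o ∧ u • x₀ = y}.ncard)
    {x y : X} (hx : x ≠ o) (hy : y ≠ o) (hx' : ∃ g ∈ H, fixedBy X g = {x}) (hy' : ∃ g ∈ H, fixedBy X g = {y}) :
    ∃ u ∈ H, u ∈ U o ∧ u • x = y := by
  let ρ := MulAction.toPermHom Γ X
  let G := H.map ρ
  have hfin : Finite G := Finite.of_surjective (ρ.subgroupMap H) (ρ.subgroupMap_surjective H)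
  have hrep : ∀ g : G, ∃ h ∈ H, ρ h = g := fun g => g.2
  have hsm : ∀ (g : G) (h : Γ), ρ h = g → ∀ z : X, g • z = h • z := by
    intro g h e z
    show (g : Equiv.Perm X) z = _
    rw [← e]; rfl
  have hfx : ∀ (g : G) (h : Γ), ρ h = g → fixedBy X g = fixedBy X h := by
    intro g h e
    ext z
    rw [mem_fixedBy, mem_fixedBy, hsm g h e]
  have hone : ∀ (g : G) (h : Γ), ρ h = g → (g = 1 ↔ ∀ z : X, h • z = z) := by
    intro g h e
    constructor
    · rintro rfl z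
      rw [← hsm 1 h e, one_smul]
    · intro h1
      apply Subtype.ext
      ext z
      exact (hsm g h e z).trans (h1 z)
  let U' : X → Subgroup G := fun ω => ((U ω).map ρ).subgroupOf G
  have hU' : ∀ ω (g : G) (h : Γ), ρ h = g → (g ∈ U' ω ↔ h ∈ U ω) := by
    intro ω g h e
    constructor
    · rintro ⟨h', hh', e'⟩
      have e'' : ρ h' = g := e'
      have : h' ∈ U ω := hh'
      rw [hU, ← hone g h' e'', ← hfx g h' e''] at this
      rwa [hU, ← hone g h e, ← hfx g h e]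
    · intro hh; exact ⟨h, hh, e⟩
  have hne : ∀ z : X, z ≠ o → (∃ g ∈ H, fixedBy X g = {z}) → U' z ≠ ⊥ := by
    rintro z hz ⟨g, hg, e⟩ hb
    have h1 : (⟨ρ g, g, hg, rfl⟩ : G) ∈ U' z := (hU' z _ g rfl).2 ((hU z g).2 (Or.inr e))
    rw [hb, Subgroup.mem_bot, hone _ g rfl] at h1
    have : o ∈ fixedBy X g := h1 o
    rw [e] at this
    exact hz this.symm
  obtain ⟨u, hu, e⟩ := dickson_count (G := G) U' hp (fun ω g => by
      obtain ⟨h, -, e⟩ := hrep g
      rw [hU' ω g h e, hU, hone g h e, hfx g h e])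
    (fun g hg => by
      obtain ⟨h, -, e⟩ := hrep g
      rw [hfx g h e]
      exact (ha h).resolve_left fun h1 => hg ((hone g h e).2 h1))
    (fun ω g g' hg hg' => by
      obtain ⟨h, -, e⟩ := hrep g
      obtain ⟨h', -, e'⟩ := hrep g'
      rw [hsm g h e] at hg
      rw [hsm g' h' e'] at hg'
      rw [hU' ω _ (h * h' * h⁻¹ * h'⁻¹) (by simp [e, e'])]
      exact hc ω h h' hg hg')
    (fun ω g hg => by
      obtain ⟨h, -, e⟩ := hrep g
      rw [hone _ (h ^ p) (by simp [e])]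
      exact hpow ω h ((hU' ω g h e).1 hg))
    o (by
      refine hQ.trans ?_
      rw [← Nat.card_coe_set_eq]
      refine Nat.card_le_card_of_surjective (β := {y | ∃ u ∈ H, u ∈ U o ∧ u • x₀ = y})
        (fun u : U' o => ⟨(u : G) • x₀, ?_⟩) ?_
      · obtain ⟨h, hh, e⟩ := hrep u
        exact ⟨h, hh, (hU' o _ h e).1 u.2, (hsm _ h e x₀).symm⟩
      · rintro ⟨_, h, hh, hh', rfl⟩
        exact ⟨⟨⟨ρ h, h, hh, rfl⟩, (hU' o _ h rfl).2 hh'⟩, rfl⟩)
    hx hy (hne x hx hx') (hne y hy hy')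
  obtain ⟨h, hh, e'⟩ := hrep u
  exact ⟨h, hh, (hU' o u h e').1 hu, (hsm u h e' x).symm.trans e⟩

section P1
variable {L : Type*} [Field L] [DecidableEq L]

omit [DecidableEq L] in
theorem gl2_mul_apply (g h : GL (Fin 2) L) (i j : Fin 2) :
    (g * h) i j = g i 0 * h 0 j + g i 1 * h 1 j := by
  simp [Matrix.mul_apply, Fin.sum_univ_two]

omit [DecidableEq L] in
theorem gl2_det_ne (g : GL (Fin 2) L) : g 0 0 * g 1 1 - g 0 1 * g 1 0 ≠ 0 := by
  have := g.det_ne_zero
  rwa [Matrix.det_fin_two] at this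

/-- unipotent-mod-scalars upper triangular subgroup -/
def UInf (L : Type*) [Field L] : Subgroup (GL (Fin 2) L) where
  carrier := {g | g 1 0 = 0 ∧ g 0 0 = g 1 1}
  one_mem' := by simp
  mul_mem' := by
    rintro a b ⟨h1, h2⟩ ⟨h3, h4⟩
    refine ⟨?_, ?_⟩ <;> simp only [gl2_mul_apply, h1, h2, h3, h4] <;> ring
  inv_mem' := by
    rintro a ⟨h1, h2⟩
    have hd := gl2_det_ne a
    have h11 : a 1 1 ≠ 0 := by
      intro h; rw [h1, h] at hd; simp at hd
    have e10 : (a * a⁻¹) 1 0 = 0 := by simp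
    have e00 : (a * a⁻¹) 0 0 = 1 := by simp
    have e11 : (a * a⁻¹) 1 1 = 1 := by simp
    rw [gl2_mul_apply] at e10 e00 e11
    have f10 : (a⁻¹) 1 0 = 0 := by
      rw [h1, zero_mul, zero_add] at e10
      exact (mul_eq_zero.1 e10).resolve_left h11
    refine ⟨f10, mul_left_cancel₀ h11 ?_⟩
    rw [f10, h2] at e00
    rw [h1] at e11
    linear_combination e00 - e11

omit [DecidableEq L] in
theorem mem_UInf {g : GL (Fin 2) L} : g ∈ UInf L ↔ g 1 0 = 0 ∧ g 0 0 = g 1 1 := Iff.rfl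

theorem borel_fix_iff {g : GL (Fin 2) L} (h : g 1 0 = 0) (x : L) :
    g • (x : OnePoint L) = x ↔ (g 1 1 - g 0 0) * x = g 0 1 := by
  have hd := gl2_det_ne g
  have h11 : g 1 1 ≠ 0 := by
    intro h'; rw [h, h'] at hd; simp at hd
  rw [OnePoint.smul_some_eq_ite, h, zero_mul, zero_add, if_neg h11, OnePoint.coe_eq_coe, div_eq_iff h11]
  constructor <;> intro e <;> linear_combination -e

theorem borel_cases {g : GL (Fin 2) L} (h : g 1 0 = 0) :
    (g 0 0 = g 1 1 ∧ g 0 1 = 0 ∧ ∀ x : OnePoint L, g • x = x) ∨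
    (g 0 0 = g 1 1 ∧ fixedBy (OnePoint L) g = {∞}) ∨
    (g 0 0 ≠ g 1 1 ∧ ∃ x : L, fixedBy (OnePoint L) g = {∞, (x : OnePoint L)}) := by
  have hi : g • (∞ : OnePoint L) = ∞ := OnePoint.smul_infty_eq_self_iff.2 h
  by_cases e : g 0 0 = g 1 1
  · by_cases e' : g 0 1 = 0
    · refine Or.inl ⟨e, e', fun x => ?_⟩
      cases x with
      | infty => exact hi
      | coe x => rw [borel_fix_iff h, e, e']; simp
    · refine Or.inr (Or.inl ⟨e, ?_⟩)
      ext x
      cases x with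
      | infty => simpa using hi
      | coe x => rw [mem_fixedBy, borel_fix_iff h, e]; simpa using Ne.symm e'
  · refine Or.inr (Or.inr ⟨e, g 0 1 / (g 1 1 - g 0 0), ?_⟩)
    have e2 : g 1 1 - g 0 0 ≠ 0 := sub_ne_zero.2 (Ne.symm e)
    ext x
    cases x with
    | infty => simpa using hi
    | coe x => rw [mem_fixedBy, borel_fix_iff h]; simp [eq_div_iff e2, mul_comm]

theorem mem_UInf_iff {g : GL (Fin 2) L} :
    g ∈ UInf L ↔ (∀ x : OnePoint L, g • x = x) ∨ fixedBy (OnePoint L) g = {∞} := by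
  constructor
  · rintro ⟨h1, h2⟩
    rcases borel_cases h1 with h | h | h
    · exact Or.inl h.2.2
    · exact Or.inr h.2
    · exact absurd h2 h.1
  · intro h
    have h1 : g 1 0 = 0 := by
      rw [← OnePoint.smul_infty_eq_self_iff]
      rcases h with h | h
      · exact h _
      · have : (∞ : OnePoint L) ∈ fixedBy (OnePoint L) g := by rw [h]; rfl
        exact this
    refine ⟨h1, ?_⟩
    rcases borel_cases h1 with h' | h' | ⟨-, x, h'⟩
    · exact h'.1
    · exact h'.1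
    · exfalso
      rcases h with h | h
      · have h0 : ((x + 1 : L) : OnePoint L) ∈ fixedBy (OnePoint L) g := h _
        rw [h'] at h0
        simp at h0
      · have h0 : (x : OnePoint L) ∈ fixedBy (OnePoint L) g := by rw [h']; simp
        rw [h] at h0
        simp at h0

theorem exists_smul_infty (ω : OnePoint L) : ∃ γ : GL (Fin 2) L, γ • (∞ : OnePoint L) = ω := by
  cases ω with
  | infty => exact ⟨1, one_smul _ _⟩
  | coe x =>
    refine ⟨Matrix.GeneralLinearGroup.mkOfDetNeZero !![x, -1; 1, 0] (by simp [Matrix.det_fin_two]), ?_⟩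
    rw [OnePoint.smul_infty_eq_ite]
    simp [Matrix.GeneralLinearGroup.mkOfDetNeZero]

theorem fixedBy_conj' {Γ X : Type*} [Group Γ] [MulAction Γ X] (γ g : Γ) :
    fixedBy X g = (fun x => γ • x) '' fixedBy X (γ⁻¹ * g * γ) := by
  ext x
  constructor
  · intro h
    refine ⟨γ⁻¹ • x, ?_, by simp⟩
    rw [mem_fixedBy] at h ⊢
    rw [mul_smul, mul_smul, smul_inv_smul, h]
  · rintro ⟨y, hy, rfl⟩
    rw [mem_fixedBy] at hy ⊢
    rw [mul_smul, mul_smul, inv_smul_eq_iff] at hy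
    exact hy

theorem exists_fixed [IsAlgClosed L] (h2 : (2 : L) ≠ 0) (g : GL (Fin 2) L) : ∃ ω : OnePoint L, g • ω = ω := by
  by_cases h : g 1 0 = 0
  · exact ⟨∞, OnePoint.smul_infty_eq_self_iff.2 h⟩
  have : NeZero (2 : L) := ⟨h2⟩
  obtain ⟨x, hx⟩ := exists_quadratic_eq_zero (b := g 1 1 - g 0 0) (c := - g 0 1) h
    (IsAlgClosed.exists_eq_mul_self _)
  have hd := gl2_det_ne g
  have h1 : g 1 0 * x + g 1 1 ≠ 0 := by
    intro e
    apply hd
    linear_combination (g 0 0 - g 1 0 * x) * e + g 1 0 * hx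
  refine ⟨x, ?_⟩
  rw [OnePoint.smul_some_eq_ite, if_neg h1, OnePoint.coe_eq_coe, div_eq_iff h1]
  linear_combination -hx

omit [DecidableEq L] in
theorem UInf_pow {g : GL (Fin 2) L} (hg : g ∈ UInf L) (n : ℕ) :
    (g ^ n) 0 1 * g 0 0 = n * (g 0 0 ^ n * g 0 1) ∧ (g ^ n) 0 0 = g 0 0 ^ n := by
  induction n with
  | zero => simp
  | succ n ih =>
    rw [pow_succ g n, gl2_mul_apply, gl2_mul_apply, hg.1, ← hg.2, ih.1, ih.2]
    push_cast
    constructor <;> ring

theorem dickson_gl [IsAlgClosed L] {p : ℕ} (hp : p.Prime) (hpL : (p : L) = 0) (h2 : (2 : L) ≠ 0)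
    (H : Subgroup (GL (Fin 2) L)) [Finite H]
    (hQ : 4 ≤ {y | ∃ u ∈ H, u ∈ UInf L ∧ u • ((0 : L) : OnePoint L) = y}.ncard)
    {x y : L} (hx' : ∃ g ∈ H, fixedBy (OnePoint L) g = {(x : OnePoint L)})
    (hy' : ∃ g ∈ H, fixedBy (OnePoint L) g = {(y : OnePoint L)}) :
    ∃ u ∈ H, u ∈ UInf L ∧ u • (x : OnePoint L) = y := by
  choose γ hγ using exists_smul_infty (L := L)
  have hU : ∀ ω g, g ∈ cj (γ ω) (UInf L) ↔
      (∀ x : OnePoint L, g • x = x) ∨ fixedBy (OnePoint L) g = {ω} := by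
    intro ω g
    rw [mem_cj, mem_UInf_iff, fixedBy_conj' (γ ω) g]
    refine or_congr ⟨fun h x => ?_, fun h x => ?_⟩ ⟨fun h => ?_, fun h => ?_⟩
    · have := h ((γ ω)⁻¹ • x)
      rwa [mul_smul, mul_smul, smul_inv_smul, smul_left_cancel_iff] at this
    · rw [mul_smul, mul_smul, h, inv_smul_smul]
    · rw [h, Set.image_singleton, hγ]
    · rw [← hγ ω, ← Set.image_singleton (f := fun x => γ ω • x)] at h
      rw [hγ] at h
      exact (Set.image_injective.2 (MulAction.injective (γ ω))) h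
  have hUi : ∀ g, g ∈ cj (γ ∞) (UInf L) ↔ g ∈ UInf L := fun g => by rw [hU, mem_UInf_iff]
  have hb : ∀ ω (g : GL (Fin 2) L), g • ω = ω → ((γ ω)⁻¹ * g * γ ω) 1 0 = 0 := by
    intro ω g h
    rw [← OnePoint.smul_infty_eq_self_iff, mul_smul, mul_smul, hγ, h, inv_smul_eq_iff, hγ]
  have := dickson_count' H (fun ω => cj (γ ω) (UInf L)) hp hU (fun g => by
      obtain ⟨ω, hω⟩ := exists_fixed h2 g
      rcases borel_cases (hb ω g hω) with h | h | ⟨-, z, h⟩
      · rcases (hU ω g).1 (mem_cj.2 ⟨hb ω g hω, h.1⟩) with h | h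
        · exact Or.inl h
        · exact Or.inr (Or.inl ⟨ω, h⟩)
      · rcases (hU ω g).1 (mem_cj.2 ⟨hb ω g hω, h.1⟩) with h | h
        · exact Or.inl h
        · exact Or.inr (Or.inl ⟨ω, h⟩)
      · refine Or.inr (Or.inr ⟨γ ω • ∞, γ ω • (z : OnePoint L), by simp, ?_⟩)
        rw [fixedBy_conj' (γ ω) g, h, Set.image_pair])
    (fun ω g h hg hh => by
      rw [mem_cj]
      have h1 := hb ω g hg
      have h3 := hb ω h hh
      have h2 := hb ω g⁻¹ (inv_smul_eq_iff.2 hg.symm)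
      have h4 := hb ω h⁻¹ (inv_smul_eq_iff.2 hh.symm)
      have e : (γ ω)⁻¹ * (g * h * g⁻¹ * h⁻¹) * γ ω = ((γ ω)⁻¹ * g * γ ω) * ((γ ω)⁻¹ * h * γ ω) *
          ((γ ω)⁻¹ * g⁻¹ * γ ω) * ((γ ω)⁻¹ * h⁻¹ * γ ω) := by group
      have i1 : ((γ ω)⁻¹ * g * γ ω) * ((γ ω)⁻¹ * g⁻¹ * γ ω) = 1 := by group
      have i2 : ((γ ω)⁻¹ * h * γ ω) * ((γ ω)⁻¹ * h⁻¹ * γ ω) = 1 := by group
      rw [e]
      generalize (γ ω)⁻¹ * g * γ ω = a at *
      generalize (γ ω)⁻¹ * h * γ ω = b at *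
      generalize (γ ω)⁻¹ * g⁻¹ * γ ω = c at *
      generalize (γ ω)⁻¹ * h⁻¹ * γ ω = d at *
      have j1 : (a * c) 0 0 = 1 := by rw [i1]; simp
      have j2 : (a * c) 1 1 = 1 := by rw [i1]; simp
      have j3 : (b * d) 0 0 = 1 := by rw [i2]; simp
      have j4 : (b * d) 1 1 = 1 := by rw [i2]; simp
      simp only [mem_UInf, gl2_mul_apply, h1, h2, h3, h4] at *
      constructor
      · ring
      · linear_combination (b 0 0 * d 0 0) * j1 + j3 - (b 1 1 * d 1 1) * j2 - j4)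
    (fun ω g hg x => by
      rw [mem_cj] at hg
      have h1 := UInf_pow hg p
      have h3 := (UInf L).pow_mem hg p
      have hd := gl2_det_ne ((γ ω)⁻¹ * g * γ ω)
      have h4 : (((γ ω)⁻¹ * g * γ ω) ^ p) 0 1 = 0 := by
        rw [hpL, zero_mul] at h1
        refine (mul_eq_zero.1 h1.1).resolve_right fun e => hd ?_
        rw [e, hg.1]; simp
      rcases borel_cases h3.1 with h | h | h
      · have := h.2.2 ((γ ω)⁻¹ • x)
        have e : ((γ ω)⁻¹ * g * γ ω) ^ p = (γ ω)⁻¹ * g ^ p * γ ω := by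
          simpa using conj_pow (a := (γ ω)⁻¹) (b := g) (i := p)
        rwa [e, mul_smul, mul_smul, smul_inv_smul, smul_left_cancel_iff] at this
      · have : ((0 : L) : OnePoint L) ∈ fixedBy (OnePoint L) (((γ ω)⁻¹ * g * γ ω) ^ p) := by
          rw [mem_fixedBy, borel_fix_iff h3.1, h4, mul_zero]
        rw [h.2] at this
        simp at this
      · exact absurd h3.2 h.1)
    ∞ ((0 : L) : OnePoint L) (by simpa only [hUi] using hQ) (OnePoint.coe_ne_infty x)
    (OnePoint.coe_ne_infty y) hx' hy'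
  simpa only [hUi] using this

end P1

theorem dickson_fin_inv {K : Type*} [Field K] [Finite K] (h2 : (2 : K) ≠ 0) (H : Subgroup SL(2, K))
    (hQ : 4 ≤ {r : K | xU r ∈ H}.ncard) {r : K} (hr : r ≠ 0) (hrH : xL r ∈ H) : xU r⁻¹ ∈ H := by
  classical
  obtain ⟨p, hpK⟩ := CharP.exists K
  have hp : p.Prime := (CharP.char_is_prime K p)
  have hp0 : (p : K) = 0 := CharP.cast_eq_zero K p
  let L := AlgebraicClosure K
  let ι := algebraMap K L
  have hι : Function.Injective ι := ι.injective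
  let φ : SL(2, K) →* GL (Fin 2) L :=
    Matrix.SpecialLinearGroup.toGL.comp (Matrix.SpecialLinearGroup.map ι)
  have hφ : ∀ (g : SL(2, K)) i j, φ g i j = ι (g.1 i j) := fun g i j => rfl
  have hfin : Finite (H.map φ) := Finite.of_surjective (φ.subgroupMap H) (φ.subgroupMap_surjective H)
  have hxU : ∀ t : K, φ (xU t) ∈ UInf L := fun t => by
    rw [mem_UInf, hφ, hφ, hφ]; simp
  have hxU0 : ∀ t : K, φ (xU t) • ((0 : L) : OnePoint L) = (ι t : L) := fun t => by
    rw [OnePoint.smul_some_eq_ite, hφ, hφ, hφ, hφ]; simp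
  obtain ⟨t, ht, ht0⟩ : ∃ t : K, xU t ∈ H ∧ t ≠ 0 := by
    by_contra hn
    push Not at hn
    have : {r : K | xU r ∈ H} ⊆ {0} := fun t ht => hn t ht
    have := Set.ncard_le_ncard this
    rw [Set.ncard_singleton] at this
    omega
  have hfU : fixedBy (OnePoint L) (φ (xU t)) = {∞} := by
    refine (mem_UInf_iff.1 (hxU t)).resolve_left fun h => ht0 (hι ?_)
    have := h ((0 : L) : OnePoint L)
    rw [hxU0] at this
    simpa using this
  have hconj : ∀ γ g : GL (Fin 2) L, fixedBy (OnePoint L) g = {∞} →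
      fixedBy (OnePoint L) (γ * g * γ⁻¹) = {γ • ∞} := by
    intro γ g h
    rw [fixedBy_conj' γ]
    simp [mul_assoc, h]
  obtain ⟨_, ⟨h, hh, rfl⟩, hu, e⟩ := dickson_gl (L := L) hp (by rw [← map_natCast ι, hp0, map_zero])
    (by rw [← map_ofNat ι 2]; exact (map_ne_zero ι).2 h2) (H.map φ) (x := 0) (y := ι r⁻¹) (by
      refine hQ.trans (Set.ncard_le_ncard_of_injOn (fun t => ((ι t : L) : OnePoint L)) ?_ ?_ ?_)
      · intro t ht
        exact ⟨φ (xU t), ⟨_, ht, rfl⟩, hxU t, hxU0 t⟩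
      · intro a _ b _ e
        exact hι (OnePoint.coe_injective e)
      · refine ((Set.toFinite (H.map φ : Set (GL (Fin 2) L))).image
          (fun u => u • ((0 : L) : OnePoint L))).subset ?_
        rintro _ ⟨u, hu, -, rfl⟩
        exact ⟨u, hu, rfl⟩)
    ⟨φ (xL r), ⟨_, hrH, rfl⟩, by
      ext x
      cases x with
      | infty =>
        rw [mem_fixedBy, OnePoint.smul_infty_eq_self_iff, hφ]
        simpa using hr
      | coe x =>
        rw [mem_fixedBy, OnePoint.smul_some_eq_ite, hφ, hφ, hφ, hφ]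
        have hr' : ι r ≠ 0 := (map_ne_zero ι).2 hr
        simp only [xL_coe, of_apply, cons_val', cons_val_zero, cons_val_fin_one, cons_val_one, map_one,
          map_zero, one_mul, add_zero, Set.mem_singleton_iff, OnePoint.coe_eq_coe]
        split_ifs with h0
        · simp only [OnePoint.infty_ne_coe, false_iff]
          rintro rfl
          simp at h0
        · rw [OnePoint.coe_eq_coe, div_eq_iff h0]
          constructor
          · intro e
            have : ι r * (x * x) = 0 := by linear_combination -e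
            simpa [hr'] using this
          · rintro rfl; simp⟩
    ⟨φ (xL r * xU t * (xL r)⁻¹), ⟨_, mul_mem (mul_mem hrH ht) (inv_mem hrH), rfl⟩, by
      rw [map_mul, map_mul, map_inv, hconj _ _ hfU, OnePoint.smul_infty_eq_ite, hφ, hφ]
      have hr' : ι r ≠ 0 := (map_ne_zero ι).2 hr
      simp [hr']⟩
  rw [mem_UInf, hφ, hφ, hφ, map_eq_zero_iff ι hι, hι.eq_iff] at hu
  have hd := sl2_det h
  rw [hu.1, hu.2, mul_zero, sub_zero] at hd
  have h11 : h.1 1 1 ≠ 0 := by intro e; rw [e] at hd; simp at hd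
  rw [OnePoint.smul_some_eq_ite, hφ, hφ, hφ, hφ, mul_zero, mul_zero, zero_add, zero_add,
    if_neg ((map_ne_zero ι).2 h11), OnePoint.coe_eq_coe, ← map_div₀, hι.eq_iff, div_eq_iff h11] at e
  have hsq : h * h = xU (2 * r⁻¹) := by
    apply sl2_ext <;> simp only [sl2_mul_apply, hu.1, hu.2, e] <;> simp
    · exact hd
    · linear_combination (2 * r⁻¹) * hd
    · exact hd
  have hodd : Odd p := hp.odd_of_ne_two (by rintro rfl; exact h2 (by simpa using hp0))
  obtain ⟨m, hm⟩ := hodd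
  have := H.pow_mem (hsq ▸ H.mul_mem hh hh) (m + 1)
  rw [xU_pow] at this
  convert this using 2
  rw [hm] at hp0
  push_cast at hp0 ⊢
  linear_combination -r⁻¹ * hp0

end CfsgH9
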