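import Cfsg.Agent.H9.DFin

set_option autoImplicit false

namespace CfsgH9
open Matrix Polynomial
open scoped MatrixGroups

section Hua
variable {k R : Type*} [Field k] [CommRing R] [Algebra k R]

theorem hua (Λ Λ' : AddSubgroup R) (h1 : ∀ a ∈ Λ, a ≠ 0 → ∃ b ∈ Λ', a * b = 1)
    (h2 : ∀ a ∈ Λ', a ≠ 0 → ∃ b ∈ Λ, a * b = 1) (hk : ∀ c : k, algebraMap k R c ∈ Λ) (h2k : (2 : k) ≠ 0)
    {z : R} (hz : z ∈ Λ') (hz0 : z ≠ 0) (hadj : Algebra.adjoin k {z} = ⊤) : Λ = ⊤ := by
  have hnt : (1 : R) ≠ 0 := by intro h; exact hz0 (by rw [← mul_one z, h, mul_zero])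
  have key : ∀ a ∈ Λ, ∀ c ∈ Λ, ∀ c' : R, c * c' = 1 → a * a * c' ∈ Λ := by
    intro a ha c hc c' hcc
    by_cases ha0 : a = 0
    · simp [ha0]
    by_cases hac : a + c = 0
    · have : a * a * c' = c := by linear_combination (a - c) * c' * hac + c * hcc
      rw [this]; exact hc
    obtain ⟨a', ha', e1⟩ := h1 a ha ha0
    obtain ⟨b', hb', e2⟩ := h1 (a + c) (add_mem ha hc) hac
    have e3 : (a' - b') * (a * a * c' + a) = 1 := by
      linear_combination (c' * (a + c)) * e1 - (c' * a) * e2 + (1 - a * a' + a * b') * hcc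
    obtain ⟨e, he, e4⟩ := h2 (a' - b') (sub_mem ha' hb') (fun h => by rw [h, zero_mul] at e3; exact hnt e3.symm)
    have : a * a * c' = e - a := by linear_combination (-e) * e3 + (a * a * c' + a) * (-e4) + 2 * e * e3
    rw [this]; exact sub_mem he ha
  have hmul : ∀ a ∈ Λ, ∀ b ∈ Λ, a * b ∈ Λ := by
    intro a ha b hb
    have e : algebraMap k R 2 * algebraMap k R 2⁻¹ = 1 := by
      rw [← map_mul, mul_inv_cancel₀ h2k, map_one]
    have h3 := key _ (add_mem ha hb) _ (hk 2) _ e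
    have h4 := key _ ha _ (hk 2) _ e
    have h5 := key _ hb _ (hk 2) _ e
    convert sub_mem (sub_mem h3 h4) h5 using 1
    rw [map_ofNat] at e
    linear_combination -(a * b) * e
  obtain ⟨y, hy, e⟩ := h2 z hz hz0
  have hzΛ : z ∈ Λ := by
    have := key 1 (by simpa using hk 1) y hy z (by rw [mul_comm, e])
    simpa using this
  rw [eq_top_iff]
  intro r _
  have hr : r ∈ Algebra.adjoin k {z} := hadj ▸ Algebra.mem_top
  induction hr using Algebra.adjoin_induction with
  | mem x hx => rw [Set.mem_singleton_iff] at hx; exact hx ▸ hzΛ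
  | algebraMap c => exact hk c
  | add a b _ _ ha hb => exact add_mem (ha trivial) (hb trivial)
  | mul a b _ _ ha hb => exact hmul _ (ha trivial) _ (hb trivial)

variable (k) in
/-- the group generated by `x(k)` and `y(k z)` -/
def HK (z : R) : Subgroup SL(2, R) :=
  Subgroup.closure ({g | ∃ c : k, g = xU (algebraMap k R c)} ∪ {g | ∃ c : k, g = xL (algebraMap k R c * z)})

theorem xU_mem_HK (z : R) (c : k) : xU (algebraMap k R c) ∈ HK k z :=
  Subgroup.subset_closure (Or.inl ⟨c, rfl⟩)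
theorem xL_mem_HK (z : R) (c : k) : xL (algebraMap k R c * z) ∈ HK k z :=
  Subgroup.subset_closure (Or.inr ⟨c, rfl⟩)

/-- upper level -/
def LevU (H : Subgroup SL(2, R)) : AddSubgroup R where
  carrier := {r | xU r ∈ H}
  zero_mem' := by simp
  add_mem' := fun {a b} ha hb => by
    simp only [Set.mem_ofPred_eq] at *; rw [xU_add]; exact H.mul_mem ha hb
  neg_mem' := fun {a} ha => by
    simp only [Set.mem_ofPred_eq] at *; rw [← xU_inv]; exact H.inv_mem ha

/-- lower level -/
def LevL (H : Subgroup SL(2, R)) : AddSubgroup R where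
  carrier := {r | xL r ∈ H}
  zero_mem' := by simp
  add_mem' := fun {a b} ha hb => by
    simp only [Set.mem_ofPred_eq] at *; rw [xL_add]; exact H.mul_mem ha hb
  neg_mem' := fun {a} ha => by
    simp only [Set.mem_ofPred_eq] at *; rw [← xL_inv]; exact H.inv_mem ha

theorem mem_LevU {H : Subgroup SL(2, R)} {r : R} : r ∈ LevU H ↔ xU r ∈ H := Iff.rfl
theorem mem_LevL {H : Subgroup SL(2, R)} {r : R} : r ∈ LevL H ↔ xL r ∈ H := Iff.rfl

theorem borel_conj_xU {b : SL(2, R)} (hb : b.1 1 0 = 0) (c : R) : b * xU c * b⁻¹ = xU (b.1 0 0 ^ 2 * c) := by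
  have hd := sl2_det b
  rw [mul_inv_eq_iff_eq_mul]
  apply sl2_ext <;> simp only [sl2_mul_apply, hb] <;> simp
  rw [hb] at hd
  linear_combination -(b.1 0 0 * c) * hd

end Hua

theorem eq_top_of_xU {K : Type*} [Field K] {H : Subgroup SL(2, K)} (h : ∀ r, xU r ∈ H) {α : K} (hα : α ≠ 0)
    (hL : xL α ∈ H) : H = ⊤ := by
  rw [eq_top_iff, ← UU_sup_LL]
  refine sup_le (by rintro _ ⟨t, rfl⟩; exact h t) ?_
  rintro _ ⟨t, rfl⟩
  have hs : (-α) * (-α⁻¹) = 1 := by field_simp
  have := w_conj_xU hs (-(t / α ^ 2))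
  have hw : xU (-α⁻¹) * xL (- -α) * xU (-α⁻¹) ∈ H := by
    rw [neg_neg]; exact mul_mem (mul_mem (h _) hL) (h _)
  have h2 := mul_mem (mul_mem hw (h (-(t / α ^ 2)))) (inv_mem hw)
  rw [this] at h2
  convert h2 using 2
  field_simp

section Euclid
variable {S S' : Type*} [CommRing S] [CommRing S']

/-- first pseudo-remainder -/
noncomputable def stepW (m : ℕ) (a w : S[X]) : S[X] := C (a.coeff (m + 1)) * w - C (w.coeff (m + 1)) * a
/-- second pseudo-remainder -/
noncomputable def stepA (m : ℕ) (a w : S[X]) : S[X] :=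
  C ((stepW m a w).coeff m) * a - C (a.coeff (m + 1)) * (X * stepW m a w)
/-- product of leading coefficients -/
noncomputable def DD : ℕ → S[X] → S[X] → S
  | 0, a, _ => a.coeff 0
  | m + 1, a, w => a.coeff (m + 1) * (stepW m a w).coeff m * DD m (stepA m a w) (stepW m a w)

theorem stepW_map (f : S →+* S') (m : ℕ) (a w : S[X]) :
    stepW m (a.map f) (w.map f) = (stepW m a w).map f := by
  simp [stepW]
theorem stepA_map (f : S →+* S') (m : ℕ) (a w : S[X]) :
    stepA m (a.map f) (w.map f) = (stepA m a w).map f := by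
  simp [stepA, stepW_map]
theorem DD_map (f : S →+* S') (m : ℕ) (a w : S[X]) : DD m (a.map f) (w.map f) = f (DD m a w) := by
  induction m generalizing a w with
  | zero => simp [DD]
  | succ m ih => simp [DD, stepW_map, stepA_map, ih]

/-- degree bound -/
def Dg (m : ℕ) (a : S[X]) : Prop := ∀ i, m < i → a.coeff i = 0

theorem Dg.stepW {m : ℕ} {a w : S[X]} (ha : Dg (m + 1) a) (hw : Dg (m + 1) w) : Dg m (stepW m a w) := by
  intro i hi
  rw [CfsgH9.stepW, coeff_sub, coeff_C_mul, coeff_C_mul]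
  rcases Nat.eq_or_lt_of_le hi with h | h
  · subst h; ring
  · rw [ha i h, hw i h]; ring

theorem Dg.stepA {m : ℕ} {a w : S[X]} (ha : Dg (m + 1) a) (hw : Dg (m + 1) w) : Dg m (stepA m a w) := by
  intro i hi
  obtain ⟨j, rfl⟩ : ∃ j, i = j + 1 := ⟨i - 1, by omega⟩
  rw [CfsgH9.stepA, coeff_sub, coeff_C_mul, coeff_C_mul, coeff_X_mul]
  rcases Nat.eq_or_lt_of_le (Nat.lt_succ_iff.1 hi) with h | h
  · subst h; ring
  · rw [ha _ (by omega), (ha.stepW hw) j h]; ring

theorem exists_DD [Nontrivial S] (m : ℕ) :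
    ∃ a w : S[X], Dg m a ∧ Dg m w ∧ w.coeff m = 1 ∧ DD m a w = 1 := by
  induction m with
  | zero =>
    refine ⟨1, 1, ?_, ?_, by simp, by simp [DD]⟩ <;>
    · intro i hi; rw [coeff_one, if_neg (by omega)]
  | succ m ih =>
    obtain ⟨a, w, ha, hw, h1, h2⟩ := ih
    have e1 : (a + X * w).coeff (m + 1) = 1 := by rw [coeff_add, coeff_X_mul, h1, ha _ (by omega), zero_add]
    have e2 : (w + (a + X * w)).coeff (m + 1) = 1 := by rw [coeff_add, e1, hw _ (by omega), zero_add]
    have d1 : Dg (m + 1) (a + X * w) := by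
      intro i hi
      obtain ⟨j, rfl⟩ : ∃ j, i = j + 1 := ⟨i - 1, by omega⟩
      rw [coeff_add, coeff_X_mul, ha _ (by omega), hw _ (by omega), zero_add]
    have e3 : stepW m (a + X * w) (w + (a + X * w)) = w := by rw [stepW, e1, e2]; simp
    have e4 : stepA m (a + X * w) (w + (a + X * w)) = a := by rw [stepA, e3, e1, h1]; simp
    refine ⟨a + X * w, w + (a + X * w), d1, ?_, e2, ?_⟩
    · intro i hi
      rw [coeff_add, d1 i hi, hw _ (by omega), zero_add]
    · rw [DD, e3, e4, e1, h1, h2]; simp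

end Euclid

section Inf
variable {k R : Type*} [Field k] [CommRing R] [Algebra k R]

variable (k) in
/-- reachable vectors -/
def Reach (z p q : R) : Prop :=
  ∃ h ∈ HK k z, ∃ κ : k, κ ≠ 0 ∧ h.1 0 0 * algebraMap k R κ = p ∧ h.1 1 0 * algebraMap k R κ = q

theorem Reach.x {z p q : R} (h : Reach k z p q) (c : k) : Reach k z (p + algebraMap k R c * q) q := by
  obtain ⟨h, hh, κ, hκ, rfl, rfl⟩ := h
  refine ⟨xU (algebraMap k R c) * h, mul_mem (xU_mem_HK z c) hh, κ, hκ, ?_, ?_⟩ <;>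
    simp only [sl2_mul_apply] <;> simp
  ring

theorem Reach.y {z p q : R} (h : Reach k z p q) (c : k) : Reach k z p (q + algebraMap k R c * z * p) := by
  obtain ⟨h, hh, κ, hκ, rfl, rfl⟩ := h
  refine ⟨xL (algebraMap k R c * z) * h, mul_mem (xL_mem_HK z c) hh, κ, hκ, ?_, ?_⟩ <;>
    simp only [sl2_mul_apply] <;> simp
  ring

theorem Reach.scale {z p q : R} (h : Reach k z p q) {c : k} (hc : c ≠ 0) :
    Reach k z (algebraMap k R c * p) (algebraMap k R c * q) := by
  obtain ⟨h, hh, κ, hκ, rfl, rfl⟩ := h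
  refine ⟨h, hh, κ * c, mul_ne_zero hκ hc, ?_, ?_⟩ <;> rw [map_mul] <;> ring

theorem HK_torus (z : R) {h : SL(2, R)} (hh : h ∈ HK k z) {ν : k} (hν : ν ≠ 0) :
    ∃ h' ∈ HK k z, h'.1 0 0 = h.1 0 0 ∧ h'.1 0 1 * algebraMap k R ν = h.1 0 1 ∧
      h'.1 1 0 = algebraMap k R ν * h.1 1 0 ∧ h'.1 1 1 = h.1 1 1 := by
  induction hh using Subgroup.closure_induction with
  | mem g hg =>
    rcases hg with ⟨c, rfl⟩ | ⟨c, rfl⟩
    · refine ⟨_, xU_mem_HK z (c * ν⁻¹), ?_⟩
      simp [← map_mul, mul_assoc, hν]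
    · refine ⟨_, xL_mem_HK z (ν * c), ?_⟩
      simp [mul_assoc]
  | one => exact ⟨1, one_mem _, by simp⟩
  | mul a b _ _ ha hb =>
    obtain ⟨a', ha', a1, a2, a3, a4⟩ := ha
    obtain ⟨b', hb', b1, b2, b3, b4⟩ := hb
    refine ⟨a' * b', mul_mem ha' hb', ?_⟩
    simp only [sl2_mul_apply, a1, a3, a4, b1, b3, b4, ← a2, ← b2]
    refine ⟨by ring, by ring, by ring, by ring⟩
  | inv a _ ha =>
    obtain ⟨a', ha', a1, a2, a3, a4⟩ := ha
    refine ⟨a'⁻¹, inv_mem ha', ?_⟩
    simp only [sl2_inv_coe]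
    simp [a1, a3, a4, ← a2]

theorem Reach.scale2 {z p q : R} (h : Reach k z p q) {c : k} (hc : c ≠ 0) :
    Reach k z p (algebraMap k R c * q) := by
  obtain ⟨h, hh, κ, hκ, rfl, rfl⟩ := h
  obtain ⟨h', hh', a1, -, a3, -⟩ := HK_torus z hh hc
  exact ⟨h', hh', κ, hκ, by rw [a1], by rw [a3, mul_assoc]⟩

theorem Reach.unscale2 {z p q : R} {c : k} (hc : c ≠ 0) (h : Reach k z p (algebraMap k R c * q)) :
    Reach k z p q := by
  have := h.scale2 (inv_ne_zero hc)
  rwa [← mul_assoc, ← map_mul, inv_mul_cancel₀ hc, map_one, one_mul] at this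

theorem Reach.unscale1 {z p q : R} {c : k} (hc : c ≠ 0) (h : Reach k z (algebraMap k R c * p) q) :
    Reach k z p q := by
  have := (h.scale2 hc).scale (inv_ne_zero hc)
  rwa [← mul_assoc, ← mul_assoc, ← map_mul, inv_mul_cancel₀ hc, map_one, one_mul, one_mul] at this

theorem reach_of_DD (z : R) (m : ℕ) (a w : k[X]) (ha : Dg m a) (hw : Dg m w) (h : DD m a w ≠ 0) :
    Reach k z (aeval z a) (z * aeval z w) := by
  induction m generalizing a w with
  | zero =>
    have e : ∀ b : k[X], Dg 0 b → b = C (b.coeff 0) := fun b hb =>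
      eq_C_of_natDegree_le_zero (natDegree_le_iff_coeff_eq_zero.2 hb)
    have h0 : a.coeff 0 ≠ 0 := h
    have h1 : Reach k z (algebraMap k R (a.coeff 0)) 0 := ⟨1, one_mem _, a.coeff 0, h0, by simp, by simp⟩
    have h2 := h1.y (w.coeff 0 * (a.coeff 0)⁻¹)
    rw [e a ha, e w hw, aeval_C, aeval_C]
    convert h2 using 1
    rw [zero_add, mul_right_comm, ← map_mul, mul_assoc, inv_mul_cancel₀ h0, mul_one, mul_comm]
  | succ m ih =>
    rw [DD] at h
    have h1 := (ih _ _ (ha.stepA hw) (ha.stepW hw) (right_ne_zero_of_mul h)).x (a.coeff (m + 1))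
    have h2 : aeval z (stepA m a w) + algebraMap k R (a.coeff (m + 1)) * (z * aeval z (stepW m a w)) =
        algebraMap k R ((stepW m a w).coeff m) * aeval z a := by
      simp [stepA]
    rw [h2] at h1
    have h3 := (h1.unscale1 (right_ne_zero_of_mul (left_ne_zero_of_mul h))).y (w.coeff (m + 1))
    refine Reach.unscale2 (left_ne_zero_of_mul (left_ne_zero_of_mul h)) ?_
    convert h3 using 1
    simp [stepW]; ring

theorem xU_mem_of_reach {z p q μ : R} (h1 : Reach k z p q) (h2 : Reach k z (μ * p) (μ * q)) (c : k) :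
    xU (algebraMap k R c * μ ^ 2) ∈ HK k z := by
  obtain ⟨g, hg, κ, hκ, rfl, rfl⟩ := h1
  obtain ⟨h, hh, ν, hν, e1, e2⟩ := h2
  have hd := sl2_det g
  have eν : algebraMap k R ν * algebraMap k R ν⁻¹ = 1 := by rw [← map_mul, mul_inv_cancel₀ hν, map_one]
  have eκ : algebraMap k R κ * algebraMap k R κ⁻¹ = 1 := by rw [← map_mul, mul_inv_cancel₀ hκ, map_one]
  have b10 : (g⁻¹ * h).1 1 0 = 0 := by
    rw [sl2_mul_apply, sl2_inv_coe]; simp
    linear_combination (-g.1 1 0 * algebraMap k R ν⁻¹) * e1 + (g.1 0 0 * algebraMap k R ν⁻¹) * e2 -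
      (-g.1 1 0 * h.1 0 0 + g.1 0 0 * h.1 1 0) * eν
  have b00 : (g⁻¹ * h).1 0 0 * algebraMap k R ν = μ * algebraMap k R κ := by
    rw [sl2_mul_apply, sl2_inv_coe]; simp
    linear_combination (g.1 1 1) * e1 - (g.1 0 1) * e2 + μ * algebraMap k R κ * hd
  have hb := mul_mem (inv_mem hg) hh
  have := mul_mem (mul_mem hb (xU_mem_HK z (c * ν ^ 2 * κ⁻¹ ^ 2))) (inv_mem hb)
  rw [borel_conj_xU b10] at this
  convert this using 2
  simp only [map_mul, map_pow]
  linear_combination (-(algebraMap k R c * algebraMap k R κ⁻¹ ^ 2 *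
    ((g⁻¹ * h).1 0 0 * algebraMap k R ν + μ * algebraMap k R κ))) * b00 -
    algebraMap k R c * μ ^ 2 * (algebraMap k R κ * algebraMap k R κ⁻¹ + 1) * eκ

theorem xU_mem_HK_of_infinite [Infinite k] (h2 : (2 : k) ≠ 0) {z : R} (hz : IsIntegral k z)
    (hadj : Algebra.adjoin k {z} = ⊤) (g : R) : xU g ∈ HK k z := by
  rcases subsingleton_or_nontrivial R with hR | hR
  · rw [Subsingleton.elim g 0]; simp
  set m := (minpoly k z).natDegree
  have hrep : ∀ r : R, ∃ f : k[X], Dg m f ∧ aeval z f = r := by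
    intro r
    have hr : r ∈ Algebra.adjoin k {z} := hadj ▸ Algebra.mem_top
    rw [Algebra.adjoin_singleton_eq_range_aeval] at hr
    obtain ⟨f, rfl⟩ := hr
    refine ⟨f %ₘ minpoly k z, fun i hi => ?_, minpoly.aeval_modByMonic_minpoly f z⟩
    exact coeff_eq_zero_of_natDegree_lt
      (lt_of_le_of_lt (natDegree_modByMonic_le f (minpoly.monic hz)) hi)
  obtain ⟨a, w, ha, hw, -, hD⟩ := exists_DD (S := k) m
  obtain ⟨ra, hra, ea⟩ := hrep (g * aeval z a)
  obtain ⟨rw', hrw, ew⟩ := hrep (g * aeval z w)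
  set δ : k[X] := DD m (a.map C + C X * ra.map C) (w.map C + C X * rw'.map C) with hδ
  have hev : ∀ ε : k, δ.eval ε = DD m (a + C ε * ra) (w + C ε * rw') := by
    intro ε
    have := DD_map (evalRingHom ε) m (a.map C + C X * ra.map C) (w.map C + C X * rw'.map C)
    have e : (evalRingHom ε).comp (C : k →+* k[X]) = RingHom.id k := by ext; simp
    simp only [Polynomial.map_add, Polynomial.map_mul, Polynomial.map_map, e, Polynomial.map_id, map_C,
      coe_evalRingHom, eval_X] at this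
    exact this.symm
  have hδ0 : δ ≠ 0 := by
    intro h
    have := hev 0
    rw [h] at this
    simp [hD] at this
  have hR0 := reach_of_DD z m a w ha hw (by rw [hD]; exact one_ne_zero)
  have key : ∀ ε : k, δ.eval ε ≠ 0 → ∀ c : k,
      xU (algebraMap k R c * (1 + algebraMap k R ε * g) ^ 2) ∈ HK k z := by
    intro ε hε c
    rw [hev] at hε
    have h1 := reach_of_DD z m _ _ (fun i hi => by rw [coeff_add, coeff_C_mul, ha i hi, hra i hi]; simp)
      (fun i hi => by rw [coeff_add, coeff_C_mul, hw i hi, hrw i hi]; simp) hε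
    refine xU_mem_of_reach hR0 ?_ c
    convert h1 using 1
    · simp [ea]; ring
    · simp [ew]; ring
  have hfin : ({ε : k | δ.eval ε = 0} ∪ {0}).Finite :=
    (δ.finite_setOf_isRoot hδ0).union (Set.finite_singleton _)
  obtain ⟨e₁, h₁, e₂, h₂, hne⟩ := hfin.infinite_compl.nontrivial
  simp only [Set.mem_compl_iff, Set.mem_union, Set.mem_ofPred_eq, Set.mem_singleton_iff, not_or] at h₁ h₂
  have hne' : e₂ - e₁ ≠ 0 := sub_ne_zero.2 hne.symm
  set t := (2 * e₁ * e₂ * (e₂ - e₁))⁻¹ with ht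
  have ht' : algebraMap k R t * algebraMap k R (2 * e₁ * e₂ * (e₂ - e₁)) = 1 := by
    rw [← map_mul, ht, inv_mul_cancel₀, map_one]
    exact mul_ne_zero (mul_ne_zero (mul_ne_zero h2 h₁.2) h₂.2) hne'
  have m1 : _ ∈ LevU (HK k z) := key e₁ h₁.1 (t * e₂ ^ 2)
  have m2 : _ ∈ LevU (HK k z) := key e₂ h₂.1 (t * e₁ ^ 2)
  have m3 : _ ∈ LevU (HK k z) := xU_mem_HK z (t * e₂ ^ 2 - t * e₁ ^ 2)
  have := sub_mem (sub_mem m1 m2) m3
  rw [← mem_LevU]
  convert this using 1
  simp only [map_mul, map_pow, map_sub, map_ofNat] at ht' ⊢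
  linear_combination -g * ht'

end Inf

theorem four_le_of_card {k : Type*} [Field k] [Finite k] (h : 3 < ENat.card k) {K : Type*} [Finite K]
    (f : k → K) (hf : Function.Injective f) {S : Set K} (hS : ∀ c, f c ∈ S) : 4 ≤ S.ncard := by
  have h1 : 3 < Nat.card k := by
    rw [ENat.card_eq_coe_natCard] at h
    exact_mod_cast h
  have h2 : (Set.range f).ncard ≤ S.ncard := Set.ncard_le_ncard (by rintro _ ⟨c, rfl⟩; exact hS c)
  rw [Set.ncard_range_of_injective hf] at h2
  omega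

/-- Dickson's lemma -/
theorem dickson {k K : Type*} [Field k] [Field K] [Algebra k K] (h2 : (2 : k) ≠ 0) (h3 : 3 < ENat.card k)
    {α : K} (hα : IsIntegral k α) (hα0 : α ≠ 0) (hadj : Algebra.adjoin k {α} = ⊤) : HK k α = ⊤ := by
  have hL : xL α ∈ HK k α := by simpa using xL_mem_HK (k := k) α 1
  refine eq_top_of_xU ?_ hα0 hL
  rcases finite_or_infinite k with hk | hk
  · have hfd : Module.Finite k K := by
      have := Algebra.finite_adjoin_simple_of_isIntegral hα
      rw [hadj] at this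
      exact Module.Finite.of_surjective (Subalgebra.val (⊤ : Subalgebra k K)).toLinearMap
        fun x => ⟨⟨x, trivial⟩, rfl⟩
    have hK : Finite K := Module.finite_of_finite k
    have h2K : (2 : K) ≠ 0 := by
      rw [← map_ofNat (algebraMap k K) 2]; exact (_root_.map_ne_zero _).2 h2
    have := hua (LevU (HK k α)) (LevL (HK k α)) ?_ ?_ (xU_mem_HK α) h2 hL hα0 hadj
    · intro r; rw [← mem_LevU, this]; trivial
    · intro a ha ha0
      refine ⟨a⁻¹, ?_, mul_inv_cancel₀ ha0⟩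
      have hs : (1 : K) * 1 = 1 := one_mul 1
      have h1 := dickson_fin_inv h2K (cj (xU 1 * xL (-1) * xU 1) (HK k α))
        (four_le_of_card h3 (fun c => -(algebraMap k K c * α)) (fun a b e => by
          simpa [hα0] using e) fun c => by
            have := conj_mem_cj (g := xU 1 * xL (-1) * xU 1) (xL_mem_HK α c)
            rwa [w_conj_xL hs, one_pow, one_mul] at this) (neg_ne_zero.2 ha0) (by
          have := conj_mem_cj (g := xU 1 * xL (-1) * xU 1) (show xU a ∈ HK k α from ha)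
          rwa [w_conj_xU hs, one_pow, one_mul] at this)
      rw [mem_cj'] at h1
      obtain ⟨g, hg, e⟩ := h1
      have e2 := w_conj_xL hs a⁻¹
      rw [one_pow, one_mul, ← inv_neg, e] at e2
      rw [mem_LevL, mul_left_cancel (mul_right_cancel e2)]
      exact hg
    · intro a ha ha0
      exact ⟨a⁻¹, mem_LevU.2 <| dickson_fin_inv h2K (HK k α) (four_le_of_card h3 (algebraMap k K) (algebraMap k K).injective
        (xU_mem_HK α)) ha0 ha, mul_inv_cancel₀ ha0⟩
  · exact xU_mem_HK_of_infinite h2 hα hadj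

theorem two_ne_zero_of_ringChar {k : Type*} [Field k] (h : ringChar k ≠ 2) : (2 : k) ≠ 0 :=
  Ring.two_ne_zero h

theorem three_lt_card {k : Type*} [Field k] (h : ringChar k ≠ 2) (h3 : Nat.card k ≠ 3) : 3 < ENat.card k := by
  rcases finite_or_infinite k with hk | hk
  · rw [ENat.card_eq_coe_natCard]
    have h1 : 1 < Nat.card k := Finite.one_lt_card
    have h2 : Nat.card k ≠ 2 := by
      intro e
      have := Fintype.ofFinite k
      apply two_ne_zero_of_ringChar h
      have h4 := FiniteField.cast_card_eq_zero k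
      rw [← Nat.card_eq_fintype_card, e] at h4
      exact_mod_cast h4
    have : 3 < Nat.card k := by omega
    exact_mod_cast this
  · simp only [ENat.card_eq_top_of_infinite]
    exact ENat.natCast_lt_top 3

end CfsgH9
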