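import Cfsg.Agent.H9.RootInv2
import Cfsg.Agent.L0.Cores
import Cfsg.Prelude.Def_QuasithinSetup

set_option autoImplicit false

namespace CfsgH9
open Cfsg

variable {G : Type*} [Group G] {D : Set G} {a b c d e n x y z : G}

/-- reachability in the graph of odd pairs -/
abbrev OR (D : Set G) (a b : G) : Prop := Relation.ReflTransGen (OddAdj D) a b

theorem OR.symm (h : OR D a b) : OR D b a := by
  induction h with
  | refl => exact Relation.ReflTransGen.refl
  | tail _ h2 ih => exact Relation.ReflTransGen.head ⟨h2.2.1, h2.1, Od.symm h2.2.2⟩ ih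

theorem or_single (ha : a ∈ D) (hb : b ∈ D) (h : Od a b) : OR D a b :=
  Relation.ReflTransGen.single ⟨ha, hb, h⟩

theorem OR.exists_od (h : OR D a b) (hne : b ≠ a) : ∃ y ∈ D, Od a y := by
  rcases h.cases_head with h1 | ⟨y, h1, -⟩
  · exact absurd h1.symm hne
  · exact ⟨y, h1.2.1, h1.2.2⟩

theorem isolated_iff : IsIsolatedElem (OddAdj D) D a ↔ a ∈ D ∧ ∀ y ∈ D, ¬ Od a y := by
  unfold IsIsolatedElem
  refine and_congr_right fun ha => ⟨fun h y hy ho => (h y).1 ⟨ha, hy, ho⟩, fun h y =>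
    ⟨fun h1 => h y h1.2.1 h1.2.2, fun h1 => h y h1.1 (Od.symm h1.2.2)⟩⟩

theorem XP.or_of_od (hD : RI D) (ha : a ∈ D) (h : XP D a b) (hx : x ∈ D) (hax : Od a x) (hy : y ∈ D)
    (hby : Od b y) : OR D a b := by
  rcases h.od_or hD ha hx hax with h1 | h1
  · exact (or_single ha hx hax).trans (or_single hx h.1 h1)
  · have h2 := (or_single ha hx hax).trans (or_single hx h.2.2.2 h1)
    rcases (h.symm ha).od_or hD h.1 hy hby with h3 | h3
    · exact (or_single ha hy h3.symm).trans (or_single hy h.1 hby.symm)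
    · rw [← h.2.1] at h3
      exact (h2.trans (or_single h.2.2.2 hy h3.symm)).trans (or_single hy h.1 hby.symm)

theorem OR.conj (hD : RI D) (h : OR D a b) {g : G} (hg : g ∈ Subgroup.closure D) :
    OR D (g * a * g⁻¹) (g * b * g⁻¹) := by
  induction h with
  | refl => exact Relation.ReflTransGen.refl
  | tail _ h2 ih => exact ih.tail ⟨hD.conj_closure hg h2.1, hD.conj_closure hg h2.2.1, Od.conj h2.2.2 g⟩

/-- nontrivial components of the odd graph are invariant -/
theorem or_conj_self (hD : RI D) (ha : a ∈ D) (hx : x ∈ D) (hax : Od a x) {g : G}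
    (hg : g ∈ Subgroup.closure D) : OR D a (g * a * g⁻¹) := by
  have key : ∀ d ∈ D, OR D a (d * a * d) := by
    intro d hd
    rcases hD.tri ha hd with h | h | h
    · rw [← h, mul_assoc, hD.sq d hd, mul_one]
    · exact or_single ha (hD.conj d hd a ha) (h.conj_self hD ha hd)
    · have h1 := (h.xp_left hD ha hd).mul hD ha
      rw [← mul_assoc, ← mul_assoc, ← mul_assoc, hD.sq a ha, one_mul] at h1
      have h2 := hax.conj d
      rw [hD.inv hd] at h2
      exact h1.or_of_od hD ha hx hax (hD.conj d hd x hx) h2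
  induction hg using Subgroup.closure_induction'' with
  | one => simpa using Relation.ReflTransGen.refl
  | mem g hg => rw [hD.inv hg]; exact key g hg
  | inv_mem g hg => rw [inv_inv, hD.inv hg]; exact key g hg
  | mul g h hg _ ihg ihh =>
    have := ihg.trans (ihh.conj hD hg)
    rwa [show g * (h * a * h⁻¹) * g⁻¹ = g * h * a * (g * h)⁻¹ by group] at this

theorem OneClass.exists_od (hD : RI D) (hcl : OneClass D) (ha : a ∈ D) (hx : x ∈ D) (hax : Od a x)
    (hb : b ∈ D) : ∃ y ∈ D, Od b y := by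
  obtain ⟨g, hg, rfl⟩ := hcl a ha b hb
  exact ⟨_, hD.conj_closure hg hx, hax.conj g⟩

theorem OneClass.connected (hD : RI D) (hcl : OneClass D) (ha : a ∈ D) (hx : x ∈ D) (hax : Od a x) :
    IsConnectedSet (OddAdj D) D := by
  intro b hb c hc
  obtain ⟨y, hy, ho⟩ := hcl.exists_od hD ha hx hax hb
  obtain ⟨g, hg, rfl⟩ := hcl b hb c hc
  exact or_conj_self hD hb hy ho hg

theorem oneClass_of_class (h : IsRootInvolutionClass D) : OneClass D := fun a ha b hb => by
  obtain ⟨g, hg⟩ := h.2.2 a ha b hb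
  exact ⟨g, by rw [h.1.generates]; trivial, hg⟩

/-- an odd pair stays odd modulo a normal `2`-subgroup -/
theorem Od.not_sq_mem (hD : RI D) (ha : a ∈ D) (h : Od a b) {P : Subgroup G} (hP : IsPGroup 2 P) :
    (a * b) ^ 2 ∉ P := fun hm =>
  h.mul_ne_one hD ha (eq_one_of_odd_of_pow_two_pow h.2 (k := 1)
    (eq_one_of_odd_of_isPGroup (odd_orderOf_pow h.2 2) hP hm))

theorem exists_order_three [Finite G] (hD : RI D) (hcl : OneClass D) (ha : a ∈ D) (hb : XP D a b)
    (hne : commutingMembers D a ≠ commutingMembers D b) :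
    ∃ n x, XP D b n ∧ Fo n a ∧ n * a * n * a = b ∧ x ∈ D ∧ Fo x b ∧ x * b * x * b = n ∧ Od a x ∧
      (a * x) ^ 3 = 1 := by
  obtain ⟨y, hy, ho, hno⟩ := exists_od_not_od hD hcl ha hb.1 fun e => hne (C_eq_of_Aset_eq hD hcl ha hb.1 e)
  obtain ⟨n, hn, hfn, e1⟩ := lemC hD ha hy ho hb (hb.fo_of hD hy ho hno)
  have hnb := hfn.xp_left hD hn.1 ha
  rw [e1] at hnb
  have hbn := hnb.symm hn.1
  obtain ⟨y', hy', ho', hno'⟩ := exists_od_not_od hD hcl hb.1 hn.1 fun e => by
    have : a ∈ commutingMembers D n := C_eq_of_Aset_eq hD hcl hb.1 hn.1 e ▸ ⟨ha, hb.2.1⟩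
    exact hfn.not_comm hD hn.1 ha this.2.symm
  obtain ⟨x, hx, hfx, e2⟩ := lemC hD hb.1 hy' ho' hbn (hbn.fo_of hD hy' ho' hno')
  have hxn := hfx.xp_left hD hx.1 hb.1
  rw [e2] at hxn
  obtain ⟨h1, h2⟩ := od_of_three_cycle hD ha hx.1 hb.1 hn.1 hnb.2.2.1 hbn.2.1
      (by rw [hb.2.1, mul_assoc, hD.sq a ha, mul_one])
      (by rw [hbn.2.1, ← e1, ← mul_assoc, ← mul_assoc, ← mul_assoc, hD.sq n hn.1, one_mul])
      (by rw [hxn.2.1, mul_assoc, hD.sq x hx.1, mul_one])
      (by rw [hbn.2.1, ← e2, mul_assoc _ b b, hD.sq b hb.1, mul_one])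
  refine ⟨n, x, hbn, hfn, e1, hx.1, hfx, e2, h1, ?_⟩
  by_contra h3
  have hm : x * a * x * a * x ∈ D := by
    have := hD.conj x hx.1 _ (hD.conj a ha x hx.1)
    simpa only [mul_assoc] using this
  have e3 : a * (x * a * x * a * x) = (a * x) ^ 3 := by
    simp only [pow_succ, pow_zero, one_mul, mul_assoc]
  have ho3 : Od a (x * a * x * a * x) :=
    ⟨fun e4 => h3 (by rw [← e3, ← e4, hD.sq a ha]), by rw [e3]; exact odd_orderOf_pow h1.2 3⟩
  apply hb.not_comm hD hm ho3
  have e4 : x * a * x * a * x = a * (a * x) ^ 3 := by rw [← e3, hD.sq_assoc ha]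
  rw [e4, mul_assoc, h2, ← mul_assoc, ← hb.2.1, mul_assoc]

/-- normal subgroups avoiding `D` are central modulo `O₂` -/
theorem le_twoZCore [Finite G] (hD : IsRootInvolutionSet D) (hcl : OneClass D) (ha : a ∈ D) (hb : XP D a b)
    (N : Subgroup G) [hN : N.Normal] (hd : ∀ d ∈ D, d ∉ N) : N ≤ twoZCore G := by
  have hR := RI.of_set hD
  have hmem : ∀ d : G, ∀ n ∈ N, d * (n * d * n⁻¹) * d⁻¹ * d⁻¹ ∈ N := fun d n hn => by
    have := N.mul_mem (hN.conj_mem n hn d) (hN.conj_mem _ (N.inv_mem hn) (d * d))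
    convert this using 1; group
  have hcomm : ∀ d ∈ D, ∀ n ∈ N, d * (n * d * n⁻¹) = (n * d * n⁻¹) * d := by
    intro d hdD n hn
    have h0 := hmem d n hn
    rw [hR.inv hdD, mul_assoc, hR.sq d hdD, mul_one] at h0
    have hd' := hD.conj_mem d hdD n
    rcases hR.tri hdD hd' with h | h | h
    · exact h
    · exfalso
      obtain ⟨g, hg, rfl⟩ := hcl a ha d hdD
      have hb' := hb.conj hR hg
      have key : ∀ u ∈ D, Od (n * (g * a * g⁻¹) * n⁻¹) u → g * a * g⁻¹ * u ∈ D → False := by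
        intro u hu ho hm
        apply hd _ hm
        rw [← QuotientGroup.eq_one_iff]
        have e1 : ((n * (g * a * g⁻¹) * n⁻¹ * u : G) : G ⧸ N) = (g * a * g⁻¹ * u : G) := by
          have : (n : G ⧸ N) = 1 := (QuotientGroup.eq_one_iff n).2 hn
          simp [this]
        apply eq_one_of_odd_of_sq
        · rw [← e1]
          exact Odd.of_dvd_nat ho.2 (orderOf_map_dvd (QuotientGroup.mk' N) _)
        · rw [← QuotientGroup.mk_mul, hR.sq _ hm, QuotientGroup.mk_one]
      rcases hb'.od_or hR hdD hd' h with h1 | h1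
      · exact key _ hb'.1 h1 hb'.2.2.2
      · exact key _ hb'.2.2.2 h1 (by rw [hR.sq_assoc hdD]; exact hb'.1)
    · exact absurd (by simpa only [mul_assoc] using N.mul_mem h0 h0) (hd _ (h.mem hR hdD hd'))
  have hO : ∀ d ∈ D, ∀ n ∈ N, d * (n * d * n⁻¹) ∈ pCore 2 G := by
    intro d hdD n hn
    let T : Set G := {t | ∃ n ∈ N, t = n * d * n⁻¹}
    have hTD : T ⊆ D := by rintro _ ⟨m, -, rfl⟩; exact hD.conj_mem d hdD m
    have hTc : ∀ u ∈ T, ∀ v ∈ T, u * v = v * u := by
      rintro _ ⟨m, hm, rfl⟩ _ ⟨m', hm', rfl⟩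
      have := hcomm _ (hD.conj_mem d hdD m) (m' * m⁻¹) (N.mul_mem hm' (N.inv_mem hm))
      convert this using 2 <;> group
    have hP : IsPGroup 2 (Subgroup.closure T) :=
      isPGroup_closure_of_not_od hR hTD (fun u hu v hv => by
        rw [hTc u hu v hv, mul_assoc, hR.sq u (hTD hu), mul_one]; exact hv)
        fun u hu v hv ho => ho.not_comm hR (hTD hu) (hTD hv) (hTc u hu v hv)
    have hnorm : ∀ m ∈ N, ∀ t ∈ Subgroup.closure T, m * t * m⁻¹ ∈ Subgroup.closure T := by
      intro m hm t ht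
      induction ht using Subgroup.closure_induction with
      | one => simp
      | mem t ht =>
        obtain ⟨m', hm', rfl⟩ := ht
        exact Subgroup.subset_closure ⟨m * m', N.mul_mem hm hm', by group⟩
      | mul s t _ _ hs ht => convert Subgroup.mul_mem _ hs ht using 1; group
      | inv s _ hs => convert Subgroup.inv_mem _ hs using 1; group
    have hsub : (Subgroup.closure T ⊓ N).IsSubnormal := by
      refine Subgroup.IsSubnormal.step _ N inf_le_right hN.isSubnormal ⟨fun t ht m => ?_⟩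
      rw [Subgroup.mem_subgroupOf] at ht ⊢
      exact ⟨hnorm m m.2 _ ht.1, hN.conj_mem _ ht.2 _⟩
    refine CfsgL0.le_pCore_of_isSubnormal hsub (hP.to_inf_left) ⟨?_, ?_⟩
    · exact Subgroup.mul_mem _ (Subgroup.subset_closure ⟨1, N.one_mem, by simp⟩)
        (Subgroup.subset_closure ⟨n, hn, rfl⟩)
    · have h0 := hmem d n hn
      rwa [hR.inv hdD, mul_assoc, hR.sq d hdD, mul_one] at h0
  intro n hn
  unfold twoZCore
  rw [Subgroup.mem_comap, Subgroup.mem_center_iff]
  intro g
  obtain ⟨g, rfl⟩ := QuotientGroup.mk'_surjective _ g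
  have hg : g ∈ Subgroup.closure D := by rw [hD.generates]; trivial
  change Commute _ _
  induction hg using Subgroup.closure_induction with
  | one => simp
  | mem d hdD =>
    change _ * _ = _ * _
    rw [← map_mul, ← map_mul, QuotientGroup.mk'_apply, QuotientGroup.mk'_apply, QuotientGroup.eq]
    have := Subgroup.inv_mem _ (hO d hdD n⁻¹ (N.inv_mem hn))
    convert this using 1
    simp only [mul_inv_rev, inv_inv, hR.inv hdD, mul_assoc]
  | mul s t _ _ hs ht => rw [map_mul]; exact hs.mul_left ht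
  | inv s _ hs => rw [map_inv]; exact hs.inv_left

end CfsgH9
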