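import Cfsg.Agent.H9.LinRoot
import Cfsg.Agent.H9.RootInv3
import Cfsg.Agent.H7.Tv

set_option autoImplicit false

namespace CfsgH9
open Cfsg Matrix
open scoped MatrixGroups

variable {k : Type*} [Field k] {ι : Type*} [Fintype ι] [DecidableEq ι]

omit [DecidableEq ι] in
theorem vmv_mul (p f r g : ι → k) : vecMulVec p f * vecMulVec r g = (f ⬝ᵥ r) • vecMulVec p g := by
  rw [vecMulVec_mul_vecMulVec, vecMulVec_smul]

omit [DecidableEq ι] in
theorem vmv_mul3 (p f r g : ι → k) :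
    vecMulVec p f * vecMulVec r g * vecMulVec p f = ((f ⬝ᵥ r) * (g ⬝ᵥ p)) • vecMulVec p f := by
  rw [vmv_mul, smul_mul_assoc, vmv_mul, smul_smul]

theorem mulVec_ne_zero_of {Γ : Type*} [Group Γ] (ρ : Γ →* Matrix ι ι k) (g : Γ) {p : ι → k} (hp : p ≠ 0) :
    ρ g *ᵥ p ≠ 0 := fun e => hp (by
  have := congrArg (ρ g⁻¹ *ᵥ ·) e
  simpa [mulVec_mulVec, rho_inv_mul] using this)

theorem vecMul_ne_zero_of {Γ : Type*} [Group Γ] (ρ : Γ →* Matrix ι ι k) (g : Γ) {p : ι → k} (hp : p ≠ 0) :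
    p ᵥ* ρ g ≠ 0 := fun e => hp (by
  have := congrArg (· ᵥ* ρ g⁻¹) e
  simpa [vecMul_vecMul, rho_mul_inv] using this)

variable (ι k) in
/-- nilpotent parts of transvections -/
def TvS : Set (Matrix ι ι k) := {s | ∃ p f : ι → k, p ≠ 0 ∧ f ≠ 0 ∧ f ⬝ᵥ p = 0 ∧ s = vecMulVec p f}

theorem TvS_smul {s : Matrix ι ι k} (hs : s ∈ TvS k ι) {c : k} (hc : c ≠ 0) : c • s ∈ TvS k ι := by
  obtain ⟨p, f, hp, hf, h, rfl⟩ := hs
  exact ⟨c • p, f, smul_ne_zero hc hp, hf, by simp [h], by rw [smul_vecMulVec]⟩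

theorem linFam_SL : LinFam k (SpecialLinearGroup.coeMonoidHom : SpecialLinearGroup ι k →* _) (TvS k ι) where
  inj := SpecialLinearGroup.coeMonoidHom_injective
  sq := by
    rintro _ ⟨p, f, -, -, h, rfl⟩
    rw [vmv_mul, h, zero_smul]
  ne := by
    rintro _ ⟨p, f, hp, hf, -, rfl⟩
    exact vecMulVec_ne_zero hp hf
  ex := by
    rintro _ ⟨p, f, -, -, h, rfl⟩ c
    exact ⟨CfsgH7.tvSL (c • p) f (by simp [h]), by
      rw [SpecialLinearGroup.coeMonoidHom_apply, CfsgH7.tvSL_coe, smul_vecMulVec]⟩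
  conj := by
    rintro _ ⟨p, f, hp, hf, h, rfl⟩ g
    refine ⟨_, _, mulVec_ne_zero_of _ g hp, vecMul_ne_zero_of _ g⁻¹ hf, ?_, by
      rw [mul_vecMulVec, vecMulVec_mul]⟩
    rw [← dotProduct_mulVec, mulVec_mulVec, rho_inv_mul, one_mulVec, h]
  pair := by
    rintro _ ⟨p, f, hp, hf, h, rfl⟩ _ ⟨r, g, hr, hg, h', rfl⟩
    by_cases h1 : f ⬝ᵥ r = 0 <;> by_cases h2 : g ⬝ᵥ p = 0
    · left; rw [vmv_mul, vmv_mul, h1, h2, zero_smul, zero_smul]
    · refine Or.inr (Or.inr ⟨by rw [vmv_mul3, h1, zero_mul, zero_smul],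
        by rw [vmv_mul3, h1, mul_zero, zero_smul], -1, by simp, ?_⟩)
      rw [vmv_mul, vmv_mul, h1, zero_smul, zero_sub, neg_smul, one_smul, neg_neg]
      exact TvS_smul ⟨r, f, hr, hf, h1, rfl⟩ h2
    · refine Or.inr (Or.inr ⟨by rw [vmv_mul3, h2, mul_zero, zero_smul],
        by rw [vmv_mul3, h2, zero_mul, zero_smul], 1, by simp, ?_⟩)
      rw [vmv_mul, vmv_mul, h2, zero_smul, sub_zero, one_smul]
      exact TvS_smul ⟨p, g, hp, hg, h2, rfl⟩ h1
    · exact Or.inr (Or.inl ⟨_, mul_ne_zero h1 h2, vmv_mul3 _ _ _ _, by rw [vmv_mul3, mul_comm]⟩)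

theorem exists_dot_ne {f : ι → k} (hf : f ≠ 0) : ∃ u, f ⬝ᵥ u ≠ 0 := by
  obtain ⟨u, hu⟩ := CfsgH7.exists_dot_ne_zero hf
  exact ⟨u, by rw [hu]; exact one_ne_zero⟩

/-- dot product with a fixed left vector -/
def dotL (f : ι → k) : (ι → k) →+ k := AddMonoidHom.mk' (fun u => f ⬝ᵥ u) (dotProduct_add f)
/-- dot product with a fixed right vector -/
def dotR (p : ι → k) : (ι → k) →+ k := AddMonoidHom.mk' (fun u => u ⬝ᵥ p) fun a b => add_dotProduct a b p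

theorem TvS_common_opp {s t : Matrix ι ι k} (hs : s ∈ TvS k ι) (ht : t ∈ TvS k ι) :
    ∃ w ∈ TvS k ι, (∃ c : k, c ≠ 0 ∧ s * w * s = c • s ∧ w * s * w = c • w) ∧
      (∃ c : k, c ≠ 0 ∧ w * t * w = c • w ∧ t * w * t = c • t) := by
  obtain ⟨p, f, hp, hf, h, rfl⟩ := hs
  obtain ⟨r, g, hr, hg, h', rfl⟩ := ht
  obtain ⟨u, -, hu1, hu2⟩ := exists_two_ne_zero (dotL f) (dotL g) (W := ⊤)
    ((exists_dot_ne hf).imp fun _ h => ⟨trivial, h⟩) ((exists_dot_ne hg).imp fun _ h => ⟨trivial, h⟩)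
  change f ⬝ᵥ u ≠ 0 at hu1
  change g ⬝ᵥ u ≠ 0 at hu2
  have key : ∀ {p f : ι → k}, p ≠ 0 → f ⬝ᵥ p = 0 → f ⬝ᵥ u ≠ 0 → ∃ a ∈ (dotR u).ker, dotR p a ≠ 0 := by
    intro p f hp h hu
    obtain ⟨i, hi⟩ := Function.ne_iff.1 hp
    refine ⟨Pi.single i 1 - (u i * (f ⬝ᵥ u)⁻¹) • f, ?_, ?_⟩
    · change (_ - _) ⬝ᵥ u = 0
      rw [sub_dotProduct, smul_dotProduct, single_dotProduct, smul_eq_mul, inv_mul_cancel_right₀ hu]; simp
    · change (_ - _) ⬝ᵥ p ≠ 0
      rw [sub_dotProduct, smul_dotProduct, single_dotProduct, h]; simpa using hi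
  obtain ⟨a, ha, ha1, ha2⟩ := exists_two_ne_zero (dotR p) (dotR r) (key hp h hu1) (key hr h' hu2)
  change a ⬝ᵥ p ≠ 0 at ha1
  change a ⬝ᵥ r ≠ 0 at ha2
  refine ⟨vecMulVec u a, ⟨u, a, ?_, ?_, ha, rfl⟩,
    ⟨_, mul_ne_zero hu1 ha1, vmv_mul3 _ _ _ _, by rw [vmv_mul3, mul_comm]⟩,
    ⟨_, mul_ne_zero ha2 hu2, vmv_mul3 _ _ _ _, by rw [vmv_mul3, mul_comm]⟩⟩
  · rintro rfl; simp at hu1
  · rintro rfl; simp at ha1

theorem single_mem_TvS {i j : ι} (hij : i ≠ j) : (single i j 1 : Matrix ι ι k) ∈ TvS k ι :=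
  ⟨Pi.single i 1, Pi.single j 1, by simp, by simp, by simp [hij.symm], CfsgH7.single_eq_vecMulVec i j 1⟩

theorem SL_gen [Nontrivial ι] :
    (⨆ B ∈ RG k (SpecialLinearGroup.coeMonoidHom : SpecialLinearGroup ι k →* _) '' TvS k ι, B) = ⊤ := by
  rw [eq_top_iff]
  intro g _
  refine CfsgH7.SL_induction (fun g => g ∈ _) (fun i j hij a => ?_) (fun A B => Subgroup.mul_mem _) g
  refine le_biSup_self (S := RG k _ '' TvS k ι) ⟨_, single_mem_TvS hij, rfl⟩ ?_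
  refine (mem_RG (linFam_SL.sq _ (single_mem_TvS hij))).2 ⟨a, ?_⟩
  rw [SpecialLinearGroup.coeMonoidHom_apply, SpecialLinearGroup.transvection_coe, smul_single, smul_eq_mul, mul_one]

theorem LinFam.connected {A Γ : Type*} [Ring A] [Algebra k A] [Group Γ] {ρ : Γ →* A} {S : Set A}
    (h : LinFam k ρ S) (hc : ∀ s ∈ S, ∀ t ∈ S, ∃ w ∈ S, (∃ c : k, c ≠ 0 ∧ s * w * s = c • s ∧ w * s * w = c • w) ∧
      (∃ c : k, c ≠ 0 ∧ w * t * w = c • w ∧ t * w * t = c • t)) :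
    IsConnectedFamily (FAdj (RG k ρ '' S)) (RG k ρ '' S) := by
  rintro _ ⟨s, hs, rfl⟩ _ ⟨t, ht, rfl⟩
  obtain ⟨w, hw, ⟨c, hc, h1, h2⟩, ⟨d, hd, h3, h4⟩⟩ := hc s hs t ht
  exact (fr_single (S := RG k ρ '' S) ⟨s, hs, rfl⟩ ⟨w, hw, rfl⟩ (h.opp hs hw hc h1 h2).2.2).trans
    (fr_single (S := RG k ρ '' S) ⟨w, hw, rfl⟩ ⟨t, ht, rfl⟩ (h.opp hw ht hd h3 h4).2.2)

theorem SL_connected : IsConnectedFamily
    (FAdj (RG k (SpecialLinearGroup.coeMonoidHom : SpecialLinearGroup ι k →* _) '' TvS k ι))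
    (RG k (SpecialLinearGroup.coeMonoidHom : SpecialLinearGroup ι k →* _) '' TvS k ι) :=
  linFam_SL.connected fun _ hs _ ht => TvS_common_opp hs ht

theorem closure_transvection {i j : ι} (hij : i ≠ j) :
    Subgroup.closure {t : SpecialLinearGroup ι k | ∃ c : k, (t : Matrix ι ι k) = Matrix.transvection i j c} =
      RG k SpecialLinearGroup.coeMonoidHom (single i j 1) := by
  rw [← Subgroup.closure_eq (RG k _ _)]
  congr 1
  ext t
  rw [SetLike.mem_coe, mem_RG (linFam_SL.sq _ (single_mem_TvS hij))]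
  simp [Matrix.transvection]

theorem SL_class_eq {i j : ι} (hij : i ≠ j) :
    {A : Subgroup (SpecialLinearGroup ι k) | ∃ g, A = conjBy (Subgroup.closure
      {t : SpecialLinearGroup ι k | ∃ c : k, (t : Matrix ι ι k) = Matrix.transvection i j c}) g} =
    RG k SpecialLinearGroup.coeMonoidHom '' TvS k ι := by
  haveI : Nontrivial ι := ⟨⟨i, j, hij⟩⟩
  rw [closure_transvection hij]
  ext A
  constructor
  · rintro ⟨g, rfl⟩
    exact rs_cj (linFam_SL.rootSet SL_gen) ⟨_, single_mem_TvS hij, rfl⟩ g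
  · intro hA
    exact FR.conj (SL_connected _ ⟨_, single_mem_TvS hij, rfl⟩ A hA)

/-- in characteristic two a product of opposite root elements of `SL₂` has odd order -/
theorem odd_order_xU_xL [Finite k] [CharP k 2] {x y : k} (hx : x ≠ 0) (hy : y ≠ 0) :
    Odd (orderOf (xU x * xL y)) := by
  have h2 : (2 : k) = 0 := CharTwo.two_eq_zero
  set h := xU x * xL y with hh
  have h00 : h.1 0 0 = 1 + x * y := by simp [hh]
  have h01 : h.1 0 1 = x := by simp [hh]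
  have h10 : h.1 1 0 = y := by simp [hh]
  have h11 : h.1 1 1 = 1 := by simp [hh]
  by_contra hno
  have h1 := CfsgH4.orderOf_pow_half (Nat.not_odd_iff_even.1 hno) (orderOf_pos h).ne'
  set z := h ^ (orderOf h / 2)
  have hc : h * z = z * h := (Commute.self_pow h _).eq
  have hz := CfsgH4.mul_self_of_orderOf h1
  have hz' : z⁻¹ = z := inv_eq_of_mul_eq_one_right hz
  have e1 : z.1 1 1 = z.1 0 0 := by
    have := congrArg (fun g : SL(2, k) => g.1 0 0) hz'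
    simp only [sl2_inv_coe] at this
    simpa using this
  have e2 := congrArg (fun g : SL(2, k) => g.1 0 1) hc
  have e3 := congrArg (fun g : SL(2, k) => g.1 1 0) hc
  simp only [sl2_mul_apply, h00, h01, h10, h11, e1] at e2 e3
  have e4 : z.1 0 1 = 0 := by
    have : x * y * z.1 0 1 = 0 := by linear_combination e2
    simpa [hx, hy] using this
  have e5 : z.1 1 0 = 0 := by
    have : x * y * z.1 1 0 = 0 := by linear_combination -e3
    simpa [hx, hy] using this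
  have e6 : z.1 0 0 = 1 := by
    have h3 := sl2_det z
    rw [e1, e4, zero_mul, sub_zero] at h3
    have : (z.1 0 0 - 1) ^ 2 = 0 := by linear_combination h3 + (1 - z.1 0 0) * h2
    exact sub_eq_zero.1 (pow_eq_zero_iff two_ne_zero |>.1 this)
  exact CfsgH4.ne_one_of_orderOf h1 (sl2_ext (by simpa using e6) (by simpa using e4) (by simpa using e5)
    (by simpa [e1] using e6))

end CfsgH9
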