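import Cfsg.Agent.H9.ExSL
import Cfsg.Agent.H7.Symp

set_option autoImplicit false

namespace CfsgH9
open Cfsg Matrix
open scoped MatrixGroups

section Gen
variable {F V : Type*} [Field F] [AddCommGroup V] [Module F V]

/-- symplectic transvection -/
def tvL (B : LinearMap.BilinForm F V) (w : V) (c : F) : V →ₗ[F] V := 1 + c • (B.flip w).smulRight w

theorem tvL_apply (B : LinearMap.BilinForm F V) (w : V) (c : F) (x : V) :
    tvL B w c x = x + (c * B x w) • w := by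
  simp [tvL, mul_smul]

theorem tvL_isom {B : LinearMap.BilinForm F V} (halt : B.IsAlt) (w : V) (c : F) (x y : V) :
    B (tvL B w c x) (tvL B w c y) = B x y := by
  simp only [tvL_apply, map_add, map_smul, LinearMap.add_apply, LinearMap.smul_apply, smul_eq_mul,
    halt.self_eq_zero w, ← halt.neg_eq y w]
  ring

theorem tvL_neg_mul {B : LinearMap.BilinForm F V} (halt : B.IsAlt) (w : V) (c : F) :
    tvL B w (-c) * tvL B w c = 1 := by
  ext x
  simp only [Module.End.mul_apply, tvL_apply, map_add, map_smul, LinearMap.add_apply, LinearMap.smul_apply,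
    smul_eq_mul, halt.self_eq_zero w, Module.End.one_apply]
  module

theorem sp_induction [FiniteDimensional F V] {B : LinearMap.BilinForm F V} (halt : B.IsAlt)
    (hnd : ∀ x, (∀ y, B y x = 0) → x = 0) (P : (V →ₗ[F] V) → Prop) (h1 : P 1)
    (hstep : ∀ w c g, w ≠ 0 → P g → P (tvL B w c * g))
    (g : V →ₗ[F] V) (hg : ∀ x y, B (g x) (g y) = B x y) : P g := by
  have hback : ∀ w c g, w ≠ 0 → P (tvL B w c * g) → P g := fun w c g hw h => by
    have := hstep w (-c) _ hw h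
    rwa [← mul_assoc, tvL_neg_mul halt, one_mul] at this
  have hiso : ∀ w c (g : V →ₗ[F] V), (∀ x y, B (g x) (g y) = B x y) →
      ∀ x y, B ((tvL B w c * g) x) ((tvL B w c * g) y) = B x y := fun w c g hg x y => by
    rw [Module.End.mul_apply, Module.End.mul_apply, tvL_isom halt, hg]
  have hfix : ∀ (v : V) c (g : V →ₗ[F] V), (∀ x y, B (g x) (g y) = B x y) →
      LinearMap.ker (g - 1) ≤ LinearMap.ker (tvL B (g v - v) c * g - 1) := fun v c g hg x hx => by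
    rw [LinearMap.mem_ker, LinearMap.sub_apply, sub_eq_zero, Module.End.one_apply] at hx ⊢
    rw [Module.End.mul_apply, tvL_apply, map_sub, hg, hx, sub_self, mul_zero, zero_smul, add_zero]
  induction hn : Module.finrank F V - Module.finrank F (LinearMap.ker (g - 1)) using Nat.strong_induction_on
    generalizing g with
  | _ n ih =>
  have case1 : ∀ g' : V →ₗ[F] V, (∀ x y, B (g' x) (g' y) = B x y) →
      LinearMap.ker (g - 1) ≤ LinearMap.ker (g' - 1) → ∀ v, B v (g' v) ≠ 0 → P g' := by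
    intro g' hg' hle v hv
    have hw : g' v - v ≠ 0 := fun e => hv (by rw [sub_eq_zero.1 e, halt.self_eq_zero])
    refine hback (g' v - v) (-(B v (g' v))⁻¹) g' hw (ih _ ?_ _ (hiso _ _ _ hg') rfl)
    have hlt : LinearMap.ker (g' - 1) < LinearMap.ker (tvL B (g' v - v) (-(B v (g' v))⁻¹) * g' - 1) := by
      refine lt_of_le_of_ne (hfix v _ g' hg') fun e => hw ?_
      have : v ∈ LinearMap.ker (tvL B (g' v - v) (-(B v (g' v))⁻¹) * g' - 1) := by
        rw [LinearMap.mem_ker, LinearMap.sub_apply, Module.End.mul_apply, tvL_apply, map_sub, halt.self_eq_zero,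
          ← halt.neg_eq v (g' v), zero_sub, neg_neg, neg_mul, inv_mul_cancel₀ hv]
        simp
      rw [← e] at this
      simpa using this
    have h2 := Submodule.finrank_lt_finrank_of_lt (hle.trans_lt hlt)
    have h3 := Submodule.finrank_le (LinearMap.ker (tvL B (g' v - v) (-(B v (g' v))⁻¹) * g' - 1))
    omega
  by_cases hg1 : g = 1
  · rw [hg1]; exact h1
  by_cases h2 : ∃ v, B v (g v) ≠ 0
  · obtain ⟨v, hv⟩ := h2
    exact case1 g hg le_rfl v hv
  push Not at h2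
  obtain ⟨v, hv⟩ : ∃ v, g v - v ≠ 0 := by
    by_contra h
    push Not at h
    exact hg1 (LinearMap.ext fun v => sub_eq_zero.1 (h v))
  have hinj : Function.Injective g := (injective_iff_map_eq_zero g).2 fun x hx =>
    hnd x fun y => by rw [← hg, hx, map_zero]
  have hex : ∃ y, B y (g v - v) ≠ 0 := by
    by_contra h
    push Not at h
    exact hv (hnd _ h)
  obtain ⟨x, -, hx1, hx2⟩ := exists_two_ne_zero (B.flip (g v - v)).toAddMonoidHom
    ((B.flip (g v - v)).comp g).toAddMonoidHom (W := ⊤) (hex.imp fun _ h => ⟨trivial, h⟩) (by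
      obtain ⟨y, hy⟩ := hex
      obtain ⟨y, rfl⟩ := LinearMap.injective_iff_surjective.1 hinj y
      exact ⟨y, trivial, hy⟩)
  refine hback (g v - v) 1 g hv (case1 _ (hiso _ _ _ hg) (hfix v 1 g hg) x ?_)
  rw [Module.End.mul_apply, tvL_apply, map_add, h2, zero_add, map_smul, one_mul]
  exact mul_ne_zero hx2 hx1

end Gen

variable {F : Type*} [Field F] {m : ℕ}

variable (F m) in
/-- nilpotent parts of symplectic transvections -/
def SpS : Set (Matrix (Fin m ⊕ Fin m) (Fin m ⊕ Fin m) F) :=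
  {s | ∃ p : Fin m ⊕ Fin m → F, p ≠ 0 ∧ s = vecMulVec p (J (Fin m) F *ᵥ p)}

theorem J_mulVec_ne_zero {p : Fin m ⊕ Fin m → F} (hp : p ≠ 0) : J (Fin m) F *ᵥ p ≠ 0 := fun e => hp (by
  have := congrArg (J (Fin m) F *ᵥ ·) e
  simpa [mulVec_mulVec, J_squared, neg_mulVec] using this)

theorem J_dot_self (p : Fin m ⊕ Fin m → F) : (J (Fin m) F *ᵥ p) ⬝ᵥ p = 0 := by
  rw [dotProduct_comm]; exact CfsgH7.sympForm_self p

theorem J_dot_skew (p r : Fin m ⊕ Fin m → F) : (J (Fin m) F *ᵥ p) ⬝ᵥ r = -((J (Fin m) F *ᵥ r) ⬝ᵥ p) := by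
  rw [dotProduct_comm, dotProduct_comm _ p]; exact CfsgH7.sympForm_skew p r

theorem sp_tv_mulVec (p v : Fin m ⊕ Fin m → F) (c : F) :
    (1 + c • vecMulVec p (J (Fin m) F *ᵥ p)) *ᵥ v = v + (c * (v ⬝ᵥ (J (Fin m) F *ᵥ p))) • p := by
  rw [add_mulVec, one_mulVec, smul_mulVec, CfsgH7.vecMulVec_mulVec', smul_smul, dotProduct_comm]

theorem sp_tv_mem (p : Fin m ⊕ Fin m → F) (c : F) :
    1 + c • vecMulVec p (J (Fin m) F *ᵥ p) ∈ symplecticGroup (Fin m) F := by
  rw [CfsgH7.mem_Sp_iff_form]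
  intro u v
  have := tvL_isom (B := Matrix.toBilin' (J (Fin m) F)) (fun x => by
    rw [Matrix.toBilin'_apply']; exact CfsgH7.sympForm_self x) p c u v
  simp only [tvL_apply, Matrix.toBilin'_apply'] at this
  rw [sp_tv_mulVec, sp_tv_mulVec]
  exact this

theorem linFam_Sp : LinFam F (symplecticGroup (Fin m) F).subtype (SpS F m) where
  inj := Subtype.val_injective
  sq := by
    rintro _ ⟨p, -, rfl⟩
    rw [vmv_mul, J_dot_self, zero_smul]
  ne := by
    rintro _ ⟨p, hp, rfl⟩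
    exact vecMulVec_ne_zero hp (J_mulVec_ne_zero hp)
  ex := by
    rintro _ ⟨p, -, rfl⟩ c
    exact ⟨⟨_, sp_tv_mem p c⟩, rfl⟩
  conj := by
    rintro _ ⟨p, hp, rfl⟩ g
    refine ⟨_, mulVec_ne_zero_of (symplecticGroup (Fin m) F).subtype g hp, ?_⟩
    rw [mul_vecMulVec, vecMulVec_mul]
    congr 1
    refine dotProduct_eq _ _ fun v => ?_
    rw [← dotProduct_mulVec, dotProduct_comm, dotProduct_comm _ v]
    have := (CfsgH7.mem_Sp_iff_form _).1 g.2 ((symplecticGroup (Fin m) F).subtype g⁻¹ *ᵥ v) p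
    rw [mulVec_mulVec] at this
    erw [rho_mul_inv (ρ := (symplecticGroup (Fin m) F).subtype) g] at this
    rw [one_mulVec] at this
    exact this.symm
  pair := by
    rintro _ ⟨p, hp, rfl⟩ _ ⟨r, hr, rfl⟩
    by_cases h1 : (J (Fin m) F *ᵥ p) ⬝ᵥ r = 0
    · left; rw [vmv_mul, vmv_mul, J_dot_skew r p, h1]; simp
    · refine Or.inr (Or.inl ⟨_, mul_ne_zero h1 ?_, vmv_mul3 _ _ _ _, by rw [vmv_mul3, mul_comm]⟩)
      rw [J_dot_skew]; exact neg_ne_zero.2 h1

theorem Sp_pair : ∀ s ∈ SpS F m, ∀ t ∈ SpS F m,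
    s * t = t * s ∨ (∃ c : F, c ≠ 0 ∧ s * t * s = c • s ∧ t * s * t = c • t) := by
  rintro _ ⟨p, hp, rfl⟩ _ ⟨r, hr, rfl⟩
  by_cases h1 : (J (Fin m) F *ᵥ p) ⬝ᵥ r = 0
  · left; rw [vmv_mul, vmv_mul, J_dot_skew r p, h1]; simp
  · refine Or.inr ⟨_, mul_ne_zero h1 ?_, vmv_mul3 _ _ _ _, by rw [vmv_mul3, mul_comm]⟩
    rw [J_dot_skew]; exact neg_ne_zero.2 h1

theorem Sp_connected : IsConnectedFamily (FAdj (RG F (symplecticGroup (Fin m) F).subtype '' SpS F m))
    (RG F (symplecticGroup (Fin m) F).subtype '' SpS F m) := by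
  refine linFam_Sp.connected ?_
  rintro _ ⟨p, hp, rfl⟩ _ ⟨r, hr, rfl⟩
  obtain ⟨u, -, hu1, hu2⟩ := exists_two_ne_zero (dotL (J (Fin m) F *ᵥ p)) (dotL (J (Fin m) F *ᵥ r)) (W := ⊤)
    ((exists_dot_ne (J_mulVec_ne_zero hp)).imp fun _ h => ⟨trivial, h⟩)
    ((exists_dot_ne (J_mulVec_ne_zero hr)).imp fun _ h => ⟨trivial, h⟩)
  change _ ⬝ᵥ u ≠ 0 at hu1 hu2
  refine ⟨_, ⟨u, ?_, rfl⟩, ⟨_, mul_ne_zero hu1 ?_, vmv_mul3 _ _ _ _, by rw [vmv_mul3, mul_comm]⟩,
    ⟨_, mul_ne_zero ?_ hu2, vmv_mul3 _ _ _ _, by rw [vmv_mul3, mul_comm]⟩⟩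
  · rintro rfl; simp at hu1
  · rw [J_dot_skew]; exact neg_ne_zero.2 hu1
  · rw [J_dot_skew]; exact neg_ne_zero.2 hu2

theorem Sp_gen : (⨆ B ∈ RG F (symplecticGroup (Fin m) F).subtype '' SpS F m, B) = ⊤ := by
  rw [eq_top_iff]
  intro g _
  have := sp_induction (B := Matrix.toBilin' (J (Fin m) F)) (fun x => by
      rw [Matrix.toBilin'_apply']; exact CfsgH7.sympForm_self x)
    (fun x hx => by
      by_contra h0
      obtain ⟨u, hu⟩ := exists_dot_ne (J_mulVec_ne_zero h0)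
      exact hu (by rw [dotProduct_comm, ← Matrix.toBilin'_apply']; exact hx u))
    (fun T => ∃ h ∈ ⨆ B ∈ RG F (symplecticGroup (Fin m) F).subtype '' SpS F m, B, Matrix.toLin' h.1 = T)
    ⟨1, Subgroup.one_mem _, by simp [Module.End.one_eq_id]⟩
    (by
      rintro w c _ hw ⟨h, hh, rfl⟩
      refine ⟨⟨_, sp_tv_mem w c⟩ * h, Subgroup.mul_mem _ (le_biSup_self (S := RG F _ '' SpS F m)
        ⟨_, ⟨w, hw, rfl⟩, rfl⟩ ((mem_RG (linFam_Sp.sq _ ⟨w, hw, rfl⟩)).2 ⟨c, rfl⟩)) hh, ?_⟩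
      refine LinearMap.ext fun x => ?_
      rw [Module.End.mul_apply, tvL_apply, Matrix.toBilin'_apply', Matrix.toLin'_apply, Matrix.toLin'_apply,
        ← sp_tv_mulVec, mulVec_mulVec]
      rfl)
    (Matrix.toLin' g.1) (fun x y => by
      simp only [Matrix.toBilin'_apply', Matrix.toLin'_apply]
      exact (CfsgH7.mem_Sp_iff_form _).1 g.2 x y)
  obtain ⟨h, hh, e⟩ := this
  rwa [← Subtype.ext (Matrix.toLin'.injective e)]

theorem Sp_set_eq : {A : Subgroup ↥(Matrix.symplecticGroup (Fin m) F) | ∃ p : Fin m ⊕ Fin m → F, p ≠ 0 ∧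
        A = Subgroup.closure {g : ↥(Matrix.symplecticGroup (Fin m) F) | ∃ c : F, ∀ v : Fin m ⊕ Fin m → F,
          (g : Matrix (Fin m ⊕ Fin m) (Fin m ⊕ Fin m) F) *ᵥ v =
            v + (c * (v ⬝ᵥ (Matrix.J (Fin m) F *ᵥ p))) • p}} =
    RG F (symplecticGroup (Fin m) F).subtype '' SpS F m := by
  have key : ∀ p : Fin m ⊕ Fin m → F, p ≠ 0 → Subgroup.closure {g : ↥(Matrix.symplecticGroup (Fin m) F) |
      ∃ c : F, ∀ v : Fin m ⊕ Fin m → F, (g : Matrix (Fin m ⊕ Fin m) (Fin m ⊕ Fin m) F) *ᵥ v =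
        v + (c * (v ⬝ᵥ (Matrix.J (Fin m) F *ᵥ p))) • p} =
      RG F (symplecticGroup (Fin m) F).subtype (vecMulVec p (J (Fin m) F *ᵥ p)) := by
    intro p hp
    rw [← Subgroup.closure_eq (RG F _ _)]
    congr 1
    ext g
    rw [SetLike.mem_coe, mem_RG (linFam_Sp.sq _ ⟨p, hp, rfl⟩)]
    refine exists_congr fun c => ⟨fun h => ?_, fun h v => ?_⟩
    · exact Matrix.toLin'.injective (LinearMap.ext fun v => by
        rw [Matrix.toLin'_apply, Matrix.toLin'_apply, sp_tv_mulVec]; exact h v)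
    · rw [← sp_tv_mulVec, ← h]; rfl
  ext A
  constructor
  · rintro ⟨p, hp, rfl⟩
    exact ⟨_, ⟨p, hp, rfl⟩, (key p hp).symm⟩
  · rintro ⟨_, ⟨p, hp, rfl⟩, rfl⟩
    exact ⟨p, hp, (key p hp).symm⟩

end CfsgH9
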