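/-
The centraliser of a transvection in `SL₅(2)` by codes.
-/
import Cfsg.Agent.H6.MatC

set_option autoImplicit false
set_option maxRecDepth 100000

namespace CfsgH9.Hd

open CfsgH5 CfsgH6 Subgroup

noncomputable section

/-- membership in a list -/
def meL (l : List ℕ) (a : ℕ) : Bool := force a fun a => anyL l (Nat.beq a)

theorem meL_iff (l : List ℕ) (a : ℕ) : meL l a = true ↔ a ∈ l := by simp [meL, anyL_iff]

theorem bimp_iff (a b : Bool) : bimp a b = true ↔ (a = true → b = true) := by
  cases a <;> cases b <;> simp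

/-- the linear group -/
abbrev SL5 : Type := Matrix.SpecialLinearGroup (Fin 5) (ZMod 2)

/-- one column of the product -/
def mc (A B j s : ℕ) : ℕ :=
  Nat.mul (Nat.land (Nat.shiftRight B j) 0x41041041) (Nat.land (Nat.shiftRight A s) 63)

/-- product of codes -/
def m5 (A B : ℕ) : ℕ := force A fun A => force B fun B =>
  Nat.xor (Nat.xor (Nat.xor (Nat.xor (mc A B 0 0) (mc A B 1 6)) (mc A B 2 12)) (mc A B 3 18))
    (mc A B 4 24)

theorem m5_eq (A B : ℕ) : m5 A B = mul2 5 6 A B := by
  have : ones 6 6 = 0x41041041 := by decide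
  simp only [m5, force_eq, mc, mul2, this]
  show _ = Nat.xor (Nat.xor (Nat.xor (Nat.xor (Nat.xor 0 _) _) _) _) _
  rw [show ∀ x, Nat.xor 0 x = x from Nat.zero_xor]

/-- the code of the identity -/
def one5 : ℕ := 0x10204081
/-- the code of the central involution -/
def zc : ℕ := 0x11204081

/-- the code of a matrix -/
def cd (g : SL5) : ℕ := (mc2 5).code g.1

theorem cd_mul (g h : SL5) : cd (g * h) = m5 (cd g) (cd h) := by
  rw [m5_eq]; exact (mc2 5).code_mul _ _

theorem cd_one : cd 1 = one5 := (mc2 5).code_one.trans (by decide)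

theorem cd_inj {g h : SL5} (e : cd g = cd h) : g = h := Subtype.ext ((mc2 5).inj e)

theorem bz_mat (M : Matrix (Fin 5) (Fin 5) (ZMod 2)) (i j : Fin 5) :
    bz ((mc2 5).code M) (6 * j + i) = M i j := by
  show bz (mcode 1 6 M) _ = _
  rw [bz_eq_dgt, dgt_mcode (by norm_num) (by norm_num) _ (by omega), ent_fin, ZMod.natCast_zmod_val]

theorem bz_out (M : Matrix (Fin 5) (Fin 5) (ZMod 2)) (q : ℕ) (h : 30 ≤ q ∨ q % 6 = 5) :
    bz ((mc2 5).code M) q = 0 := by
  show bz (mcode 1 6 M) _ = _
  rw [bz_mcode]
  split_ifs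
  · rw [ent, dif_neg (by omega)]; rfl
  · rfl

/-- the determinant of the middle block -/
def det3 (c : ℕ) : Bool :=
  Nat.beq (Nat.xor (Nat.xor (Nat.xor (Nat.xor (Nat.xor (Nat.land (bit c 7) (Nat.land (bit c 14) (bit c 21)))
    (Nat.land (bit c 7) (Nat.land (bit c 15) (bit c 20))))
    (Nat.land (bit c 8) (Nat.land (bit c 13) (bit c 21))))
    (Nat.land (bit c 8) (Nat.land (bit c 15) (bit c 19))))
    (Nat.land (bit c 9) (Nat.land (bit c 13) (bit c 20))))
    (Nat.land (bit c 9) (Nat.land (bit c 14) (bit c 19)))) 1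

theorem det3_iff (c : ℕ) : det3 c = true ↔ bz c 7 * bz c 14 * bz c 21 + bz c 7 * bz c 15 * bz c 20 +
    bz c 8 * bz c 13 * bz c 21 + bz c 8 * bz c 15 * bz c 19 + bz c 9 * bz c 13 * bz c 20 +
    bz c 9 * bz c 14 * bz c 19 = 1 := by
  simp only [det3, bz, bit_eq]
  generalize c.testBit 7 = a1; generalize c.testBit 8 = a2; generalize c.testBit 9 = a3
  generalize c.testBit 13 = a4; generalize c.testBit 14 = a5; generalize c.testBit 15 = a6
  generalize c.testBit 19 = a7; generalize c.testBit 20 = a8; generalize c.testBit 21 = a9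
  revert a1 a2 a3 a4 a5 a6 a7 a8 a9
  decide

theorem det_shape (M : Matrix (Fin 5) (Fin 5) (ZMod 2)) (h1 : M 1 0 = 0) (h2 : M 2 0 = 0)
    (h3 : M 3 0 = 0) (h4 : M 4 0 = 0) (k1 : M 4 1 = 0) (k2 : M 4 2 = 0) (k3 : M 4 3 = 0) :
    M.det = M 0 0 * M 4 4 * (M 1 1 * M 2 2 * M 3 3 + M 1 1 * M 3 2 * M 2 3 + M 2 1 * M 1 2 * M 3 3 +
      M 2 1 * M 3 2 * M 1 3 + M 3 1 * M 1 2 * M 2 3 + M 3 1 * M 2 2 * M 1 3) := by
  have e : ∀ x : ZMod 2, -x = x := by decide
  rw [Matrix.det_succ_column_zero]
  simp only [Fin.sum_univ_succ, Fin.succ_zero_eq_one, Fin.succ_one_eq_two, Fin.reduceSucc, h1, h2, h3,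
    h4, mul_zero, zero_mul, add_zero, Finset.univ_eq_empty, Finset.sum_empty]
  rw [Matrix.det_succ_row _ 3]
  simp [Fin.sum_univ_succ, Matrix.det_fin_three, k1, k2, k3, Fin.succAbove, sub_eq_add_neg, e]
  ring

/-- the shape of the codes -/
def shp (c : ℕ) : Prop := c &&& 0xff0c30c3f = 0x10000001 ∧ c < 2 ^ 36

/-- spreading of sixteen bits -/
def emb (k : ℕ) : ℕ := Nat.lor (Nat.lor (Nat.lor (Nat.lor 0x10000001
  (Nat.shiftLeft (Nat.land k 15) 6)) (Nat.shiftLeft (Nat.land (Nat.shiftRight k 4) 15) 12))
  (Nat.shiftLeft (Nat.land (Nat.shiftRight k 8) 15) 18))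
  (Nat.shiftLeft (Nat.land (Nat.shiftRight k 12) 15) 24)

theorem emb_eq (k : ℕ) : emb k = 0x10000001 ||| ((k &&& 15) <<< 6) ||| (((k >>> 4) &&& 15) <<< 12) |||
  (((k >>> 8) &&& 15) <<< 18) ||| (((k >>> 12) &&& 15) <<< 24) := rfl

/-- the sixteen free bits -/
def ext (c : ℕ) : ℕ := ((c >>> 6) &&& 15) ||| (((c >>> 12) &&& 15) <<< 4) |||
  (((c >>> 18) &&& 15) <<< 8) ||| (((c >>> 24) &&& 15) <<< 12)

theorem ext_lt (c : ℕ) : ext c < 65536 := by
  have h : ∀ x, x &&& 15 < 16 := fun x => Nat.lt_succ_of_le Nat.and_le_right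
  refine Nat.or_lt_two_pow (n := 16) (Nat.or_lt_two_pow (Nat.or_lt_two_pow ?_ ?_) ?_) ?_
  all_goals try rw [Nat.shiftLeft_eq]
  · have := h (c >>> 6); omega
  · have := h (c >>> 12); omega
  · have := h (c >>> 18); omega
  · have := h (c >>> 24); omega

theorem emb_ext {c : ℕ} (h : shp c) : emb (ext c) = c := by
  apply Nat.eq_of_testBit_eq
  intro q
  have h1 := congrArg (·.testBit q) h.1
  have h15 : ∀ i, Nat.testBit 15 i = decide (i < 4) := fun i => Nat.testBit_two_pow_sub_one 4 i
  rcases Nat.lt_or_ge q 36 with hq | hq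
  · simp only [Nat.testBit_and] at h1
    simp only [emb_eq, ext, Nat.testBit_or, Nat.testBit_and, Nat.testBit_shiftLeft,
      Nat.testBit_shiftRight, h15]
    interval_cases q <;> simp at h1 ⊢ <;>
      first | exact h1 | (revert h1; generalize c.testBit _ = b; revert b; decide)
  · rw [Nat.testBit_eq_false_of_lt (lt_of_lt_of_le h.2 (Nat.pow_le_pow_right (by norm_num) hq))]
    apply Nat.testBit_eq_false_of_lt
    refine lt_of_lt_of_le ?_ (Nat.pow_le_pow_right (by norm_num) hq)
    have h : ∀ x, x &&& 15 < 16 := fun x => Nat.lt_succ_of_le Nat.and_le_right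
    rw [emb_eq]
    refine Nat.or_lt_two_pow (Nat.or_lt_two_pow (Nat.or_lt_two_pow (Nat.or_lt_two_pow
      (by norm_num) ?_) ?_) ?_) ?_
    all_goals rw [Nat.shiftLeft_eq]
    · have := h (ext c); omega
    · have := h (ext c >>> 4); omega
    · have := h (ext c >>> 8); omega
    · have := h (ext c >>> 12); omega

/-- middle blocks -/
def glt : ℕ := 0x1038c2811038c2011038c1811038c1011038a3011038a2011038a1811038a081103883011038828110388101103880811038630110386281103861011038608110384301103842011038418110384081103822811038220110382181103821011030e2811030e2011030e1811030e1011030a3811030a2011030a1011030a081103083811030828110308181103080811030638110306201103061011030608110304381103042811030418110304081103022811030220110302181103021011028e3011028e2011028e1811028e0811028c3811028c2011028c1011028c081102883811028830110288181102881011028638110286201102861011028608110284301102842011028418110284081102823811028230110282181102821011020e3011020e2811020e1011020e0811020c3811020c2811020c1811020c0811020a3811020a3011020a1811020a101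1020630110206281102061011020608110204381102042811020418110204081102023811020230110202181102021011018e3011018e2811018e1011018e0811018c3811018c2011018c1011018c0811018a3811018a2011018a1011018a0811018830110188281101881011018808110184381101843011018428110184201101823811018230110182281101822011010e3011010e2011010e1811010e0811010c3811010c2811010c1811010c0811010a3011010a2011010a1811010a0811010838110108281101081811010808110106381101063011010628110106201101023811010230110102281101022011008e2811008e2011008e1811008e1011008c2811008c2011008c1811008c1011008a3811008a3011008a1811008a101100883811008830110088181100881011008638110086301100862811008620110084381100843011008428110084201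
/-- positions of the middle blocks -/
def glp : ℕ := 0xa7a6a5a4000000a300a2a100a000009f9e00009d9c00009b9a000099980000970096950094000000939291900000000000000000000000008f8e8d8c000000000000000000008b00008a00898800870086008500840083000082008180007f007e007d007c0000007b7a7978000000000000000000000077007675007400730000720071700000000000000000006f6e00006d6c00006b00006a00696800006700666500640063620000616000000000000000000000005f5e00005d5c005b005a00590058005756000055540000000000000000000000535200005150004f004e004d004c004b4a0000494800000000000000000000004746000045440043000042004140003f00003e003d3c00003b3a00003938000000000000000000373635340000000033323130000000000000000000000000002f002e2d002c002b002a0029002800002700262500240023002200210020001f1e1d1c0000000000000000000000001b1a1918000000000000000000000000000017161514000000001312111000000f0e00000d0c00000b0a000009080000070605040000000003020100000000000000000000000000000000000000000000000000000000000000000000000000000000000000000000000000000000000000000000000000000000000000000000000000000000000000000000000000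
/-- inverses of the middle blocks -/
def gli : ℕ := 0x1038a301100863011028e301101823011038c2811008c1811028c3811018c081101062811010a181101023811010e0811030e2811030a3811030218110306081101842811008438110284181103840811018a1011008e1011028610110382101103863011008a3011018e30110282301103862811008a181102823811018e0811010c2811010c1811010c3811010c0811018e2811008a3811028218110386081103042811030438110304181103040811018e1011008a10110386101102821011038c1811008c2811018c3811028c0811038a18110086281101823811028e0811010a301101063011010e301101023011018a3811008e2811038218110286081101843811008428110384181102840811030a1011030e10110306101103021011020a18110206281102023811020e0811020c1811020c2811020c3811020c081102063011020a3011020e301102023011020a3811020e2811020218110206081102043811020428110204181102040811020e1011020a10110206101102021011030e18110306381103022811030a0811028e18110086381101822811038a081102863811008e181103822811018a081101063811010e181101022811010a081102843011018430110384301100843011028c1011038c1011018c1011008c101102881811008838110188281103880811030818110308381103082811030808110288381100881811038828110188081101083811010818110108281101080811018830110288301103883011008830110388101102881011018810110088101102862011008e2011018a201103822011028e201100862011038a20110182201103062011030e2011030a201103022011010e201101062011010a201101022011018c2011038c2011028c2011008c20110384201101842011028420110084201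

/-- the element with number `n` -/
def embH (n : ℕ) : ℕ := force n fun n =>
  Nat.lor (Nat.lor (Nat.lor (Nat.lor (ap 32 4294967295 glt (Nat.shiftRight n 7))
    (Nat.shiftLeft (Nat.land n 1) 6)) (Nat.shiftLeft (Nat.land n 2) 11))
    (Nat.shiftLeft (Nat.land n 4) 16)) (Nat.shiftLeft (Nat.land n 120) 21)

/-- the position of the middle block -/
def pos (c : ℕ) : ℕ := ap 8 255 glp (Nat.lor (Nat.lor (Nat.land (Nat.shiftRight c 7) 7)
  (Nat.land (Nat.shiftRight c 10) 56)) (Nat.land (Nat.shiftRight c 13) 448))

/-- the number of an element -/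
def extH (c : ℕ) : ℕ := force c fun c =>
  Nat.lor (Nat.lor (Nat.lor (Nat.lor (Nat.shiftLeft (pos c) 7) (Nat.land (Nat.shiftRight c 6) 1))
    (Nat.land (Nat.shiftRight c 11) 2)) (Nat.land (Nat.shiftRight c 16) 4))
    (Nat.land (Nat.shiftRight c 21) 120)

/-- test for the codes of the centraliser -/
def vH (c : ℕ) : Bool := force (extH c) fun n => band (Nat.blt n 21504) (Nat.beq (embH n) c)

/-- the inverse -/
def iv (c : ℕ) : ℕ := force c fun c => force (ap 32 4294967295 gli (pos c)) fun m =>
  force (m5 c m) fun u => m5 m (m5 u (m5 u u))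

/-- commuting codes -/
def cm (a b : ℕ) : Bool := force a fun a => force b fun b => Nat.beq (m5 a b) (m5 b a)

/-- check on all elements -/
def allH (P : ℕ → Bool) : Bool := allLt 21504 fun n => force (embH n) P
/-- count of elements -/
def cntH (P : ℕ → Bool) : ℕ := countLt 21504 fun n => force (embH n) P

theorem chkV1 : allLt 21504 (fun n => force (embH n) fun c => band (Nat.beq (extH c) n)
    (band (can2 5 c) (band (cm c zc) (band (det3 c) (band (Nat.beq (Nat.land c 0xff0c30c3f) 0x10000001)
      (band (vH (iv c)) (Nat.beq (m5 c (iv c)) one5))))))) = true := by decide +kernel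

theorem chkV2 : allLt 65536 (fun k => force (emb k) fun c => bimp (det3 c) (vH c)) = true := by
  decide +kernel

theorem vH_iff {c : ℕ} : vH c = true ↔ ∃ n, n < 21504 ∧ embH n = c := by
  simp only [vH, force_eq, band_eq, Bool.and_eq_true, blt_true_iff, beq_true_iff]
  refine ⟨fun h => ⟨_, h⟩, ?_⟩
  rintro ⟨n, hn, rfl⟩
  have := (allLt_iff _ _).1 chkV1 n hn
  simp only [force_eq, band_eq, Bool.and_eq_true, beq_true_iff] at this
  rw [this.1]; exact ⟨hn, rfl⟩

theorem vH_spec {c : ℕ} (h : vH c = true) : can2 5 c = true ∧ m5 c zc = m5 zc c ∧ det3 c = true ∧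
    c &&& 0xff0c30c3f = 0x10000001 ∧ vH (iv c) = true ∧ m5 c (iv c) = one5 := by
  obtain ⟨n, hn, rfl⟩ := vH_iff.1 h
  have := (allLt_iff _ _).1 chkV1 n hn
  simp only [force_eq, band_eq, Bool.and_eq_true, beq_true_iff, cm] at this
  exact this.2

theorem allH_spec {P : ℕ → Bool} (h : allH P = true) {c : ℕ} (hc : vH c = true) : P c = true := by
  obtain ⟨n, hn, rfl⟩ := vH_iff.1 hc
  simpa using (allLt_iff _ _).1 h n hn

theorem exists_cd {c : ℕ} (h : vH c = true) : ∃ g : SL5, cd g = c := by
  obtain ⟨h1, -, h3, h4, -⟩ := vH_spec h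
  obtain ⟨M, rfl⟩ := can2_sound (by norm_num) c h1
  have hb : ∀ q, bz ((mc2 5).code M) q * bz 0xff0c30c3f q = bz 0x10000001 q := fun q => by
    rw [← bz_and, h4]
  have e : ∀ i j : Fin 5, bz 0xff0c30c3f (6 * j + i) = 1 → M i j = bz 0x10000001 (6 * j + i) :=
    fun i j h => by rw [← hb, bz_mat M i j, h, mul_one]
  refine ⟨⟨M, ?_⟩, rfl⟩
  rw [det_shape M ((e 1 0 (by decide)).trans (by decide)) ((e 2 0 (by decide)).trans (by decide))
    ((e 3 0 (by decide)).trans (by decide)) ((e 4 0 (by decide)).trans (by decide))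
    ((e 4 1 (by decide)).trans (by decide)) ((e 4 2 (by decide)).trans (by decide))
    ((e 4 3 (by decide)).trans (by decide)), show M 0 0 = 1 from (e 0 0 (by decide)).trans (by decide),
    show M 4 4 = 1 from (e 4 4 (by decide)).trans (by decide), one_mul, one_mul]
  have := (det3_iff _).1 h3
  rw [← bz_mat M 1 1, ← bz_mat M 1 2, ← bz_mat M 1 3, ← bz_mat M 2 1, ← bz_mat M 2 2,
    ← bz_mat M 2 3, ← bz_mat M 3 1, ← bz_mat M 3 2, ← bz_mat M 3 3]
  exact this

/-- the central involution -/
def z5 : SL5 := ⟨Matrix.transvection 0 4 1, Matrix.det_transvection_of_ne _ _ (by decide) _⟩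

theorem cd_z5 : cd z5 = zc := by decide +kernel

/-- the centraliser -/
abbrev H0 : Type := centralizer ({z5} : Set SL5)

theorem vH_cd (g : H0) : vH (cd g) = true := by
  have hc : z5.1 * g.1.1 = g.1.1 * z5.1 :=
    congrArg Subtype.val (g.2 z5 (Set.mem_singleton _))
  set M := g.1.1 with hM
  have e : ∀ i j, (z5.1 * M) i j = (M * z5.1) i j := fun i j => by rw [hc]
  simp only [z5, Matrix.transvection, add_mul, mul_add, one_mul, mul_one, Matrix.add_apply,
    add_right_inj] at e
  have e1 : ∀ i, i ≠ 0 → M i 0 = 0 := fun i hi => by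
    have := e i 4
    rw [Matrix.single_mul_apply_of_ne (h := hi), Matrix.mul_single_apply_same, mul_one] at this
    exact this.symm
  have e2 : ∀ j, j ≠ 4 → M 4 j = 0 := fun j hj => by
    have := e 0 j
    rwa [Matrix.single_mul_apply_same, Matrix.mul_single_apply_of_ne (hbj := hj), one_mul] at this
  have hd := g.1.2
  rw [← hM, det_shape M (e1 1 (by decide)) (e1 2 (by decide)) (e1 3 (by decide)) (e1 4 (by decide))
    (e2 1 (by decide)) (e2 2 (by decide)) (e2 3 (by decide))] at hd
  obtain ⟨h0, h4, h3⟩ := (by decide : ∀ a b c : ZMod 2, a * b * c = 1 → a = 1 ∧ b = 1 ∧ c = 1) _ _ _ hd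
  have hs : shp (cd g) := by
    refine ⟨eq_of_bz fun q => ?_, mcode_lt (W := 1) (m := 6) (by norm_num) M⟩
    rw [bz_and]
    show bz ((mc2 5).code M) q * _ = _
    rcases Nat.lt_or_ge q 30 with hq | hq
    · by_cases h5 : q % 6 = 5
      · rw [bz_out M q (.inr h5), zero_mul]
        interval_cases q <;> first | rfl | omega
      · obtain ⟨i, j, rfl⟩ : ∃ i j : Fin 5, q = 6 * j + i :=
          ⟨⟨q % 6, by omega⟩, ⟨q / 6, by omega⟩, by simp only; omega⟩
        rw [bz_mat]
        rcases (by decide : ∀ i j : Fin 5, (bz 0xff0c30c3f (6 * j + i) = 0 ∧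
          bz 0x10000001 (6 * j + i) = 0) ∨ (bz 0xff0c30c3f (6 * j + i) = 1 ∧
          (((i = 0 ∧ j = 0) ∨ (i = 4 ∧ j = 4)) ∧ bz 0x10000001 (6 * j + i) = 1 ∨
          ((i ≠ 0 ∧ j = 0) ∨ (i = 4 ∧ j ≠ 4)) ∧ bz 0x10000001 (6 * j + i) = 0))) i j with
          ⟨a, b⟩ | ⟨a, ⟨⟨rfl, rfl⟩ | ⟨rfl, rfl⟩, b⟩ | ⟨⟨c, rfl⟩ | ⟨rfl, c⟩, b⟩⟩
        · rw [a, b, mul_zero]
        · rw [a, b, h0, mul_one]
        · rw [a, b, h4, mul_one]
        · rw [a, b, e1 _ c, mul_one]
        · rw [a, b, e2 _ c, mul_one]
    · rw [bz_out M q (.inl hq), zero_mul, bz, Nat.testBit_eq_false_of_lt]; · rfl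
      exact lt_of_lt_of_le (by norm_num) (Nat.pow_le_pow_right (by norm_num) hq)
  have := (allLt_iff _ _).1 chkV2 _ (ext_lt (cd g))
  rw [force_eq, emb_ext hs, bimp_iff] at this
  refine this ((det3_iff _).2 ?_)
  rw [← bz_mat M 1 1, ← bz_mat M 1 2, ← bz_mat M 1 3, ← bz_mat M 2 1, ← bz_mat M 2 2,
    ← bz_mat M 2 3, ← bz_mat M 3 1, ← bz_mat M 3 2, ← bz_mat M 3 3] at h3
  exact h3

open Classical in
/-- the element with a given code -/
def gH (c : ℕ) : H0 := if h : ∃ g : H0, cd g = c then h.choose else 1

theorem cd_gH {c : ℕ} (h : vH c = true) : cd (gH c) = c := by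
  have : ∃ g : H0, cd g = c := by
    obtain ⟨g, rfl⟩ := exists_cd h
    refine ⟨⟨g, mem_centralizer_singleton_iff.2 (cd_inj ?_)⟩, rfl⟩
    rw [cd_mul, cd_mul, cd_z5]; exact (vH_spec h).2.1
  rw [gH, dif_pos this]; exact this.choose_spec

theorem gH_cd (g : H0) : gH (cd g) = g := Subtype.ext (cd_inj (cd_gH (vH_cd g)))

attribute [irreducible] gH vH iv m5

theorem gH_mul {a b : ℕ} (ha : vH a = true) (hb : vH b = true) :
    vH (m5 a b) = true ∧ gH (m5 a b) = gH a * gH b := by
  have : m5 a b = cd (gH a * gH b : H0) := by rw [coe_mul, cd_mul, cd_gH ha, cd_gH hb]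
  rw [this]; exact ⟨vH_cd _, gH_cd _⟩

theorem gH_one : gH one5 = 1 := by rw [← cd_one]; exact gH_cd 1

/-- reflection in the antidiagonal -/
def fl (c : ℕ) : ℕ := evd 1 (6 * 6) fun q =>
  if q % 6 < 5 ∧ q / 6 < 5 then dgt 1 c (6 * (4 - q % 6) + (4 - q / 6)) else 0

/-- reflection of matrices -/
def flM (g : SL5) : SL5 := ⟨(g.1.submatrix Fin.revPerm Fin.revPerm).transpose, by
  rw [Matrix.det_transpose, Matrix.det_submatrix_equiv_self, g.2]⟩

theorem flM_mul (g h : SL5) : flM (g * h) = flM h * flM g := Subtype.ext (by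
  show ((g.1 * h.1).submatrix Fin.revPerm Fin.revPerm).transpose =
    (h.1.submatrix Fin.revPerm Fin.revPerm).transpose * (g.1.submatrix Fin.revPerm Fin.revPerm).transpose
  rw [← Matrix.transpose_mul, Matrix.submatrix_mul_equiv])

theorem flM_flM (g : SL5) : flM (flM g) = g := Subtype.ext (by ext i j; simp [flM])

theorem cd_flM (g : SL5) : cd (flM g) = fl (cd g) := by
  refine evd_congr fun q _ => ?_
  split_ifs with h
  · have := dgt_mcode (W := 1) (m := 6) (by norm_num) (by norm_num) g.1 (i := 4 - q / 6) (by omega)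
      (4 - q % 6)
    refine Eq.trans ?_ this.symm
    rw [ent, dif_pos h, ent, dif_pos ⟨by omega, by omega⟩]
    show (g.1 (Fin.rev ⟨q / 6, h.2⟩) (Fin.rev ⟨q % 6, h.1⟩)).val = _
    rw [show Fin.rev (⟨q / 6, h.2⟩ : Fin 5) = ⟨4 - q / 6, by omega⟩ from
      Fin.ext (by simp only [Fin.val_rev]; omega), show Fin.rev (⟨q % 6, h.1⟩ : Fin 5) =
      ⟨4 - q % 6, by omega⟩ from Fin.ext (by simp only [Fin.val_rev]; omega)]
  · rw [ent, dif_neg h]

theorem flM_one : flM 1 = 1 := cd_inj (by rw [cd_flM, cd_one]; decide +kernel)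

theorem flM_z5 : flM z5 = z5 := cd_inj (by rw [cd_flM, cd_z5]; decide +kernel)

theorem flM_inv (g : SL5) : flM g⁻¹ = (flM g)⁻¹ :=
  eq_inv_of_mul_eq_one_right (by rw [← flM_mul, inv_mul_cancel, flM_one])

/-- the graph automorphism -/
def τ : H0 →* H0 where
  toFun g := ⟨flM g⁻¹, mem_centralizer_singleton_iff.2 (by
    have := congrArg flM (mem_centralizer_singleton_iff.1 (inv_mem g.2))
    rw [flM_mul, flM_mul, flM_z5] at this
    exact this.symm)⟩
  map_one' := Subtype.ext (by simp [flM_one])
  map_mul' g h := Subtype.ext (by simp [flM_mul])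

theorem τ_τ (g : H0) : τ (τ g) = g := Subtype.ext (by
  show flM (flM g⁻¹)⁻¹ = g
  rw [← flM_inv, inv_inv, flM_flM])

/-- the graph automorphism on codes -/
def tau (c : ℕ) : ℕ := force (iv c) fl

theorem gH_inv {c d : ℕ} (h : vH c = true) (h1 : vH d = true) (h2 : m5 c d = one5) :
    1 = gH c * gH d := by
  have := (gH_mul h h1).2
  rw [h2, gH_one] at this
  exact this

theorem H0_inv {a b : H0} (h : 1 = a * b) : b = a⁻¹ := eq_inv_of_mul_eq_one_right h.symm

theorem gH_iv {c : ℕ} (h : vH c = true) : gH (iv c) = (gH c)⁻¹ :=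
  H0_inv (gH_inv h (vH_spec h).2.2.2.2.1 (vH_spec h).2.2.2.2.2)

theorem cd_τ (a : H0) : cd (τ a) = fl (cd (a⁻¹ : H0)) := cd_flM _

theorem τ_gH {c : ℕ} (h : vH c = true) : vH (tau c) = true ∧ τ (gH c) = gH (tau c) := by
  have : tau c = cd (τ (gH c)) := by
    rw [cd_τ, ← gH_iv h, cd_gH (vH_spec h).2.2.2.2.1, tau, force_eq]
  generalize τ (gH c) = a at this ⊢
  rw [this]; exact ⟨vH_cd a, (gH_cd a).symm⟩

attribute [irreducible] tau τ

end

end CfsgH9.Hd
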