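/-
Computations for the extension of the centraliser.
-/
import Cfsg.Agent.H9.HdF
import Cfsg.Agent.H9.HdK

set_option autoImplicit false
set_option maxRecDepth 100000

namespace CfsgH9.Hd

open CfsgH5 CfsgH6 CfsgH5.KT

noncomputable section

/-- a map of order three -/
def rr : ℕ := 0x912260408
/-- its inverse -/
def rr2 : ℕ := 0x102064489
/-- the exchange of the rows -/
def sw : ℕ := 0x102060408
/-- elements that induce all maps -/
def ycodes : List ℕ := [0x10108081, 0x10308081, 0x18108081, 0x18308081, 0x10204081, 0x10304081, 0x14204081, 0x14304081, 0x1020c081, 0x1010c081, 0x1c20c081, 0x1c10c081, 0x14108081, 0x1c308081, 0x1c108081, 0x14308081, 0x18204081, 0x1c304081, 0x1c204081, 0x18304081, 0x1820c081, 0x1410c081, 0x1420c081, 0x1810c081, 0x101080c1, 0x103080c1, 0x181080c1, 0x183080c1, 0x102040c1, 0x103040c1, 0x142040c1, 0x143040c1, 0x1020c0c1, 0x1010c0c1, 0x1c20c0c1, 0x1c10c0c1, 0x141080c1, 0x1c3080c1, 0x1c1080c1, 0x143080c1, 0x182040c1, 0x1c3040c1, 0x1c2040c1,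 0x183040c1, 0x1820c0c1, 0x1410c0c1, 0x1420c0c1, 0x1810c0c1]
/-- the map induced by a reflection -/
def mw : ℕ := 0x808404042
/-- the map induced by an element of order four -/
def mu4 : ℕ := 0x830604183
/-- generators of the complements -/
def kx (c i : ℕ) : ℕ := nthD [0x10304081, 0x18204081, 0x10108081, 0x10304081, 0x19205081, 0x10108081, 0x11304081, 0x18204081, 0x11108081, 0x11304081, 0x19205081, 0x11108081] one5 (Nat.add (Nat.mul 3 c) i)
/-- codes of the letters -/
def lc (x : ℕ) : ℕ := nthD [0x10204081, 0x11204081, 0x10244081, 0x12204081, 0x10284081, 0x10205081, 0x14204081, 0x10206081, 0x10304081, 0x102040c1, 0x18204081, 0x10108081, 0x10204081, 0x10204081, 0x10202101] one5 x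
/-- the graph symmetry on letters -/
def pi (x : ℕ) : ℕ := nthD [0, 1, 3, 2, 4, 6, 5, 8, 7, 10, 9, 14, 13, 12, 11] x x
/-- translation parts of the letters -/
def rk (c m x : ℕ) : ℕ := bif' (Nat.beq x 13) m (dg (nthD [0x200050802100, 0x5000206050802100, 0x100004200050802100, 0x105004206050802100] 0 c) x)
/-- linear parts of the letters -/
def rl (L x : ℕ) : ℕ := bif' (Nat.beq x 13) L (nthD [0x810204081, 0x810204081, 0x810204081, 0x810204081, 0x810204081, 0x810204081, 0x810a04085, 0x810204081, 0x810604083, 0x912244081, 0x830204181, 0x808404042, 0x102060408] id6 x)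
/-- linear part of the last reflection -/
def l4 (c : ℕ) : ℕ := nthD [0x420202101, 0x420202137, 0x420382101, 0x420382137] id6 c
/-- translation part of the last reflection -/
def m0 (c d : ℕ) : ℕ := bif' (Nat.beq c 0) (bif' (Nat.beq d 0) 0 48) (bif' (Nat.beq d 0) 7 19)
/-- the maps that fix the four-group -/
def gam : List ℕ := [0x18447690b, 0x1844f6919, 0x18457692f, 0x1845f693d, 0x23d541aaf, 0x23d741aae, 0x23d801a84, 0x23da01a85, 0x3c54beb50, 0x3c55feb7d, 0x3c563eb43, 0x3c577eb6e, 0x46e18bcf6, 0x46e5cbcfd, 0x46ea0bcc5, 0x46ee4bcce, 0x4b63d0c3e, 0x4b6750c2e, 0x4b6ad0c1e, 0x4b6e50c0e, 0x4fe199c76, 0x4fe559c6f, 0x4fead9c5e, 0x4fee19c47, 0x54e1afdf6, 0x54e22fdc1, 0x54e4efdd9, 0x54e76fdee, 0x5de1bdd76, 0x5de3fdd7e, 0x5de47dd4b, 0x5de63dd43, 0x62f3c3ebe, 0x62f5c3ebd, 0x62f803e84, 0x62fe03e87, 0x74722efc1, 0x7473eeffe, 0x7474aefd0, 0x74756efef, 0x810204081, 0x810604083, 0x810a04085, 0x810e04087, 0xa19205281, 0xa1944528b, 0xa19805284, 0xa19e4528e, 0xac149e250, 0xac14de259,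 0xac1e1e247, 0xac1e5e24e, 0xe0b4c7699, 0xe0b607683, 0xe0b807684, 0xe0bac769e, 0xe4344e6cb, 0xe4348e6d0, 0xe43a0e6c5, 0xe43ace6de]
/-- representatives of cosets -/
def rc : List ℕ := [0x10204081, 0x10108081, 0x10202101, 0x1010c081, 0x10088101, 0x10202181, 0x10102201, 0x1008a101, 0x10088181, 0x10084201, 0x10102281, 0x10102301, 0x1008a181, 0x10086201, 0x10084281, 0x10084301, 0x10102381, 0x10086281, 0x10086301, 0x10084381, 0x10086381]
/-- words for the representatives -/
def rw : List (List ℕ) := [[], [11], [14], [11, 8], [11, 14], [14, 7], [14, 11], [11, 8, 14], [11, 14, 7], [11, 14, 11], [14, 7, 11], [14, 11, 8], [11, 8, 14, 7], [11, 8, 14, 11], [11, 14, 7, 11], [11, 14, 11, 8], [14, 7, 11, 8], [11, 8, 14, 7, 11], [11, 8, 14, 11, 8], [11, 14, 7, 11, 8], [11, 14, 11, 8, 7]]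

theorem chkL : allL slist (fun s => allL slist fun t => allLt 64 fun d3 => force (ap6 s d3) fun d4 =>
    bimp (Nat.beq (Nat.xor (ap6 t d4) d4) 32) (allLt 64 fun d0 => force (ap6 s d0) fun d1 =>
      force (Nat.xor (ap6 t d1) d1) fun d2 => bor (Nat.beq d2 4) (force (pk d0 d1 d2 d3 d4 32) fun L =>
        bimp (band (Nat.beq (cmp L mw) (cmp s L)) (band (Nat.beq (cmp L mu4) (cmp t L))
          (allLt 64 fun k => bor (Nat.beq k 0) (bnot (Nat.beq (ap6 L k) 0)))))
        (anyL ycodes fun c => band (Nat.beq (cmp (mu c) L) rr) (band (vH c) (inP c)))))) = true := by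
  decide +kernel

/-- trivial if in the group of order 64 -/
def okw (c : ℕ) : Bool := force c fun c => bimp (inA c) (Nat.beq c one5)

theorem chkCoc : allLt 64 (fun j1 => force (m5 (a1 j1) x12) fun a => bimp (okw (sqr a))
    (allLt 64 fun j2 => force (m5 (a1 j2) x34) fun b => bimp (band (okw (sqr b)) (okw (sqr (m5 a b))))
    (allLt 64 fun j3 => force (m5 (a1 j3) x45) fun c => bimp (band (okw (sqr c))
      (band (okw (sqr (m5 a c))) (okw (sqr (sqr (m5 b c))))))
    (allLt 64 fun j4 => force (m5 (a1 j4) w3) fun d => bimp (band (okw (sqr d))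
      (band (okw (sqr (m5 a d))) (band (okw (m5 (m5 b d) (sqr (m5 b d))))
        (okw (m5 (cj d d c) (sqr (m5 b c)))))))
    (anyLt 64 fun k => force (a1 k) fun e => band (Nat.beq (cj e e a) x12) (anyLt 4 fun i =>
      band (Nat.beq (cj e e b) (kx i 0)) (band (Nat.beq (cj e e c) (kx i 1))
        (Nat.beq (cj e e d) (kx i 2))))))))) = true := by
  decide +kernel

theorem chkHat : allLt 4 (fun c => allIco 1 12 fun x => force (m5 (a1 (rk c 0 x)) (lc x)) fun e =>
    band (vH (lc x)) (band (inP e) (band (Nat.beq (mu e) (rl 0 x))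
      (meL [one5, x12, kx c 0, kx c 1, kx c 2, sqr (m5 (kx c 0) (kx c 1))] e)))) = true := by
  decide +kernel

/-- value of a word in affine maps -/
def evR (K L : ℕ → ℕ) (l : List ℕ) : (ℕ → ℕ → Bool) → Bool :=
  List.rec (motive := fun _ => (ℕ → ℕ → Bool) → Bool) (fun f => f 0 id6)
    (fun x _ ih f => ih fun k M => force (Nat.xor k (ap6 M (K x))) fun k' => force (cmp M (L x)) (f k')) l

/-- the word is trivial -/
def triv (K L : ℕ → ℕ) (l : List ℕ) : Bool := evR K L l fun k M => band (Nat.beq k 0) (Nat.beq M id6)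

/-- value of a word in codes -/
def evH (l : List ℕ) : ℕ := List.rec (motive := fun _ => ℕ) one5 (fun x _ ih => m5 ih (lc x)) l

/-- the letters are allowed -/
def av (X : ℕ) (l : List ℕ) : Bool := allL l (tb X)

/-- a word given by bits -/
def bw (l : List ℕ) : ℕ → List ℕ :=
  List.rec (motive := fun _ => ℕ → List ℕ) (fun _ => [])
    (fun x _ ih k => bif' (tb k 0) (x :: ih (Nat.shiftRight k 1)) (ih (Nat.shiftRight k 1))) l

/-- words for the group of order 64 -/
def aw (k : ℕ) : List ℕ := bw [5, 2, 1, 7, 4, 3] k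

theorem chkAw : allLt 64 (fun k => band (av 0x7fe (aw k)) (Nat.beq (evH (aw k)) (a1 k))) = true := by
  decide +kernel

theorem chkL4 : allLt 4 (fun c => allLt 6 fun i =>
    force (dg (l4 c) i) fun k => band (av 0x1ffe (([13] ++ aw (Nat.pow 2 i) ++ [13] ++ aw k).map pi))
      (triv (rk c 0) (rl 0) (([13] ++ aw (Nat.pow 2 i) ++ [13] ++ aw k).map pi))) = true := by
  decide +kernel

/-- words that determine the translation part -/
def bwd (d : ℕ) : List (List ℕ) := bif' (Nat.beq d 0) [[6, 13, 8, 13], [9, 13, 9, 13]]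
  [[13, 13], [9, 13, 9, 8, 6, 2, 1, 13]]

theorem chkM : allL [0, 3] (fun d => band (allL (bwd d) fun l => band (av 0x3ffe l)
    (band (av 0x1ffe (l.map pi)) (triv (rk d 0) (rl 0) (l.map pi))))
    (allL [0, 3] fun c => allLt 64 fun m => bimp (allL (bwd d) (triv (rk c m) (rl (l4 d))))
      (bor (Nat.beq m (m0 c d)) (Nat.beq m (Nat.xor (m0 c d) 6))))) = true := by
  decide +kernel

/-- words that relate the two translation parts -/
def pwd (c d : ℕ) : List ℕ := bif' (Nat.beq c 0)
  (bif' (Nat.beq d 0) [12, 13, 12, 13] [12, 13, 10, 2, 4, 8, 10, 12, 13])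
  (bif' (Nat.beq d 0) [13, 12, 9, 3, 4, 7, 9, 13, 12] [5, 6, 7, 12, 13, 12, 13, 8])

theorem chkP : allL [0, 3] (fun c => allL [0, 3] fun d => band (av 0x3ffe (pwd c d))
    (band (av 0x3ffe ((pwd c d).map pi)) (band (triv (rk c (m0 c d)) (rl (l4 d)) (pwd c d))
      (bnot (triv (rk d (Nat.xor (m0 d c) 6)) (rl (l4 c)) ((pwd c d).map pi)))))) = true := by
  decide +kernel

/-- check of a relator -/
def relb (c d : ℕ) (l : List ℕ) : Bool := bif' (av 0x4ffe l) (Nat.beq (evH l) one5)
  (bif' (av 0x3ffe l) (triv (rk c (m0 c d)) (rl (l4 d)) l)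
    (band (av 0x3ffe (l.map pi)) (triv (rk d (m0 d c)) (rl (l4 c)) (l.map pi))))

theorem chkTw : allT (fun c => force (exT c) fun j =>
    Nat.beq (evH (bw [9, 5, 7, 2, 4, 8, 1, 3, 6, 10] j)) c) = true := by decide +kernel

theorem chkRc : allH (fun c => anyL rc fun e => inT (m5 c e)) = true := by decide +kernel

theorem chkRw : allL rc (fun e => anyL rw fun l => Nat.beq (evH l) e) = true := by decide +kernel

/-- equal patterns on two cosets of the four-group -/
def pat (O d k : ℕ) : Bool := force d fun d => allL [0, 34, 52, 22] fun w =>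
  Nat.beq (bit O (Nat.xor d w)) (bit O (Nat.xor k w))

theorem chkCos : allL [o21, o45] (fun O => allLt 64 fun k => bor (meL [0, 34, 52, 22] k)
    (anyL [0, 34, 52, 22] fun w => tb O (Nat.xor k w))) = true := by decide +kernel

theorem chkGam : allLt 64 (fun d2 => bimp (pat o45 d2 4) (allLt 64 fun d1 =>
    bimp (band (pat o45 d1 2) (pat o45 (Nat.xor d1 d2) 6)) (allLt 64 fun d0 =>
    bimp (band (pat o45 d0 1) (band (pat o45 (Nat.xor d0 d2) 5) (pat o45 (Nat.xor d0 d1) 3)))
      (allLt 64 fun d3 => bimp (band (pat o45 d3 8) (band (pat o45 (Nat.xor d0 d3) 9)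
        (band (pat o45 (Nat.xor d2 d3) 12) (pat o45 (Nat.xor d1 d3) 10))))
      (meL gam (pk d0 d1 d2 d3 (Nat.xor (Nat.xor 22 d1) d2) (Nat.xor 34 d1))))))) = true := by
  decide +kernel

/-- maps of order two -/
def ord2 (M : ℕ) : Bool := force M fun M => band (bnot (Nat.beq M id6)) (Nat.beq (cmp M M) id6)

theorem chkPair : allL gam (fun L => bimp (anyL [0, 34, 52, 22] fun w => Nat.beq (ap6 L (Nat.xor 2 w)) 4)
    (allL gam fun M => bimp (anyL [0, 34, 52, 22] fun w => Nat.beq (ap6 M (Nat.xor 1 w)) 4)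
      (force (cmp L M) fun N => bor (ord2 M) (bor (ord2 N) (bor (ord2 (cmp L N)) (bor (ord2 (cmp N M))
        (bor (ord2 (cmp (cmp L N) M)) (ord2 (cmp (cmp L N) N))))))))) = true := by
  decide +kernel

end

end CfsgH9.Hd
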