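import Cfsg.Agent.H9.Lines
import Cfsg.Agent.H9.QuadMod

set_option autoImplicit false

namespace CfsgH9
open Cfsg

variable {G : Type*} [Group G] {S : Set (Subgroup G)} {A B C D E : Subgroup G}

theorem r1_of_rc_rc (hS : IsRootSubgroupSet S) (hA : A ∈ S) (hB : B ∈ S) (hD : D ∈ S)
    (h : RootCommutatorCase S A B) (e : ⁅D, ⁅A, B⁆⁆ = A) : IsRankOnePair B D := by
  by_contra hn
  have h' : RootCommutatorCase S D ⁅A, B⁆ := rc_of_commutator_mem hS hD h.1 (e.symm ▸ hA)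
  have hAD : Comm A D := e ▸ rc_comm_left h'
  obtain ⟨d, hd, hd1⟩ := rs_ex hS hD
  obtain ⟨b, hb, hb1⟩ := rs_ex hS hB
  have hBB := comm_cj_of_not_r1 hS hB hD hn hd
  have step1 : ∀ b' ∈ B, ∀ c ∈ ⁅A, B⁆, (d * b' * d⁻¹) * c * (d * b' * d⁻¹)⁻¹ ∈ ⁅A, B⁆ := by
    intro b' hb' c hc
    obtain ⟨a, ha, rfl⟩ := rc_surj' (rc_symm h) hb hb1 (by rwa [Subgroup.commutator_comm])
    have h1 : Commute b (d * b' * d⁻¹) := hBB b hb _ (conj_mem_cj hb')
    have hc' : b' * a * b'⁻¹ * a⁻¹ ∈ ⁅A, B⁆ := comm_mem' ha hb'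
    set c' := b' * a * b'⁻¹ * a⁻¹ with hc'def
    have ha' : d * c' * d⁻¹ * c'⁻¹ ∈ A := e ▸ comm_mem hd hc'
    set a' := d * c' * d⁻¹ * c'⁻¹ with ha'def
    have h2 : Commute a d := hAD a ha d hd
    have h3 : (d * b' * d⁻¹) * a * (d * b' * d⁻¹)⁻¹ = a' * a * c' := by
      calc _ = d * b' * (d⁻¹ * a) * d * b'⁻¹ * d⁻¹ := by group
        _ = d * b' * (a * d⁻¹) * d * b'⁻¹ * d⁻¹ := by rw [h2.inv_right.eq]
        _ = d * c' * (a * d⁻¹) := by rw [hc'def]; group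
        _ = a' * (c' * a) := by rw [h2.inv_right.eq, ha'def]; group
        _ = _ := by rw [rc_comm_left h c' hc' a ha]; group
    have h4 : Commute c' b := rc_comm_right h c' hc' b hb
    have h5 : (d * b' * d⁻¹) * (a * b * a⁻¹ * b⁻¹) * (d * b' * d⁻¹)⁻¹
        = (a' * a) * b * (a' * a)⁻¹ * b⁻¹ := by
      have hb' : (d * b' * d⁻¹) * b * (d * b' * d⁻¹)⁻¹ = b := by rw [← h1.eq]; group
      calc _ = ((d * b' * d⁻¹) * a * (d * b' * d⁻¹)⁻¹) * ((d * b' * d⁻¹) * b * (d * b' * d⁻¹)⁻¹) *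
          ((d * b' * d⁻¹) * a * (d * b' * d⁻¹)⁻¹)⁻¹ * ((d * b' * d⁻¹) * b * (d * b' * d⁻¹)⁻¹)⁻¹ := by group
        _ = a' * a * (c' * b) * c'⁻¹ * (a' * a)⁻¹ * b⁻¹ := by rw [h3, hb']; group
        _ = _ := by rw [h4.eq]; group
    rw [h5]
    exact comm_mem (A.mul_mem ha' ha) hb
  have step2 : ∀ c ∈ ⁅A, B⁆, d * c * d⁻¹ ∈ ⁅A, B⁆ := by
    intro c hc
    obtain ⟨a, ha, rfl⟩ := rc_surj (rc_symm h) hb hb1 (by rwa [Subgroup.commutator_comm])
    obtain ⟨c, hc', e1⟩ := rc_surj h' (D.inv_mem hd) (inv_ne_one.2 hd1) (e.symm ▸ ha)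
    have h1 := Subgroup.mul_mem _ (step1 b hb c hc') (Subgroup.inv_mem _ hc')
    have h4 : Commute c b := rc_comm_right h c hc' b hb
    convert h1 using 1
    rw [e1]
    calc _ = d * b * d⁻¹ * c * d * (c⁻¹ * b⁻¹) * c * d⁻¹ * c⁻¹ := by group
      _ = _ := by rw [h4.inv_inv.eq]; group
  apply rc_not_comm hS h
  refine (rc_comm_right h).mono (fun a ha => ?_) le_rfl
  obtain ⟨c, hc', rfl⟩ := rc_surj h' hd hd1 (e.symm ▸ ha)
  exact Subgroup.mul_mem _ (step2 c hc') (Subgroup.inv_mem _ hc')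

/-- a rank one pair acting on a line-type abelian subgroup is special -/
theorem special_of_line (hS : IsRootSubgroupSet S) (hA : A ∈ S) (hB : B ∈ S)
    (hr : IsRankOnePair A B) (hAC : Comm A C) (hC : C ∈ S) (h : RootCommutatorCase S B C)
    (e : ⁅A, ⁅B, C⁆⁆ = C) : IsSpecialRankOnePair A B := by
  have h' := rc_of_r1_comm_rc hS hA hB hr hAC h
  refine special_mk hr fun a ha ha1 b hb hb1 e1 => ?_
  obtain ⟨c, hc, hc1⟩ := rs_ex hS hC
  have hv : b * c * b⁻¹ * c⁻¹ ∈ ⁅B, C⁆ := comm_mem hb hc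
  set v := b * c * b⁻¹ * c⁻¹ with hvdef
  have hc₁ : a⁻¹ * v * a⁻¹⁻¹ * v⁻¹ ∈ C := e ▸ comm_mem (A.inv_mem ha) hv
  rw [inv_inv] at hc₁
  set c₁ := a⁻¹ * v * a * v⁻¹ with hc₁def
  have hac : Commute a c := hAC a ha c hc
  have hac₁ : Commute a c₁ := hAC a ha c₁ hc₁
  have hbv : Commute v b := rc_comm_left h v hv b hb
  have hcv : Commute v c := rc_comm_right h v hv c hc
  have hc₁v : Commute v c₁ := rc_comm_right h v hv c₁ hc₁
  -- `c₁ * c` commutes with `b`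
  have h1 : Commute (c₁ * c) b := by
    have h2 : a * b * a⁻¹ ∈ cj b A := e1 ▸ conj_mem_cj hb
    obtain ⟨a', ha', e2⟩ := mem_cj'.1 h2
    have h3 : Commute (a * b * a⁻¹) (v * c) := by
      rw [e2, hvdef]
      have := hAC a' ha' c hc
      change _ * _ = _ * _
      calc _ = b * (a' * c) * b⁻¹ := by group
        _ = _ := by rw [this]; group
    have h4 : v * (c₁ * c) = a⁻¹ * (v * c) * a := by
      calc _ = c₁ * v * c := by rw [← mul_assoc, hc₁v.eq]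
        _ = a⁻¹ * v * (a * c) := by rw [hc₁def]; group
        _ = _ := by rw [hac.eq]; group
    have h5 : Commute (v * (c₁ * c)) b := by
      rw [h4]
      change _ * _ = _ * _
      calc _ = a⁻¹ * ((v * c) * (a * b * a⁻¹)) * a := by group
        _ = _ := by rw [← h3.eq]; group
    have := hbv.inv_left.mul_left h5
    simpa using this
  have h6 : c₁ * c = 1 := rc_inj hS hB h ⟨A, hA, r1_symm hr⟩ hb (C.mul_mem hc₁ hc) hb1 h1.symm.eq
  have h7 : a * v * a⁻¹ = c * v := by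
    have h8 : c₁ = c⁻¹ := eq_inv_of_mul_eq_one_left h6
    have h9 : a⁻¹ * v * a = c⁻¹ * v := by rw [← h8, hc₁def]; group
    calc _ = a * (c * (c⁻¹ * v)) * a⁻¹ := by group
      _ = a * (c * (a⁻¹ * v * a)) * a⁻¹ := by rw [h9]
      _ = (a * c) * a⁻¹ * v := by group
      _ = _ := by rw [hac.eq]; group
  have h10 : a * b⁻¹ * c * (a * b⁻¹)⁻¹ = v⁻¹ := by
    have : b⁻¹ * c * b = v⁻¹ * c := by
      have : b * c * b⁻¹ = v * c := by rw [hvdef]; group
      calc _ = b⁻¹ * (v⁻¹ * (v * c)) * b := by group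
        _ = b⁻¹ * (v⁻¹ * (b * c * b⁻¹)) * b := by rw [this]
        _ = b⁻¹ * (v⁻¹ * b) * c := by group
        _ = _ := by rw [hbv.inv_left.eq]; group
    calc _ = a * (b⁻¹ * c * b) * a⁻¹ := by group
      _ = (a * v * a⁻¹)⁻¹ * (a * c) * a⁻¹ := by rw [this]; group
      _ = _ := by rw [h7, hac.eq]; group
  have hD : cj a B ∈ Om A B := cj_mem_Om (Subgroup.mem_sup_left ha) (right_mem_Om hr)
  have hx : (a * b⁻¹ * a⁻¹)⁻¹ * (b * a * b⁻¹) ∈ cj a B :=
    Subgroup.mul_mem _ (Subgroup.inv_mem _ (conj_mem_cj (B.inv_mem hb))) (e1 ▸ conj_mem_cj ha)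
  set x := (a * b⁻¹ * a⁻¹)⁻¹ * (b * a * b⁻¹) with hxdef
  have hxc : x * c = c * x := by
    rw [← mul_inv_eq_iff_eq_mul]
    calc _ = (a * b⁻¹ * a⁻¹)⁻¹ * (b * (a * b⁻¹ * c * (a * b⁻¹)⁻¹) * b⁻¹) * (a * b⁻¹ * a⁻¹) := by
          rw [hxdef]; group
      _ = (a * b⁻¹ * a⁻¹)⁻¹ * (a * b⁻¹ * c * (a * b⁻¹)⁻¹) * (a * b⁻¹ * a⁻¹) := by
          rw [h10, ← hbv.inv_left.eq]; group
      _ = a * (c * a⁻¹) := by group
      _ = c := by rw [← hac.inv_left.eq]; group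
  by_contra hne
  have hx1 : x ≠ 1 := fun e => hne (inv_mul_eq_one.1 e).symm
  have hne2 : A ≠ cj x A := by
    intro e3
    have := eq_of_fix_Om hr hD left_mem_Om hx hx1 e3.symm
    rw [cj_eq_iff, cj_of_mem (A.inv_mem ha)] at this
    exact hr.ne this.symm
  have hsup := sup_eq_of_mem_Om hr left_mem_Om (cj_mem_Om (le_of_mem_Om hD hx) left_mem_Om) hne2
  have hcomm := comm_of_mem_sup (A := A) (B := cj x A) (z := c) (fun y hy => (hAC y hy c hc).symm)
    (fun y hy => by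
      obtain ⟨y, hy', rfl⟩ := mem_cj'.1 hy
      have h1 : Commute c x := hxc.symm
      have h2 : Commute c y := (hAC y hy' c hc).symm
      exact (h1.mul_right h2).mul_right h1.inv_right) b (hsup ▸ Subgroup.mem_sup_right hb)
  exact hc1 (rc_inj hS hB h ⟨A, hA, r1_symm hr⟩ hb hc hb1 hcomm.symm)

theorem nd_ni (hS : IsRootSubgroupClass S) (hnd : IsNondegenerateRootSet S) : ∀ A ∈ S, NI S A :=
  fun _ hA => class_ni hS hnd.2.1 hA

theorem nd_exists_line (hS : IsRootSubgroupClass S) (hni : ∀ A ∈ S, NI S A)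
    (hex : ∃ A ∈ S, ∃ B ∈ S, RootCommutatorCase S A B) (hA : A ∈ S) (hB : B ∈ S)
    (hr : IsRankOnePair A B) :
    ∃ C ∈ linePartners S A, RootCommutatorCase S B C ∧ ⁅A, ⁅B, C⁆⁆ = C := by
  obtain ⟨D, hD⟩ := class_line_ex hS hni hex hA
  obtain ⟨C, hC, -, h⟩ := exists_rc_on_line hS.1 hA hB hr hD
  exact ⟨C, hC, h⟩

/-- in the commutator case there is an opposite of `A` commuting with `C` -/
theorem rc_exists_r1_comm (hS : IsRootSubgroupSet S) (hni : ∀ A ∈ S, NI S A) (hA : A ∈ S) (hC : C ∈ S)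
    (h : RootCommutatorCase S A C) : ∃ F ∈ S, IsRankOnePair A F ∧ Comm F C := by
  obtain ⟨E', hE', hr⟩ := hni _ h.1
  have hl : C ∈ linePartners S ⁅A, C⁆ := by
    have := rc_line hS hC (rc_symm h) (hni C hC)
    rw [Subgroup.commutator_comm] at this
    exact line_symm hC this
  obtain ⟨C', hC', hsup, h1, h2⟩ := exists_rc_on_line hS h.1 hE' hr hl
  have hle : C' ≤ C ⊔ ⁅C, A⁆ := by
    rw [sup_comm, Subgroup.commutator_comm, ← hsup]; exact le_sup_right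
  rcases rc_members hS hC (rc_symm h) (hni C hC) hC'.1.1 hle with ⟨a, ha, rfl⟩ | e
  swap
  · exact absurd (e.trans (Subgroup.commutator_comm _ _)) hC'.1.2.1
  have h3 := rc_cj hS h1 a⁻¹
  have h4 := congrArg (cj a⁻¹) h2
  rw [cj_commutator, cj_commutator, cj_commutator, cj_inv_cj, cj_of_mem (A.inv_mem ha)] at h4
  rw [cj_inv_cj] at h3
  have h5 : cj a⁻¹ ⁅A, C⁆ = ⁅A, C⁆ := (rc_comm_left h).symm.cj_eq (A.inv_mem ha)
  rw [cj_commutator, cj_of_mem (A.inv_mem ha)] at h5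
  rw [h5] at h4
  refine ⟨_, h3.1, ?_, rc_comm_right h3⟩
  refine r1_of_rc_rc hS hC hA h3.1 (rc_symm h) ?_
  rw [Subgroup.commutator_comm, Subgroup.commutator_comm C A, h4]

/-- the symmetric comparison argument -/
theorem preorder_symm {R : Subgroup G → Subgroup G → Prop}
    (htrans : ∀ {X Y Z}, R X Y → R Y Z → R X Z) (hcj : ∀ {X Y} (g : G), R X Y → R (cj g X) (cj g Y))
    (hcomm : ∀ g : G, R B (cj g B) → Comm B (cj g B))
    (hAB : IsRankOnePair A B) (hCB : IsRankOnePair C B) (hAC : Comm A C) (h : R A C) : R C A := by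
  have key : ∀ a ∈ A, a ≠ 1 → ∃ b ∈ B, ∃ c ∈ C, cj b A = cj a B ∧ cj b C = cj c B ∧ R B (cj (a⁻¹ * c) B) := by
    intro a ha ha1
    obtain ⟨b, hb, hb1, e1⟩ := r1_ex hAB ha ha1
    obtain ⟨c, hc, -, e2⟩ := r1_ex (r1_symm hCB) hb hb1
    refine ⟨b, hb, c, hc, e1, e2.symm, ?_⟩
    have := hcj a⁻¹ (hcj b h)
    rwa [e1, ← e2, cj_inv_cj, cj_cj] at this
  obtain ⟨a, ha, ha1⟩ := r1_ex_ne_one hAB
  obtain ⟨b, hb, c, hc, e1, e2, h1⟩ := key a ha ha1
  obtain ⟨b', hb', c', hc', -, -, h2⟩ := key a⁻¹ (A.inv_mem ha) (inv_ne_one.2 ha1)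
  rw [inv_inv] at h2
  have h3 := htrans h1 (hcj (a⁻¹ * c) h2)
  rw [cj_cj, show a⁻¹ * c * (a * c') = a⁻¹ * (c * a) * c' by group, ← hAC a ha c hc,
    inv_mul_cancel_left] at h3
  have h4 : c * c' = 1 := by
    by_contra hne
    exact r1_not_comm (r1_cj_self (r1_symm hCB) (C.mul_mem hc hc') hne) (hcomm _ h3)
  have h5 := hcj c h2
  rw [cj_cj, ← mul_assoc, ← hAC a ha c hc, mul_assoc, h4, mul_one, ← e1, ← e2] at h5
  simpa using hcj b⁻¹ h5

theorem mem_centralizingMembers : D ∈ centralizingMembers S A ↔ D ∈ S ∧ Comm D A := by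
  unfold centralizingMembers
  rw [comm_iff_le_centralizer]; rfl

theorem centralizingMembers_subset_cj (hS : IsRootSubgroupSet S) (g : G)
    (h : centralizingMembers S A ⊆ centralizingMembers S C) :
    centralizingMembers S (cj g A) ⊆ centralizingMembers S (cj g C) := by
  intro D hD
  rw [mem_centralizingMembers] at hD ⊢
  refine ⟨hD.1, ?_⟩
  have := h (mem_centralizingMembers.2 ⟨rs_cj hS hD.1 g⁻¹, by simpa using hD.2.cj g⁻¹⟩)
  simpa using (mem_centralizingMembers.1 this).2.cj g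

theorem centralizingMembers_eq_of_subset (hS : IsRootSubgroupClass S) (hniC : NI S C)
    (hA : A ∈ S) (hC : C ∈ S) (h : centralizingMembers S A ⊆ centralizingMembers S C) :
    centralizingMembers S A = centralizingMembers S C := by
  refine Set.Subset.antisymm h ?_
  obtain ⟨B, hB, hr⟩ := hniC
  have hAC : Comm A C :=
    (mem_centralizingMembers.1 (h (mem_centralizingMembers.2 ⟨hA, rs_comm_self hS.1 hA⟩))).2
  have hAB : IsRankOnePair A B := by
    rcases rs_pair hS.1 hB hA with h1 | h1 | h1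
    · exact absurd (mem_centralizingMembers.1 (h (mem_centralizingMembers.2 ⟨hB, h1⟩))).2.symm
        (r1_not_comm hr)
    · exact r1_symm h1
    · exfalso
      have h2 := (mem_centralizingMembers.1 (h (mem_centralizingMembers.2 ⟨h1.1, rc_comm_right h1⟩))).2
      exact wl_not_comm hS.1 hB hC h1.1 (r1_symm hr)
        (wl_of_line hS.1 hB (rc_line hS.1 hB h1 ⟨C, hC, r1_symm hr⟩)) h2.symm
  exact preorder_symm (R := fun X Y => centralizingMembers S X ⊆ centralizingMembers S Y)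
    (fun h1 h2 => h1.trans h2) (fun g h => centralizingMembers_subset_cj hS.1 g h)
    (fun g h => (mem_centralizingMembers.1
      (h (mem_centralizingMembers.2 ⟨hB, rs_comm_self hS.1 hB⟩))).2) hAB hr hAC h

/-- reachability in the line graph -/
abbrev ER (S : Set (Subgroup G)) (A B : Subgroup G) : Prop := Relation.ReflTransGen (EAdj S S) A B

theorem ER.symm (h : ER S A B) : ER S B A := by
  induction h with
  | refl => exact Relation.ReflTransGen.refl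
  | tail _ h2 ih => exact Relation.ReflTransGen.head ⟨h2.2.1, h2.1, line_symm h2.1 h2.2.2⟩ ih

theorem line_cj (hS : IsRootSubgroupSet S) (h : C ∈ linePartners S A) (g : G) :
    cj g C ∈ linePartners S (cj g A) := by
  rw [mem_linePartners] at h ⊢
  refine ⟨rs_cj hS h.1 g, fun e => h.2.1 (cj_inj.1 e), h.2.2.1.cj g, fun D hD => hD.2, ?_, ?_⟩
  · intro x hx hx1
    rw [← cj_sup] at hx
    obtain ⟨y, hy, rfl⟩ := mem_cj'.1 hx
    obtain ⟨D, hD, hyD⟩ := h.2.2.2.2.1 y hy (by rintro rfl; simp at hx1)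
    exact ⟨cj g D, ⟨rs_cj hS hD.1 g, by rw [← cj_sup]; exact cj_le_cj.2 hD.2⟩, conj_mem_cj hyD⟩
  · intro D hD E hE hne
    have hD2 := hD.2
    have hE2 := hE.2
    rw [← cj_sup, ← cj_le_cj (g := g⁻¹), cj_inv_cj] at hD2 hE2
    have := h.2.2.2.2.2 _ ⟨rs_cj hS hD.1 g⁻¹, hD2⟩ _ ⟨rs_cj hS hE.1 g⁻¹, hE2⟩ (fun e => hne (cj_inj.1 e))
    rwa [← cj_inf, cj_eq_bot_iff] at this

theorem ER.cj (hS : IsRootSubgroupSet S) (h : ER S A B) (g : G) : ER S (cj g A) (cj g B) := by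
  induction h with
  | refl => exact Relation.ReflTransGen.refl
  | tail _ h2 ih => exact ih.tail ⟨rs_cj hS h2.1 g, rs_cj hS h2.2.1 g, line_cj hS h2.2.2 g⟩

theorem er_single (hA : A ∈ S) (h : C ∈ linePartners S A) : ER S A C :=
  Relation.ReflTransGen.single ⟨hA, h.1.1, h⟩

theorem nd_er_connected (hS : IsRootSubgroupClass S) (hnd : IsNondegenerateRootSet S) :
    IsConnectedFamily (EAdj S S) S := by
  have key : ∀ A ∈ S, ∀ g, ER S A (cj g A) := by
    intro A hA g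
    refine rel_cj_all hS.1 (R := ER S) Relation.ReflTransGen.refl ER.symm Relation.ReflTransGen.trans
      (fun g h => h.cj hS.1 g) (fun E hE e he => ?_) g
    by_cases he1 : e = 1
    · simp only [he1, cj_one]; exact Relation.ReflTransGen.refl
    rcases rs_pair hS.1 hA hE with h | h | h
    · rw [h.symm.cj_eq he]
    · obtain ⟨C, hC, h1, -⟩ := nd_exists_line hS (nd_ni hS hnd) hnd.2.2 hA hE h
      have h2 := er_single hC.1.1 (cj_mem_line hS.1 hC.1.1 (rc_symm h1) (nd_ni hS hnd _ hC.1.1) he he1)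
      exact ((er_single hA hC).trans h2).trans ((er_single hA hC).cj hS.1 e).symm
    · exact er_single hA (cj_mem_line hS.1 hA h (nd_ni hS hnd _ hA) he he1)
  intro A hA B hB
  obtain ⟨g, rfl⟩ := hS.2.2 A hA B hB
  exact key A hA g

theorem nd_generated (hS : IsRootSubgroupClass S) (hnd : IsNondegenerateRootSet S) (hA : A ∈ S)
    (hB : B ∈ S) (hr : IsRankOnePair A B) {U : Subgroup G} (hU : ∀ C ∈ linePartners S A, C ≤ U)
    (hBU : B ≤ U) : ∀ D ∈ S, ∃ u ∈ U, D = cj u A := by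
  have hni := nd_ni hS hnd
  have step : ∀ D ∈ linePartners S A, ∃ u ∈ U, D = cj u A := by
    intro D hD
    obtain ⟨C, hC, hsup, h1, h2⟩ := exists_rc_on_line hS.1 hA hB hr hD
    have hF : ⁅B, C⁆ ≤ U := (Subgroup.commutator_le_sup B C).trans (sup_le hBU (hU C hC))
    have hAC := (mem_linePartners.1 hC).2.2.1
    have h3 : ∀ E ∈ S, E ≤ A ⊔ C → E ≠ C → ∃ u ∈ U, E = cj u A := fun E hE hle hne => by
      obtain ⟨f, hf, e, -⟩ := r1_of_mem_line hS.1 hA hB hr hAC h1 h2 hE hle hne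
      exact ⟨f, hF hf, e⟩
    by_cases hDC : D = C
    swap
    · exact h3 D hD.1.1 (hsup ▸ le_sup_right) hDC
    subst hDC
    obtain ⟨D', hD', hrD⟩ := hni D hD.1.1
    obtain ⟨C₂, hC₂, hsup₂, h4, h5⟩ := exists_rc_on_line hS.1 hD.1.1 hD' hrD (line_symm hA hD)
    obtain ⟨u, hu, rfl⟩ := h3 C₂ hC₂.1.1 (by rw [sup_comm, ← hsup₂]; exact le_sup_right) hC₂.1.2.1
    have hDC₂ := (mem_linePartners.1 hC₂).2.2.1
    have h6 := rc_of_r1_comm_rc hS.1 hD.1.1 hD' hrD hDC₂ h4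
    have h7 := rc_line hS.1 h4.1 (rc_symm h6) (hni _ h4.1)
    rw [Subgroup.commutator_comm _ D, h5] at h7
    have h8 := line_cj hS.1 (line_symm h4.1 h7) u⁻¹
    rw [cj_inv_cj] at h8
    have hF₂ : ⁅D', cj u A⁆ ≤ U := by
      have := cj_le_of_mem hu (hU _ h8)
      simpa using this
    obtain ⟨P, hP, hle, hP1, hP2⟩ := line_third hD.1.1 hS.1 hC₂
    obtain ⟨f, hf, e, -⟩ := r1_of_mem_line hS.1 hD.1.1 hD' hrD hDC₂ h4 h5 hP hle hP2
    obtain ⟨u', hu', e'⟩ := h3 P hP (by rw [sup_comm, ← hsup₂]; exact hle) hP1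
    refine ⟨f⁻¹ * u', U.mul_mem (U.inv_mem (hF₂ hf)) hu', ?_⟩
    rw [← cj_cj, ← e', e]; simp
  intro D hD
  have := nd_er_connected hS hnd A hA D hD
  induction this with
  | refl => exact ⟨1, U.one_mem, by simp⟩
  | tail _ h2 ih =>
    obtain ⟨u, hu, rfl⟩ := ih h2.1
    have := line_cj hS.1 h2.2.2 u⁻¹
    rw [cj_inv_cj] at this
    obtain ⟨u', hu', e⟩ := step _ this
    exact ⟨u * u', U.mul_mem hu hu', by rw [← cj_cj, ← e]; simp⟩

end CfsgH9
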