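import Cfsg.Agent.H9.QComp
import Cfsg.Agent.H9.Lines2

set_option autoImplicit false

namespace CfsgH9
open Cfsg
open scoped MatrixGroups

variable {k A Γ : Type*} [Field k] [Ring A] [Algebra k A] [Group Γ]

variable (k) in
/-- the one parameter subgroup `1 + k s` inside `Γ` -/
def RG (ρ : Γ →* A) (s : A) : Subgroup Γ where
  carrier := {g | ∃ c : k, ρ g = 1 + c • s ∧ (c • s) * s = 0}
  one_mem' := ⟨0, by simp, by simp⟩
  mul_mem' := by
    rintro g h ⟨c, h1, h2⟩ ⟨d, h3, h4⟩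
    refine ⟨c + d, ?_, by rw [add_smul, add_mul, h2, h4, add_zero]⟩
    rw [map_mul, h1, h3, add_mul, mul_add, mul_add, mul_smul_comm d (c • s), h2, add_smul]
    simp only [one_mul, mul_one, smul_zero, add_zero]
    abel
  inv_mem' := by
    rintro g ⟨c, h1, h2⟩
    refine ⟨-c, ?_, by rw [neg_smul, neg_mul, h2, neg_zero]⟩
    have h3 : ρ g * (1 + (-c) • s) = 1 := by
      rw [h1, add_mul, mul_add, mul_add, mul_smul_comm (-c) (c • s), h2]
      simp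
    calc ρ g⁻¹ = ρ g⁻¹ * (ρ g * (1 + (-c) • s)) := by rw [h3, mul_one]
      _ = _ := by rw [← mul_assoc, ← map_mul, inv_mul_cancel, map_one, one_mul]

variable {ρ : Γ →* A}

theorem mem_RG {s : A} (hs : s * s = 0) {g : Γ} : g ∈ RG k ρ s ↔ ∃ c : k, ρ g = 1 + c • s :=
  ⟨fun ⟨c, h, _⟩ => ⟨c, h⟩, fun ⟨c, h⟩ => ⟨c, h, by rw [smul_mul_assoc, hs, smul_zero]⟩⟩

theorem RG_smul {s : A} (hs : s * s = 0) {c : k} (hc : c ≠ 0) : RG k ρ (c • s) = RG k ρ s := by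
  ext g
  rw [mem_RG hs, mem_RG (smul_sq hs c)]
  constructor
  · rintro ⟨d, h⟩; exact ⟨d * c, by rw [h, mul_smul]⟩
  · rintro ⟨d, h⟩; exact ⟨d * c⁻¹, by rw [h, smul_smul, mul_assoc, inv_mul_cancel₀ hc, mul_one]⟩

theorem rho_mul_inv (g : Γ) : ρ g * ρ g⁻¹ = 1 := by rw [← map_mul, mul_inv_cancel, map_one]
theorem rho_inv_mul (g : Γ) : ρ g⁻¹ * ρ g = 1 := by rw [← map_mul, inv_mul_cancel, map_one]

theorem conj_sq {s : A} (hs : s * s = 0) (g : Γ) : (ρ g * s * ρ g⁻¹) * (ρ g * s * ρ g⁻¹) = 0 := by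
  calc _ = ρ g * s * (ρ g⁻¹ * ρ g) * s * ρ g⁻¹ := by simp only [mul_assoc]
    _ = 0 := by rw [rho_inv_mul, mul_one, mul_assoc (ρ g), hs, mul_zero, zero_mul]

theorem cj_RG {s : A} (hs : s * s = 0) (g : Γ) : cj g (RG k ρ s) = RG k ρ (ρ g * s * ρ g⁻¹) := by
  ext x
  rw [mem_cj, mem_RG hs, mem_RG (conj_sq hs g)]
  refine exists_congr fun c => ⟨fun h => ?_, fun h => ?_⟩
  · have : x = g * (g⁻¹ * x * g) * g⁻¹ := by group
    rw [this, map_mul, map_mul, h, mul_add, add_mul, mul_one, rho_mul_inv, mul_smul_comm, smul_mul_assoc]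
  · rw [map_mul, map_mul, h, mul_add, add_mul, mul_one, rho_inv_mul, mul_smul_comm, smul_mul_assoc]
    congr 2
    calc _ = (ρ g⁻¹ * ρ g) * s * (ρ g⁻¹ * ρ g) := by simp only [mul_assoc]
      _ = s := by rw [rho_inv_mul, one_mul, mul_one]

theorem rho_inv_eq {s : A} (hs : s * s = 0) {g : Γ} {c : k} (h : ρ g = 1 + c • s) : ρ g⁻¹ = 1 - c • s := by
  have h3 : ρ g * (1 - c • s) = 1 := by
    rw [h, add_mul, mul_sub, mul_sub, smul_sq hs]
    simp
  calc ρ g⁻¹ = ρ g⁻¹ * (ρ g * (1 - c • s)) := by rw [h3, mul_one]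
    _ = _ := by rw [← mul_assoc, rho_inv_mul, one_mul]

theorem comm_RG (hρ : Function.Injective ρ) {s t : A} (hs : s * s = 0) (ht : t * t = 0) (h : s * t = t * s) :
    Comm (RG k ρ s) (RG k ρ t) := by
  intro a ha b hb
  obtain ⟨c, hc⟩ := (mem_RG hs).1 ha
  obtain ⟨d, hd⟩ := (mem_RG ht).1 hb
  apply hρ
  rw [map_mul, map_mul, hc, hd]
  simp only [mul_add, add_mul, one_mul, mul_one, smul_mul_assoc, mul_smul_comm, h]
  module

theorem rho_comm {s t : A} (hs : s * s = 0) (ht : t * t = 0) (h1 : s * t * s = 0) (h2 : t * s * t = 0)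
    {a b : Γ} {c d : k} (ha : ρ a = 1 + c • s) (hb : ρ b = 1 + d • t) :
    ρ (a * b * a⁻¹ * b⁻¹) = 1 + (c * d) • (s * t - t * s) := by
  have := uS_comm (smul_sq hs c) (smul_sq ht d)
    (by simp only [smul_mul_assoc, mul_smul_comm, h1, smul_zero])
    (by simp only [smul_mul_assoc, mul_smul_comm, h2, smul_zero])
  rw [map_mul, map_mul, map_mul, rho_inv_eq hs ha, rho_inv_eq ht hb, ha, hb]
  rw [Units.val_mul, Units.val_mul, Units.val_mul, inv_val_of_sq rfl (smul_sq hs c),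
    inv_val_of_sq rfl (smul_sq ht d)] at this
  refine this.trans ?_
  simp only [smul_mul_assoc, mul_smul_comm, smul_smul, smul_sub, mul_comm d c]

/-- the representation of `SL₂(k)` attached to a standard pair -/
def Std.Psi {s t : A} (h : Std s t) : SL(2, k) →* A where
  toFun g := 1 - (s * t + t * s) + (g.1 0 0 • (s * t) + g.1 0 1 • s + g.1 1 0 • t + g.1 1 1 • (t * s))
  map_one' := by simp
  map_mul' g g' := by
    have h1 : ∀ x, s * (s * x) = 0 := fun x => by rw [← mul_assoc, h.ss, zero_mul]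
    have h2 : ∀ x, t * (t * x) = 0 := fun x => by rw [← mul_assoc, h.tt, zero_mul]
    have h3 : ∀ x, s * (t * (s * x)) = s * x := fun x => by rw [← mul_assoc, ← mul_assoc, h.sts]
    have h4 : ∀ x, t * (s * (t * x)) = t * x := fun x => by rw [← mul_assoc, ← mul_assoc, h.tst]
    have h5 : s * (t * s) = s := by rw [← mul_assoc, h.sts]
    have h6 : t * (s * t) = t := by rw [← mul_assoc, h.tst]
    simp only [sl2_mul_apply, mul_add, add_mul, mul_sub, sub_mul, one_mul, mul_one, smul_mul_assoc,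
      mul_smul_comm, mul_assoc, h1, h2, h3, h4, h5, h6, h.ss, h.tt, mul_zero, smul_zero]
    module

theorem Std.Psi_xU {s t : A} (h : Std s t) (c : k) : h.Psi (xU c) = 1 + c • s := by
  simp [Std.Psi]; abel

theorem Std.Psi_xL {s t : A} (h : Std s t) (c : k) : h.Psi (xL c) = 1 + c • t := by
  simp [Std.Psi]; abel

theorem Std.Psi_eq_one {s t : A} (h : Std s t) {g : SL(2, k)} (e : h.Psi g = 1) : g = 1 := by
  have h1 : ∀ x, s * (s * x) = 0 := fun x => by rw [← mul_assoc, h.ss, zero_mul]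
  have h2 : ∀ x, t * (t * x) = 0 := fun x => by rw [← mul_assoc, h.tt, zero_mul]
  have h3 : ∀ x, s * (t * (s * x)) = s * x := fun x => by rw [← mul_assoc, ← mul_assoc, h.sts]
  have h5 : s * (t * s) = s := by rw [← mul_assoc, h.sts]
  have key : ∀ c : k, c • s = 0 → c = 0 := fun c hc => (smul_eq_zero.1 hc).resolve_right h.ne
  have e' : 1 - (s * t + t * s) + (g.1 0 0 • (s * t) + g.1 0 1 • s + g.1 1 0 • t + g.1 1 1 • (t * s)) = 1 := e
  have e1 := congrArg (fun x => s * x * s) e'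
  have e2 := congrArg (fun x => x * s) e'
  have e3 := congrArg (fun x => s * t * x * (t * s)) e'
  have e4 := congrArg (fun x => s * x * (t * s)) e'
  simp only [mul_add, add_mul, mul_sub, sub_mul, one_mul, mul_one, smul_mul_assoc,
      mul_smul_comm, mul_assoc, h1, h2, h3, h5, h.ss, h.tt, mul_zero, smul_zero, zero_add, add_zero,
      sub_zero, sub_self] at e1 e2 e3 e4
  have a1 := key _ e1
  have a2 := key _ e3
  rw [a1, zero_smul, add_zero] at e2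
  have a3 := key (g.1 0 0 - 1) (by rw [sub_smul, e2, one_smul, sub_self])
  have a4 := key (g.1 1 1 - 1) (by rw [sub_smul, e4, one_smul, sub_self])
  apply sl2_ext
  · simpa using sub_eq_zero.1 a3
  · simpa using a2
  · simpa using a1
  · simpa using sub_eq_zero.1 a4

theorem Std.psl2 (hρ : Function.Injective ρ) {s t : A} (h : Std s t)
    (hs : ∀ c : k, ∃ g, ρ g = 1 + c • s) (ht : ∀ c : k, ∃ g, ρ g = 1 + c • t) :
    IsPSL2PairOver k (RG k ρ s) (RG k ρ t) ∧ IsSpecialRankOnePair (RG k ρ s) (RG k ρ t) ∧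
      IsRankOnePair (RG k ρ s) (RG k ρ t) := by
  have hex : ∀ g : SL(2, k), ∃ x, ρ x = h.Psi g := by
    refine sl2_induction _ (fun c => ?_) (fun c => ?_) ?_
    · rw [h.Psi_xU]; exact hs c
    · rw [h.Psi_xL]; exact ht c
    · rintro a b ⟨x, hx⟩ ⟨y, hy⟩
      exact ⟨x * y, by rw [map_mul, map_mul, hx, hy]⟩
  choose f hf using hex
  let φ : SL(2, k) →* Γ := MonoidHom.mk' f fun a b => hρ (by rw [map_mul, hf, hf, hf, map_mul])
  have hφ : ∀ g, ρ (φ g) = h.Psi g := hf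
  have hinj : Function.Injective φ := (injective_iff_map_eq_one φ).2 fun g hg =>
    h.Psi_eq_one (by rw [← hφ, hg, map_one])
  have hU : (UU k).map φ = RG k ρ s := by
    ext x
    rw [mem_RG h.ss]
    constructor
    · rintro ⟨_, hg, rfl⟩
      obtain ⟨c, rfl⟩ := mem_UU.1 hg
      exact ⟨c, by rw [hφ, h.Psi_xU]⟩
    · rintro ⟨c, hc⟩
      exact ⟨xU c, mem_UU.2 ⟨c, rfl⟩, hρ (by rw [hφ, h.Psi_xU, hc])⟩
  have hL : (LL k).map φ = RG k ρ t := by
    ext x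
    rw [mem_RG h.tt]
    constructor
    · rintro ⟨_, hg, rfl⟩
      obtain ⟨c, rfl⟩ := mem_LL.1 hg
      exact ⟨c, by rw [hφ, h.Psi_xL]⟩
    · rintro ⟨c, hc⟩
      exact ⟨xL c, mem_LL.2 ⟨c, rfl⟩, hρ (by rw [hφ, h.Psi_xL, hc])⟩
  have hr : IsRankOnePair (RG k ρ s) (RG k ρ t) := by
    rw [← hU, ← hL]
    exact r1_map_of_injective φ hinj special_UU_LL.1
  refine ⟨⟨φ, ?_, ?_, by rw [upper_eq, hU], by rw [lower_eq, hL]⟩, ⟨hr, ?_⟩, hr⟩
  · rw [← hU, ← hL, ← Subgroup.map_sup, UU_sup_LL, MonoidHom.range_eq_map]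
  · rw [(MonoidHom.ker_eq_bot_iff φ).2 hinj]; exact bot_le
  · rw [← hU, ← hL]
    rintro _ ⟨a, ha, rfl⟩ ha1 _ ⟨b, hb, rfl⟩ hb1 e
    have := special_UU_LL.2 a ha (fun e => ha1 (by rw [e, map_one])) b hb (fun e => hb1 (by rw [e, map_one]))
      (Subgroup.map_injective hinj (by
        rw [conjBy_eq, conjBy_eq, map_cj, map_cj, map_inv, map_inv]; exact e))
    simpa using congrArg φ this

variable (k ρ) in
/-- a linear family of root elements -/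
structure LinFam (S : Set A) : Prop where
  inj : Function.Injective ρ
  sq : ∀ s ∈ S, s * s = 0
  ne : ∀ s ∈ S, s ≠ 0
  ex : ∀ s ∈ S, ∀ c : k, ∃ g, ρ g = 1 + c • s
  conj : ∀ s ∈ S, ∀ g : Γ, ρ g * s * ρ g⁻¹ ∈ S
  pair : ∀ s ∈ S, ∀ t ∈ S, s * t = t * s ∨ (∃ c : k, c ≠ 0 ∧ s * t * s = c • s ∧ t * s * t = c • t) ∨
    (s * t * s = 0 ∧ t * s * t = 0 ∧ ∃ c : k, c ≠ 0 ∧ c • (s * t - t * s) ∈ S)

namespace LinFam
variable {S : Set A} (h : LinFam k ρ S)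
include h

theorem opp {s t : A} (hs : s ∈ S) (ht : t ∈ S) {c : k} (hc : c ≠ 0) (h1 : s * t * s = c • s)
    (h2 : t * s * t = c • t) :
    IsPSL2PairOver k (RG k ρ s) (RG k ρ t) ∧ IsSpecialRankOnePair (RG k ρ s) (RG k ρ t) ∧
      IsRankOnePair (RG k ρ s) (RG k ρ t) := by
  have hstd : Std s (c⁻¹ • t) := by
    refine ⟨h.sq s hs, smul_sq (h.sq t ht) _, ?_, ?_, h.ne s hs⟩
    · rw [mul_smul_comm, smul_mul_assoc, h1, smul_smul, inv_mul_cancel₀ hc, one_smul]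
    · rw [smul_mul_assoc, smul_mul_assoc, mul_smul_comm, h2, smul_smul c⁻¹ c, inv_mul_cancel₀ hc, one_smul]
  have := hstd.psl2 h.inj (h.ex s hs) fun d => by
    obtain ⟨g, hg⟩ := h.ex t ht (d * c⁻¹)
    exact ⟨g, by rw [hg, mul_smul]⟩
  rwa [RG_smul (h.sq t ht) (inv_ne_zero hc)] at this

theorem eq_one_iff {s : A} (hs : s ∈ S) {g : Γ} {c : k} (hg : ρ g = 1 + c • s) : g = 1 ↔ c = 0 := by
  constructor
  · rintro rfl
    rw [map_one, left_eq_add] at hg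
    exact (smul_eq_zero.1 hg).resolve_right (h.ne s hs)
  · rintro rfl
    exact h.inj (by simpa using hg)

theorem rc {s t : A} (hs : s ∈ S) (ht : t ∈ S) (h1 : s * t * s = 0) (h2 : t * s * t = 0) {c : k} (hc : c ≠ 0)
    (h3 : c • (s * t - t * s) ∈ S) :
    RootCommutatorCase (RG k ρ '' S) (RG k ρ s) (RG k ρ t) := by
  have hss := h.sq s hs
  have htt := h.sq t ht
  have huu : (s * t - t * s) * (s * t - t * s) = 0 := by
    have := h.sq _ h3
    rw [smul_mul_assoc, mul_smul_comm, smul_smul] at this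
    exact (smul_eq_zero.1 this).resolve_left (mul_ne_zero hc hc)
  have hsurj : ∀ {a : Γ} {x : k}, ρ a = 1 + x • s → x ≠ 0 → ∀ z ∈ RG k ρ (s * t - t * s),
      ∃ b ∈ RG k ρ t, z = a * b * a⁻¹ * b⁻¹ := by
    intro a x ha hx z hz
    obtain ⟨y, hy⟩ := (mem_RG huu).1 hz
    obtain ⟨b, hb⟩ := h.ex t ht (x⁻¹ * y)
    refine ⟨b, (mem_RG htt).2 ⟨_, hb⟩, h.inj ?_⟩
    rw [rho_comm hss htt h1 h2 ha hb, hy, mul_inv_cancel_left₀ hx]
  have hC : ⁅RG k ρ s, RG k ρ t⁆ = RG k ρ (s * t - t * s) := by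
    apply le_antisymm
    · rw [Subgroup.commutator_le]
      intro a ha b hb
      obtain ⟨x, hx⟩ := (mem_RG hss).1 ha
      obtain ⟨y, hy⟩ := (mem_RG htt).1 hb
      exact (mem_RG huu).2 ⟨_, rho_comm hss htt h1 h2 hx hy⟩
    · intro z hz
      obtain ⟨a, ha⟩ := h.ex s hs 1
      obtain ⟨b, hb, rfl⟩ := hsurj ha one_ne_zero z hz
      exact comm_mem ((mem_RG hss).2 ⟨_, ha⟩) hb
  refine rc_mk ⟨_, h3, by rw [hC, RG_smul huu hc]⟩ ?_ ?_ ?_ ?_
  · rw [hC]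
    refine comm_RG h.inj huu hss ?_
    rw [sub_mul, mul_sub, h1, mul_assoc t s s, ← mul_assoc s s t, ← mul_assoc s t s, hss, h1]; simp
  · rw [hC]
    refine comm_RG h.inj huu htt ?_
    rw [sub_mul, mul_sub, h2, mul_assoc s t t, ← mul_assoc t t s, ← mul_assoc t s t, htt, h2]; simp
  · intro a ha ha1 z hz
    obtain ⟨x, hx⟩ := (mem_RG hss).1 ha
    exact hsurj hx (fun e => ha1 ((h.eq_one_iff hs hx).2 e)) z (hC ▸ hz)
  · intro b hb hb1 z hz
    obtain ⟨y, hy⟩ := (mem_RG htt).1 hb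
    have hy0 : y ≠ 0 := fun e => hb1 ((h.eq_one_iff ht hy).2 e)
    rw [hC] at hz
    obtain ⟨w, hw⟩ := (mem_RG huu).1 hz
    obtain ⟨a, ha⟩ := h.ex s hs (w * y⁻¹)
    refine ⟨a, (mem_RG hss).2 ⟨_, ha⟩, h.inj ?_⟩
    rw [rho_comm hss htt h1 h2 ha hy, hw, inv_mul_cancel_right₀ hy0]

theorem ne_bot {s : A} (hs : s ∈ S) : RG k ρ s ≠ ⊥ := by
  obtain ⟨a, ha⟩ := h.ex s hs 1
  intro e
  have : a ∈ RG k ρ s := (mem_RG (h.sq s hs)).2 ⟨_, ha⟩
  rw [e, Subgroup.mem_bot] at this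
  exact one_ne_zero ((h.eq_one_iff hs ha).1 this)

theorem rootSet (hgen : (⨆ B ∈ RG k ρ '' S, B) = ⊤) : IsRootSubgroupSet (RG k ρ '' S) := by
  refine ⟨?_, ?_, hgen, ?_, ?_⟩
  · rintro _ ⟨s, hs, rfl⟩
    exact comm_self_iff.1 (comm_RG h.inj (h.sq s hs) (h.sq s hs) rfl)
  · rintro _ ⟨s, hs, rfl⟩
    exact h.ne_bot hs
  · rintro _ ⟨s, hs, rfl⟩ g
    exact ⟨_, h.conj s hs g, (cj_RG (h.sq s hs) g).symm⟩
  · rintro _ ⟨s, hs, rfl⟩ _ ⟨t, ht, rfl⟩
    rcases h.pair s hs t ht with h1 | ⟨c, hc, h1, h2⟩ | ⟨h1, h2, c, hc, h3⟩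
    · exact Or.inl (comm_iff.1 (comm_RG h.inj (h.sq s hs) (h.sq t ht) h1))
    · exact Or.inr (Or.inl (h.opp hs ht hc h1 h2).2.2)
    · exact Or.inr (Or.inr (h.rc hs ht h1 h2 hc h3))

theorem kRootSet (hgen : (⨆ B ∈ RG k ρ '' S, B) = ⊤) : IsKRootSubgroupSet k (RG k ρ '' S) := by
  refine ⟨h.rootSet hgen, ?_⟩
  rintro _ ⟨s, hs, rfl⟩ _ ⟨t, ht, rfl⟩ hr
  rcases h.pair s hs t ht with h1 | ⟨c, hc, h1, h2⟩ | ⟨h1, h2, c, hc, h3⟩
  · exact absurd (comm_RG h.inj (h.sq s hs) (h.sq t ht) h1) (r1_not_comm hr)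
  · exact (h.opp hs ht hc h1 h2).1
  · exact absurd hr (rc_not_r1 (h.rootSet hgen) ⟨s, hs, rfl⟩ (h.rc hs ht h1 h2 hc h3))

theorem degenerate (hgen : (⨆ B ∈ RG k ρ '' S, B) = ⊤)
    (hp : ∀ s ∈ S, ∀ t ∈ S, s * t = t * s ∨ (∃ c : k, c ≠ 0 ∧ s * t * s = c • s ∧ t * s * t = c • t)) :
    IsDegenerateRootSet (RG k ρ '' S) := by
  rintro _ ⟨s, hs, rfl⟩ _ ⟨t, ht, rfl⟩ hr
  rcases hp s hs t ht with h1 | ⟨c, hc, h1, h2⟩
  · exact rc_not_comm (h.rootSet hgen) hr (comm_RG h.inj (h.sq s hs) (h.sq t ht) h1)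
  · exact rc_not_r1 (h.rootSet hgen) ⟨s, hs, rfl⟩ hr (h.opp hs ht hc h1 h2).2.2

/-- restriction to the generated subgroup -/
theorem restrict : LinFam k (ρ.comp (⨆ B ∈ RG k ρ '' S, B).subtype) S where
  inj := h.inj.comp Subtype.val_injective
  sq := h.sq
  ne := h.ne
  ex s hs c := by
    obtain ⟨g, hg⟩ := h.ex s hs c
    exact ⟨⟨g, le_biSup_self (S := RG k ρ '' S) ⟨s, hs, rfl⟩ ((mem_RG (h.sq s hs)).2 ⟨c, hg⟩)⟩, hg⟩
  conj s hs g := h.conj s hs g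
  pair := h.pair

end LinFam

theorem RG_restrict (K : Subgroup Γ) (s : A) : RG k (ρ.comp K.subtype) s = (RG k ρ s).subgroupOf K := rfl

theorem image_RG_restrict (K : Subgroup Γ) (S : Set A) :
    RG k (ρ.comp K.subtype) '' S = (fun B : Subgroup Γ => B.subgroupOf K) '' (RG k ρ '' S) := by
  rw [Set.image_image]; rfl

theorem iSup_restrict (T : Set (Subgroup Γ)) :
    (⨆ B ∈ (fun B : Subgroup Γ => B.subgroupOf (⨆ C ∈ T, C)) '' T, B) = ⊤ := by
  apply Subgroup.map_injective (Subgroup.subtype_injective _)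
  rw [iSup_image, ← MonoidHom.range_eq_map, Subgroup.range_subtype]
  simp only [Subgroup.map_iSup]
  exact biSup_congr fun A hA => Subgroup.map_subgroupOf_eq_of_le (le_biSup_self hA)

theorem exists_two_ne_zero {V : Type*} [AddCommGroup V] {M N : Type*} [AddCommGroup M] [AddCommGroup N]
    (f : V →+ M) (g : V →+ N) {W : AddSubgroup V} (ha : ∃ a ∈ W, f a ≠ 0) (hb : ∃ b ∈ W, g b ≠ 0) :
    ∃ w ∈ W, f w ≠ 0 ∧ g w ≠ 0 := by
  obtain ⟨a, haW, ha⟩ := ha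
  obtain ⟨b, hbW, hb⟩ := hb
  by_cases h1 : g a = 0
  · by_cases h2 : f b = 0
    · exact ⟨a + b, W.add_mem haW hbW, by simpa [h2] using ha, by simpa [h1] using hb⟩
    · exact ⟨b, hbW, h2, hb⟩
  · exact ⟨a, haW, ha, h1⟩

end CfsgH9
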