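import Cfsg.Agent.H9.Root

set_option autoImplicit false

namespace CfsgH9
open Cfsg

variable {G : Type*} [Group G] {S : Set (Subgroup G)} {A B C D E : Subgroup G}

theorem rc_of_r1_comm_rc (hS : IsRootSubgroupSet S) (hA : A ∈ S) (hB : B ∈ S)
    (hr : IsRankOnePair A B) (hAC : Comm A C) (h : RootCommutatorCase S B C) :
    RootCommutatorCase S A ⁅B, C⁆ := by
  obtain ⟨b, hb, hb1⟩ := rs_ex hS hB
  obtain ⟨f, hf, hf1⟩ := rs_ex hS h.1
  obtain ⟨c, hc, e⟩ := rc_mul_mem_cj h hb hb1 hf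
  rcases rs_pair hS hA h.1 with h1 | h1 | h1
  · exfalso
    refine hf1 (eq_one_of_central_translate hS hB hA (rs_cj hS hB c) (r1_symm hr) hb hb1
      (rc_comm_left h f hf) (h1.symm f hf) (by rw [e]; exact conj_mem_cj hb) ?_)
    rw [e]; simpa using hb1
  · exfalso
    apply r1_not_comm (r1_cj_self h1 hf hf1)
    obtain ⟨a, ha, -, e1⟩ := r1_ex (r1_symm hr) hb hb1
    have h2 := rc_cj hS h a
    rw [hAC.cj_eq ha] at h2
    have h3 := rc_comm_cj hS (rs_cj hS hB a) h2 hc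
    rw [e1, cj_cj, show c * b = (c * b * c⁻¹) * c by group, ← e,
      cj_mul_of_fix _ (hAC.symm.cj_eq hc), rc_comm_left h f hf b hb, ← cj_cj, comm_cj_iff] at h3
    exact h3
  · exact h1

/-- weak line condition -/
def WL (S : Set (Subgroup G)) (A C : Subgroup G) : Prop :=
  Comm A C ∧ ∀ a ∈ A, a ≠ 1 → ∀ c ∈ C, c ≠ 1 → c * a ≠ 1 ∧ ∃ E ∈ S, c * a ∈ E

theorem wl_commutator_eq (hS : IsRootSubgroupSet S) (hA : A ∈ S) (hB : B ∈ S) (hC : C ∈ S)
    (hr : IsRankOnePair A B) (hw : WL S A C) (h : RootCommutatorCase S B C) : ⁅A, ⁅B, C⁆⁆ = C := by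
  have hAC := hw.1
  have h' := rc_of_r1_comm_rc hS hA hB hr hAC h
  refine (eq_of_le_commutator hS hA h' ⟨B, hB, hr⟩ hC fun c hc => ?_).symm
  by_cases hc1 : c = 1
  · rw [hc1]; exact Subgroup.one_mem _
  obtain ⟨b, hb, hb1⟩ := rs_ex hS hB
  obtain ⟨a, ha, ha1, e1⟩ := r1_ex (r1_symm hr) hb hb1
  have hf : b * c * b⁻¹ * c⁻¹ ∈ ⁅B, C⁆ := comm_mem hb hc
  set f := b * c * b⁻¹ * c⁻¹ with hfdef
  have hc₁ : a⁻¹ * f * a⁻¹⁻¹ * f⁻¹ ∈ ⁅A, ⁅B, C⁆⁆ := comm_mem (A.inv_mem ha) hf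
  rw [inv_inv] at hc₁
  set c₁ := a⁻¹ * f * a * f⁻¹ with hc₁def
  have hzA : ∀ x ∈ A, c₁ * c * x = x * (c₁ * c) := fun x hx => by
    rw [mul_assoc, ← hAC x hx c hc, ← mul_assoc, rc_comm_left h' c₁ hc₁ x hx, mul_assoc]
  have hzF : ∀ x ∈ ⁅B, C⁆, c₁ * c * x = x * (c₁ * c) := fun x hx => by
    rw [mul_assoc, ← rc_comm_right h x hx c hc, ← mul_assoc, rc_comm_right h' c₁ hc₁ x hx, mul_assoc]
  have hzB : ∀ x ∈ B, c₁ * c * x = x * (c₁ * c) := fun x hx => by
    have h1 : a * x * a⁻¹ ∈ cj b A := e1 ▸ conj_mem_cj hx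
    obtain ⟨a', ha', e2⟩ := mem_cj'.1 h1
    have h2 : (a * x * a⁻¹) * (f * c) = (f * c) * (a * x * a⁻¹) := by
      rw [e2, hfdef]
      calc _ = b * (a' * c) * b⁻¹ := by group
        _ = b * (c * a') * b⁻¹ := by rw [hAC a' ha' c hc]
        _ = _ := by group
    have h3 : a⁻¹ * (f * c) * a = f * (c₁ * c) := by
      calc _ = a⁻¹ * f * (c * a) := by group
        _ = a⁻¹ * f * (a * c) := by rw [hAC a ha c hc]
        _ = (c₁ * f) * c := by rw [hc₁def]; group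
        _ = _ := by rw [rc_comm_right h' c₁ hc₁ f hf, mul_assoc]
    have h4 : x * (f * (c₁ * c)) = (f * (c₁ * c)) * x := by
      rw [← h3]
      calc _ = a⁻¹ * ((a * x * a⁻¹) * (f * c)) * a := by group
        _ = _ := by rw [h2]; group
    rw [← mul_assoc x f, ← rc_comm_left h f hf x hx, mul_assoc, mul_assoc f, mul_right_inj] at h4
    exact h4.symm
  obtain ⟨f', hf', e3⟩ := rc_mul_mem_cj h' ha ha1 (Subgroup.inv_mem _ hc₁)
  obtain ⟨hne, E, hE, hmem⟩ := hw.2 a ha ha1 c hc hc1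
  have hr' := r1_cj hr f'
  rw [(rc_comm_left h).cj_eq hf'] at hr'
  have e4 : c₁ * c * (f' * a * f'⁻¹) = c * a := by
    rw [← e3]
    have := hzA a ha
    have h5 := rc_comm_left h' c₁ hc₁ a ha
    calc c₁ * c * (c₁⁻¹ * a) = c₁ * c * (a * c₁⁻¹) := by
          congr 1; rw [eq_mul_inv_iff_mul_eq, mul_assoc, ← h5]; group
      _ = a * (c₁ * c) * c₁⁻¹ := by rw [← this]; group
      _ = a * c₁ * c * c₁⁻¹ := by group
      _ = c * a := by
          have h6 : c₁ * c = c * c₁ := by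
            rw [hc₁def]
            have h7 := rc_comm_right h f hf c hc
            have h8 := hAC a ha c hc
            have h7' : Commute f c := h7
            have h8' : Commute a c := h8
            exact ((h8'.inv_left.mul_left h7').mul_left h8').mul_left h7'.inv_left
          rw [mul_assoc a, h6, ← hAC a ha c hc]; group
  have hz := eq_one_of_central_translate hS (rs_cj hS hA f') hB hE hr' (conj_mem_cj ha)
    (by simpa using ha1) (z := c₁ * c) (fun x hx => by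
      obtain ⟨y, hy, rfl⟩ := mem_cj'.1 hx
      have h1 : Commute (c₁ * c) y := hzA y hy
      have h2 : Commute (c₁ * c) f' := hzF f' hf'
      exact (h2.mul_right h1).mul_right h2.inv_right) hzB (by rw [e4]; exact hmem) (by rw [e4]; exact hne)
  rw [mul_eq_one_iff_inv_eq] at hz
  rw [← hz]; exact Subgroup.inv_mem _ hc₁

theorem wl_not_comm (hS : IsRootSubgroupSet S) (hA : A ∈ S) (hB : B ∈ S) (hC : C ∈ S)
    (hr : IsRankOnePair A B) (hw : WL S A C) : ¬ Comm B C := by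
  intro hc
  obtain ⟨a, ha, ha1⟩ := rs_ex hS hA
  obtain ⟨c, hcC, hc1⟩ := rs_ex hS hC
  obtain ⟨hne, E, hE, hmem⟩ := hw.2 a ha ha1 c hcC hc1
  exact hc1 (eq_one_of_central_translate hS hA hB hE hr ha ha1 (hw.1.symm c hcC) (hc.symm c hcC) hmem hne)

theorem wl_dichotomy (hS : IsRootSubgroupSet S) (hA : A ∈ S) (hB : B ∈ S) (hC : C ∈ S)
    (hr : IsRankOnePair A B) (hw : WL S A C) :
    IsRankOnePair B C ∨ (RootCommutatorCase S B C ∧ ⁅A, ⁅B, C⁆⁆ = C) := by
  rcases rs_pair hS hB hC with h | h | h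
  · exact absurd h (wl_not_comm hS hA hB hC hr hw)
  · exact Or.inl h
  · exact Or.inr ⟨h, wl_commutator_eq hS hA hB hC hr hw h⟩

theorem line_comm_sup (hS : IsRootSubgroupSet S) (hA : A ∈ S) (h : C ∈ linePartners S A) :
    Comm (A ⊔ C) (A ⊔ C) := by
  rw [mem_linePartners] at h
  exact ((rs_comm_self hS hA).sup_right h.2.2.1).sup_left
    (h.2.2.1.symm.sup_right (rs_comm_self hS h.1))

theorem wl_of_mem_line (hS : IsRootSubgroupSet S) (hA : A ∈ S) (h : C ∈ linePartners S A)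
    (hD : D ∈ S) (hDle : D ≤ A ⊔ C) (hE : E ∈ S) (hEle : E ≤ A ⊔ C) (hne : D ≠ E) : WL S D E := by
  refine ⟨(line_comm_sup hS hA h).mono hDle hEle, fun a ha ha1 c hc hc1 => ?_⟩
  rw [mem_linePartners] at h
  have hne' : c * a ≠ 1 := by
    intro e
    rw [mul_eq_one_iff_eq_inv] at e
    have : c ∈ D ⊓ E := ⟨e ▸ D.inv_mem ha, hc⟩
    rw [h.2.2.2.2.2 D ⟨hD, hDle⟩ E ⟨hE, hEle⟩ hne] at this
    exact hc1 this
  obtain ⟨F, hF, hm⟩ := h.2.2.2.2.1 _ (Subgroup.mul_mem _ (hEle hc) (hDle ha)) hne'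
  exact ⟨hne', F, hF.1, hm⟩

theorem wl_of_line (hS : IsRootSubgroupSet S) (hA : A ∈ S) (h : C ∈ linePartners S A) : WL S A C :=
  wl_of_mem_line hS hA h hA le_sup_left h.1.1 le_sup_right h.1.2.1.symm

/-- all points of the line other than `C` are opposite to `B` -/
theorem r1_of_mem_line (hS : IsRootSubgroupSet S) (hA : A ∈ S) (hB : B ∈ S)
    (hr : IsRankOnePair A B) (hAC : Comm A C) (h : RootCommutatorCase S B C) (e : ⁅A, ⁅B, C⁆⁆ = C)
    (hE : E ∈ S) (hle : E ≤ A ⊔ C) (hne : E ≠ C) : ∃ f ∈ ⁅B, C⁆, E = cj f A ∧ IsRankOnePair E B := by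
  have h' := rc_of_r1_comm_rc hS hA hB hr hAC h
  rcases rc_members hS hA h' ⟨B, hB, hr⟩ hE (by rwa [e]) with ⟨f, hf, rfl⟩ | e'
  · refine ⟨f, hf, rfl, ?_⟩
    have := r1_cj hr f
    rwa [(rc_comm_left h).cj_eq hf] at this
  · exact absurd (e'.trans e) hne

theorem line_third (hA : A ∈ S) (hS : IsRootSubgroupSet S) (h : C ∈ linePartners S A) :
    ∃ E ∈ S, E ≤ A ⊔ C ∧ E ≠ A ∧ E ≠ C := by
  obtain ⟨a, ha, ha1⟩ := rs_ex hS hA
  obtain ⟨c, hc, hc1⟩ := rs_ex hS h.1.1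
  have hw := wl_of_line hS hA h
  have h' := mem_linePartners.1 h
  obtain ⟨E, hE, hm⟩ := h'.2.2.2.2.1 (c * a)
    (Subgroup.mul_mem _ (Subgroup.mem_sup_right hc) (Subgroup.mem_sup_left ha)) (hw.2 a ha ha1 c hc hc1).1
  have hbot := h'.2.2.2.2.2 A ⟨hA, le_sup_left⟩ C ⟨h'.1, le_sup_right⟩ h'.2.1.symm
  refine ⟨E, hE.1, hE.2, ?_, ?_⟩
  · rintro rfl
    have : c ∈ E ⊓ C := ⟨by simpa using E.mul_mem hm (E.inv_mem ha), hc⟩
    rw [hbot] at this; exact hc1 this
  · rintro rfl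
    have : a ∈ A ⊓ E := ⟨ha, by simpa using E.mul_mem (E.inv_mem hc) hm⟩
    rw [hbot] at this; exact ha1 this

/-- on a line through `A` there is a point in the commutator case with the opposite `B` -/
theorem exists_rc_on_line (hS : IsRootSubgroupSet S) (hA : A ∈ S) (hB : B ∈ S)
    (hr : IsRankOnePair A B) (h : D ∈ linePartners S A) :
    ∃ C ∈ linePartners S A, A ⊔ C = A ⊔ D ∧ RootCommutatorCase S B C ∧ ⁅A, ⁅B, C⁆⁆ = C := by
  rcases wl_dichotomy hS hA hB h.1.1 hr (wl_of_line hS hA h) with h1 | h1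
  swap
  · exact ⟨D, h, rfl, h1⟩
  have h' := mem_linePartners.1 h
  obtain ⟨b, hb, hb1⟩ := rs_ex hS hB
  obtain ⟨a, ha, ha1, e1⟩ := r1_ex (r1_symm hr) hb hb1
  obtain ⟨c, hc, hc1, e2⟩ := r1_ex h1 hb hb1
  have hw := wl_of_line hS hA h
  have hne := (hw.2 a ha ha1 c⁻¹ (D.inv_mem hc) (inv_ne_one.2 hc1)).1
  obtain ⟨E, hE, hm⟩ := h'.2.2.2.2.1 (c⁻¹ * a)
    (Subgroup.mul_mem _ (Subgroup.mem_sup_right (D.inv_mem hc)) (Subgroup.mem_sup_left ha)) hne
  have hEA : A ≠ E := by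
    rintro rfl
    have : c⁻¹ ∈ A ⊓ D := ⟨by simpa using A.mul_mem hm (A.inv_mem ha), D.inv_mem hc⟩
    rw [h'.2.2.2.2.2 A ⟨hA, le_sup_left⟩ D ⟨h'.1, le_sup_right⟩ h'.2.1.symm] at this
    exact hc1 (by simpa using this)
  have hwE := wl_of_mem_line hS hA h hA le_sup_left hE.1 hE.2 hEA
  rcases wl_dichotomy hS hA hB hE.1 hr hwE with h2 | h2
  · exfalso
    apply r1_not_comm (r1_cj_self h2 hm hne)
    rw [← cj_cj, ← comm_cj_iff c, cj_cj_inv, e1, e2, comm_cj_iff]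
    exact hw.1.symm
  · have h3 := rc_of_r1_comm_rc hS hA hB hr hwE.1 h2.1
    have h4 := rc_line hS hA h3 ⟨B, hB, hr⟩
    rw [h2.2] at h4
    refine ⟨E, h4, le_antisymm (sup_le le_sup_left hE.2) (sup_le le_sup_left ?_), h2⟩
    have hc' : c ∈ A ⊔ E := by
      have := Subgroup.mul_mem_sup ha (E.inv_mem hm)
      simpa using this
    obtain ⟨F, hF, hcF⟩ := (mem_linePartners.1 h4).2.2.2.2.1 c hc' hc1
    rw [eq_of_mem_of_mem hS h'.1 hF.1 ⟨B, hB, r1_symm h1⟩ hc hcF hc1]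
    exact hF.2

/-- reachability in the graph of rank one pairs -/
abbrev FR (S : Set (Subgroup G)) (A B : Subgroup G) : Prop := Relation.ReflTransGen (FAdj S) A B

theorem fadj_symm (h : FAdj S A B) : FAdj S B A := ⟨h.2.1, h.1, r1_symm h.2.2⟩

theorem FR.symm (h : FR S A B) : FR S B A := by
  induction h with
  | refl => exact Relation.ReflTransGen.refl
  | tail _ h2 ih => exact Relation.ReflTransGen.head (fadj_symm h2) ih

theorem fr_single (hA : A ∈ S) (hB : B ∈ S) (h : IsRankOnePair A B) : FR S A B :=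
  Relation.ReflTransGen.single ⟨hA, hB, h⟩

theorem FR.cj (hS : IsRootSubgroupSet S) (h : FR S A B) (g : G) : FR S (cj g A) (cj g B) := by
  induction h with
  | refl => exact Relation.ReflTransGen.refl
  | tail _ h2 ih => exact ih.tail ⟨rs_cj hS h2.1 g, rs_cj hS h2.2.1 g, r1_cj h2.2.2 g⟩

theorem FR.ni (h : FR S A B) (hni : NI S A) : NI S B := by
  induction h with
  | refl => exact hni
  | tail _ h2 _ => exact ⟨_, h2.1, r1_symm h2.2.2⟩

theorem FR.ni_of_ne (h : FR S A B) (hne : B ≠ A) : NI S A := by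
  rcases Relation.ReflTransGen.cases_head h with e | ⟨C, h1, -⟩
  · exact absurd e.symm hne
  · exact ⟨C, h1.2.1, h1.2.2⟩

theorem FR.conj (h : FR S A B) : ∃ g, B = CfsgH9.cj g A := by
  induction h with
  | refl => exact ⟨1, by simp⟩
  | tail _ h2 ih =>
    obtain ⟨g, rfl⟩ := ih
    obtain ⟨x, -, e, -⟩ := r1_ex_swap h2.2.2
    exact ⟨x * g, by rw [← e, cj_cj]⟩

theorem fr_of_line (hS : IsRootSubgroupSet S) (hA : A ∈ S) (h : C ∈ linePartners S A) (hnA : NI S A)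
    (hnC : NI S C) : FR S A C := by
  obtain ⟨A', hA', hrA⟩ := hnA
  obtain ⟨C', hC', hrC⟩ := hnC
  have hC := h.1.1
  rcases wl_dichotomy hS hA hA' hC hrA (wl_of_line hS hA h) with h1 | h1
  · exact (fr_single hA hA' hrA).trans (fr_single hA' hC h1)
  have h' := line_symm hA h
  rcases wl_dichotomy hS hC hC' hA hrC (wl_of_line hS hC h') with h2 | h2
  · exact (fr_single hA hC' (r1_symm h2)).trans (fr_single hC' hC (r1_symm hrC))
  obtain ⟨E, hE, hle, hEA, hEC⟩ := line_third hA hS h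
  obtain ⟨-, -, -, h3⟩ := r1_of_mem_line hS hA hA' hrA (wl_of_line hS hA h).1 h1.1 h1.2 hE hle hEC
  obtain ⟨-, -, -, h4⟩ := r1_of_mem_line hS hC hC' hrC (wl_of_line hS hC h').1 h2.1 h2.2 hE
    (by rwa [sup_comm]) hEA
  exact ((fr_single hA hA' hrA).trans (fr_single hA' hE (r1_symm h3))).trans
    ((fr_single hE hC' h4).trans (fr_single hC' hC (r1_symm hrC)))

theorem sup_cj_eq (h : RootCommutatorCase S A B) {b : G} (hb : b ∈ B) (hb1 : b ≠ 1) :
    A ⊔ cj b A = A ⊔ ⁅A, B⁆ := by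
  refine le_antisymm (sup_le le_sup_left (cj_le_sup_commutator hb)) (sup_le le_sup_left fun c hc => ?_)
  obtain ⟨a, ha, rfl⟩ := rc_surj (rc_symm h) hb hb1 (by rwa [Subgroup.commutator_comm])
  exact Subgroup.mul_mem _ (Subgroup.mem_sup_right (conj_mem_cj ha)) (Subgroup.mem_sup_left (A.inv_mem ha))

theorem cj_mem_line (hS : IsRootSubgroupSet S) (hA : A ∈ S) (h : RootCommutatorCase S A B)
    (hni : NI S A) {b : G} (hb : b ∈ B) (hb1 : b ≠ 1) : cj b A ∈ linePartners S A := by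
  refine mem_linePartners.2 ⟨rs_cj hS hA b, ?_, rc_comm_cj hS hA h hb, ?_⟩
  · intro e
    have := sup_cj_eq h hb hb1
    rw [e, sup_idem] at this
    obtain ⟨c, hc, hc1⟩ := rs_ex hS h.1
    exact rc_ne_commutator hS h (eq_of_mem_of_mem hS hA h.1 hni
      (this ▸ Subgroup.mem_sup_right hc) hc hc1)
  · rw [sup_cj_eq h hb hb1]; exact rc_partition hS hA h hni

/-- induction principle for a conjugation invariant equivalence relation -/
theorem rel_cj_all (hS : IsRootSubgroupSet S) {R : Subgroup G → Subgroup G → Prop}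
    (hrefl : R A A) (hsymm : ∀ {X Y}, R X Y → R Y X) (htrans : ∀ {X Y Z}, R X Y → R Y Z → R X Z)
    (hcj : ∀ {X Y} (g : G), R X Y → R (cj g X) (cj g Y))
    (h : ∀ E ∈ S, ∀ e ∈ E, R A (cj e A)) (g : G) : R A (cj g A) := by
  let K : Subgroup G :=
    { carrier := {g | R A (cj g A)}
      one_mem' := by simpa using hrefl
      mul_mem' := fun {x y} hx hy => by
        have := hcj x hy
        rw [cj_cj] at this
        exact htrans hx this
      inv_mem' := fun {x} hx => by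
        have := hcj x⁻¹ hx
        rw [cj_inv_cj] at this
        exact hsymm this }
  have : (⨆ A ∈ S, A) ≤ K := iSup₂_le fun E hE e he => h E hE e he
  rw [hS.generates] at this
  exact this (Subgroup.mem_top g)

theorem fr_cj_self (hS : IsRootSubgroupSet S) (hA : A ∈ S) (hni : NI S A) (g : G) : FR S A (cj g A) := by
  refine rel_cj_all hS (R := FR S) Relation.ReflTransGen.refl FR.symm Relation.ReflTransGen.trans
    (fun g h => h.cj hS g) (fun E hE e he => ?_) g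
  by_cases he1 : e = 1
  · simp only [he1, cj_one]; exact Relation.ReflTransGen.refl
  rcases rs_pair hS hA hE with h | h | h
  · rw [h.symm.cj_eq he]
  · exact fr_single hA (rs_cj hS hA e) (r1_cj_self h he he1)
  · exact fr_of_line hS hA (cj_mem_line hS hA h hni he he1) hni (hni.cj hS e)

theorem class_ni (hS : IsRootSubgroupClass S) (hex : ∃ A ∈ S, ∃ B ∈ S, IsRankOnePair A B) (hA : A ∈ S) :
    NI S A := by
  obtain ⟨A', hA', B, hB, h⟩ := hex
  obtain ⟨g, rfl⟩ := hS.2.2 A' hA' A hA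
  exact NI.cj hS.1 ⟨B, hB, h⟩ g

theorem class_connected (hS : IsRootSubgroupClass S) (hni : NI S A) (hA : A ∈ S) :
    IsConnectedFamily (FAdj S) S := by
  intro B hB C hC
  obtain ⟨g, rfl⟩ := hS.2.2 A hA B hB
  obtain ⟨g', rfl⟩ := hS.2.2 A hA C hC
  exact (fr_cj_self hS.1 hA hni g).symm.trans (fr_cj_self hS.1 hA hni g')

theorem class_of_connected (hS : IsRootSubgroupSet S) (hne : S.Nonempty)
    (h : IsConnectedFamily (FAdj S) S) : IsRootSubgroupClass S :=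
  ⟨hS, hne, fun A hA B hB => FR.conj (h A hA B hB)⟩

theorem class_line_ex (hS : IsRootSubgroupClass S) (hni : ∀ A ∈ S, NI S A)
    (hex : ∃ A ∈ S, ∃ B ∈ S, RootCommutatorCase S A B) (hA : A ∈ S) : ∃ D, D ∈ linePartners S A := by
  obtain ⟨E, hE, F, hF, h⟩ := hex
  obtain ⟨g, rfl⟩ := hS.2.2 E hE A hA
  exact ⟨_, rc_line hS.1 hA (rc_cj hS.1 h g) (hni _ hA)⟩

end CfsgH9
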