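import Cfsg.Agent.H9.Conj

set_option autoImplicit false

namespace CfsgH9
open Cfsg

section Nil
variable {k A : Type*} [Field k] [Ring A] [Algebra k A]

/-- nilpotent (non-unital) subalgebra -/
structure IsNil (N : Submodule k A) : Prop where
  mul_le : N * N ≤ N
  nil : ∃ n, N ^ n = ⊥

theorem pow_succ_mul_le {N : Submodule k A} (h : N * N ≤ N) (j : ℕ) : N ^ (j + 1) * N ≤ N ^ (j + 1) := by
  rw [pow_succ, mul_assoc]; exact mul_le_mul' le_rfl h

theorem mul_pow_succ_le {N : Submodule k A} (h : N * N ≤ N) (j : ℕ) : N * N ^ (j + 1) ≤ N ^ (j + 1) := by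
  rw [pow_succ', ← mul_assoc]; exact mul_le_mul' h le_rfl

theorem pow_succ_le_self {N : Submodule k A} (h : N * N ≤ N) (j : ℕ) : N ^ (j + 1) ≤ N := by
  induction j with
  | zero => simp
  | succ j ih => rw [pow_succ]; exact (mul_le_mul' ih le_rfl).trans h

theorem mul_mem_pow_left {N : Submodule k A} (h : N * N ≤ N) {j : ℕ} {g x : A} (hg : g - 1 ∈ N)
    (hx : x ∈ N ^ (j + 1)) : g * x ∈ N ^ (j + 1) := by
  have : g * x = (g - 1) * x + x := by noncomm_ring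
  rw [this]
  exact add_mem (mul_pow_succ_le h j (Submodule.mul_mem_mul hg hx)) hx

theorem mul_mem_pow_right {N : Submodule k A} (h : N * N ≤ N) {j : ℕ} {g x : A} (hg : g - 1 ∈ N)
    (hx : x ∈ N ^ (j + 1)) : x * g ∈ N ^ (j + 1) := by
  have : x * g = x * (g - 1) + x := by noncomm_ring
  rw [this]
  exact add_mem (pow_succ_mul_le h j (Submodule.mul_mem_mul hx hg)) hx

theorem pow_eq_bot_mono {N : Submodule k A} {n m : ℕ} (h : N ^ n = ⊥) (hnm : n ≤ m) : N ^ m = ⊥ := by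
  obtain ⟨c, rfl⟩ := Nat.exists_eq_add_of_le hnm
  rw [pow_add, h, Submodule.bot_mul]

theorem IsNil.mono {N P : Submodule k A} (h : IsNil N) (hP : P ≤ N) (hPP : P * P ≤ P) : IsNil P := by
  obtain ⟨n, hn⟩ := h.nil
  exact ⟨hPP, n, le_bot_iff.1 (hn ▸ pow_le_pow_left' hP n)⟩

theorem IsNil.inv_mem {N : Submodule k A} (h : IsNil N) {g : Aˣ} (hg : (g : A) - 1 ∈ N) :
    ((g⁻¹ : Aˣ) : A) - 1 ∈ N := by
  obtain ⟨n, hn⟩ := h.nil
  have key : ∀ j : ℕ, ∃ y ∈ N, ∃ x ∈ N ^ (j + 1), ((g⁻¹ : Aˣ) : A) - 1 = y + x * (g⁻¹ : Aˣ) := by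
    intro j
    induction j with
    | zero =>
      refine ⟨0, zero_mem _, 1 - g, by simpa using neg_mem hg, ?_⟩
      simp [sub_mul]
    | succ j ih =>
      obtain ⟨y, hy, x, hx, e⟩ := ih
      refine ⟨y + x, add_mem hy (pow_succ_le_self h.mul_le j hx), x * (1 - g), ?_, ?_⟩
      · rw [pow_succ]
        exact Submodule.mul_mem_mul hx (by simpa using neg_mem hg)
      · rw [e, mul_assoc, sub_mul, Units.mul_inv, mul_sub]; simp
  obtain ⟨y, hy, x, hx, e⟩ := key n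
  rw [pow_eq_bot_mono hn (Nat.le_succ n), Submodule.mem_bot] at hx
  rw [e, hx]; simpa using hy

/-- the group `1 + N` -/
def UG (N : Submodule k A) (h : IsNil N) : Subgroup Aˣ where
  carrier := {g | (g : A) - 1 ∈ N}
  one_mem' := by simp
  mul_mem' := by
    intro a b ha hb
    have : ((a * b : Aˣ) : A) - 1 = ((a : A) - 1) * ((b : A) - 1) + ((a : A) - 1) + ((b : A) - 1) := by
      rw [Units.val_mul]; noncomm_ring
    simp only [Set.mem_ofPred_eq] at *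
    rw [this]
    exact add_mem (add_mem (h.mul_le (Submodule.mul_mem_mul ha hb)) ha) hb
  inv_mem' := fun ha => h.inv_mem ha

theorem mem_UG {N : Submodule k A} {h : IsNil N} {g : Aˣ} : g ∈ UG N h ↔ (g : A) - 1 ∈ N := Iff.rfl

variable (k) in
/-- augmentation span of a subgroup of units -/
def Aug (H : Subgroup Aˣ) : Submodule k A := Submodule.span k ((fun g : Aˣ => (g : A) - 1) '' H)

theorem mem_Aug {H : Subgroup Aˣ} {g : Aˣ} (hg : g ∈ H) : (g : A) - 1 ∈ Aug k H :=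
  Submodule.subset_span ⟨g, hg, rfl⟩

theorem Aug_le {H : Subgroup Aˣ} {N : Submodule k A} : Aug k H ≤ N ↔ ∀ g ∈ H, (g : A) - 1 ∈ N := by
  rw [Aug, Submodule.span_le]
  constructor
  · intro h g hg; exact h ⟨g, hg, rfl⟩
  · rintro h _ ⟨g, hg, rfl⟩; exact h g hg

theorem Aug_mul_le (H : Subgroup Aˣ) : Aug k H * Aug k H ≤ Aug k H := by
  unfold Aug
  rw [Submodule.span_mul_span, Submodule.span_le]
  rintro _ ⟨_, ⟨a, ha, rfl⟩, _, ⟨b, hb, rfl⟩, rfl⟩
  have : ((a : A) - 1) * ((b : A) - 1) = (((a * b : Aˣ) : A) - 1) - ((a : A) - 1) - ((b : A) - 1) := by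
    rw [Units.val_mul]; noncomm_ring
  simp only [this]
  exact sub_mem (sub_mem (mem_Aug (H.mul_mem ha hb)) (mem_Aug ha)) (mem_Aug hb)

variable (k) in
/-- unipotent subgroup of units -/
def Unip (H : Subgroup Aˣ) : Prop := ∃ N : Submodule k A, IsNil N ∧ ∀ g ∈ H, (g : A) - 1 ∈ N

theorem Unip.aug {H : Subgroup Aˣ} (h : Unip k H) : IsNil (Aug k H) := by
  obtain ⟨N, hN, hH⟩ := h
  exact hN.mono (Aug_le.2 hH) (Aug_mul_le H)

theorem Unip.mono {H K : Subgroup Aˣ} (h : Unip k H) (hK : K ≤ H) : Unip k K := by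
  obtain ⟨N, hN, hH⟩ := h
  exact ⟨N, hN, fun g hg => hH g (hK hg)⟩

theorem unip_closure {S : Set Aˣ} {N : Submodule k A} (hN : IsNil N) (h : ∀ g ∈ S, (g : A) - 1 ∈ N) :
    Unip k (Subgroup.closure S) :=
  ⟨N, hN, fun _ hg => (Subgroup.closure_le (UG N hN)).2 h hg⟩

theorem unip_UG {N : Submodule k A} (hN : IsNil N) : Unip k (UG N hN) := ⟨N, hN, fun _ hg => hg⟩

theorem unip_bot : Unip k (⊥ : Subgroup Aˣ) :=
  ⟨⊥, ⟨by simp, 1, by simp⟩, by intro g hg; rw [Subgroup.mem_bot] at hg; simp [hg]⟩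

theorem conj_mem_Aug {K : Subgroup Aˣ} {h : Aˣ} (hh : ∀ x ∈ K, h * x * h⁻¹ ∈ K) {y : A}
    (hy : y ∈ Aug k K) : (h : A) * y * (h⁻¹ : Aˣ) ∈ Aug k K := by
  induction hy using Submodule.span_induction with
  | mem x hx =>
    obtain ⟨g, hg, rfl⟩ := hx
    have := mem_Aug (k := k) (hh g hg)
    convert this using 1
    simp [mul_sub, sub_mul]
  | zero => simp
  | add x y _ _ hx hy => simpa [mul_add, add_mul] using add_mem hx hy
  | smul c x _ hx => simpa using Submodule.smul_mem _ c hx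

theorem Unip.sup {K H : Subgroup Aˣ} (hK : Unip k K) (hH : Unip k H)
    (hn : ∀ h ∈ H, ∀ x ∈ K, h * x * h⁻¹ ∈ K) : Unip k (K ⊔ H) := by
  set N := Aug k K
  set P := Aug k H
  set B : Submodule k A := 1 ⊔ P with hB
  have hN := hK.aug
  have hP := hH.aug
  have h1B : (1 : Submodule k A) ≤ B := le_sup_left
  have hPB : P ≤ B := le_sup_right
  have hBB : B * B ≤ B := by
    rw [hB, Submodule.mul_sup, Submodule.sup_mul, Submodule.sup_mul]
    simp only [one_mul, mul_one]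
    exact sup_le le_rfl (sup_le le_sup_right (hP.mul_le.trans le_sup_right))
  have hNB : N ≤ N * B := by simpa using mul_le_mul' (le_refl N) h1B
  have hBN : B * N ≤ N * B := by
    rw [hB, Submodule.sup_mul, one_mul]
    refine sup_le hNB ?_
    rw [Submodule.mul_le]
    intro p hp y hy
    induction hp using Submodule.span_induction with
    | mem x hx =>
      obtain ⟨h, hh, rfl⟩ := hx
      have e : ((h : A) - 1) * y = ((h : A) * y * (h⁻¹ : Aˣ)) * ((h : A) - 1) + ((h : A) * y * (h⁻¹ : Aˣ) - y) := by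
        simp [mul_sub, sub_mul, mul_assoc]
      have h1 := conj_mem_Aug (hn h hh) hy
      simp only [e]
      exact add_mem (Submodule.mul_mem_mul h1 (hPB (mem_Aug hh))) (hNB (sub_mem h1 hy))
    | zero => simp
    | add x y _ _ hx hy => simpa [add_mul] using add_mem hx hy
    | smul c x _ hx => simpa using Submodule.smul_mem _ c hx
  set I := N * B with hI
  have hIB : I * B ≤ I := by rw [hI, mul_assoc]; exact mul_le_mul' le_rfl hBB
  have hBI : B * I ≤ I := by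
    rw [hI, ← mul_assoc]; exact (mul_le_mul' hBN le_rfl).trans hIB
  have hII : I * I ≤ I := by
    calc I * I = N * (B * I) := by rw [hI, mul_assoc]
      _ ≤ N * I := mul_le_mul' le_rfl hBI
      _ = N * N * B := by rw [hI, mul_assoc]
      _ ≤ I := mul_le_mul' hN.mul_le le_rfl
  have hIn : ∀ n : ℕ, I ^ n ≤ N ^ n * B := by
    intro n
    induction n with
    | zero => simpa using h1B
    | succ n ih =>
      calc I ^ (n + 1) = I ^ n * I := pow_succ _ _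
        _ ≤ N ^ n * B * I := mul_le_mul' ih le_rfl
        _ = N ^ n * (B * I) := mul_assoc _ _ _
        _ ≤ N ^ n * I := mul_le_mul' le_rfl hBI
        _ = N ^ (n + 1) * B := by rw [hI, pow_succ, mul_assoc]
  have hPn : ∀ n : ℕ, P ^ n ≤ B := by
    intro n
    cases n with
    | zero => simpa using h1B
    | succ n => exact (pow_succ_le_self hP.mul_le n).trans hPB
  have hQ : ∀ m : ℕ, (I ⊔ P) ^ m ≤ I ⊔ P ^ m := by
    intro m
    induction m with
    | zero => simp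
    | succ m ih =>
      rw [pow_succ]
      refine (mul_le_mul' ih le_rfl).trans ?_
      rw [Submodule.mul_sup, Submodule.sup_mul, Submodule.sup_mul]
      refine sup_le (sup_le (hII.trans le_sup_left) ?_) (sup_le ?_ ?_)
      · exact ((mul_le_mul' (hPn m) le_rfl).trans hBI).trans le_sup_left
      · exact ((mul_le_mul' le_rfl hPB).trans hIB).trans le_sup_left
      · rw [← pow_succ]; exact le_sup_right
  have hQnil : IsNil (I ⊔ P) := by
    constructor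
    · rw [← pow_two]
      exact (hQ 2).trans (sup_le_sup_left (pow_succ_le_self hP.mul_le 1) _)
    · obtain ⟨n, hn⟩ := hN.nil
      obtain ⟨m, hm⟩ := hP.nil
      refine ⟨m * n, le_bot_iff.1 ?_⟩
      rw [pow_mul]
      have := hQ m
      rw [hm, sup_bot_eq] at this
      refine (pow_le_pow_left' this n).trans ((hIn n).trans ?_)
      rw [hn, Submodule.bot_mul]
  refine (unip_UG hQnil).mono (sup_le ?_ ?_)
  · intro g hg; exact Submodule.mem_sup_left (hNB (mem_Aug hg))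
  · intro g hg; exact Submodule.mem_sup_right (mem_Aug hg)

/-- normalizers grow -/
theorem exists_normalizing {N : Submodule k A} (hN : IsNil N) {P I : Set Aˣ} (hIP : I ⊆ P)
    (hP : ∀ p ∈ P, (p : A) - 1 ∈ N) (h1 : (1 : Aˣ) ∈ I)
    (hPc : ∀ p ∈ P, ∀ x ∈ P, p * x * p⁻¹ ∈ P ∧ p⁻¹ * x * p ∈ P)
    (hIc : ∀ p ∈ I, ∀ x ∈ I, p * x * p⁻¹ ∈ I ∧ p⁻¹ * x * p ∈ I) (hne : ¬ P ⊆ I) :
    ∃ p ∈ P, p ∉ I ∧ ∀ x ∈ I, p * x * p⁻¹ ∈ I ∧ p⁻¹ * x * p ∈ I := by
  by_contra hcon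
  have key : ∀ j : ℕ, ∃ p ∈ P, p ∉ I ∧ ∃ i ∈ I, (p : A) - i ∈ N ^ (j + 1) := by
    intro j
    induction j with
    | zero =>
      obtain ⟨p, hp, hpI⟩ := Set.not_subset.1 hne
      exact ⟨p, hp, hpI, 1, h1, by simpa using hP p hp⟩
    | succ j ih =>
      obtain ⟨p, hp, hpI, i, hi, hpi⟩ := ih
      by_contra hc
      apply hcon
      refine ⟨p, hp, hpI, fun x hx => ?_⟩
      have hp1 := hP p hp
      have hi1 := hP i (hIP hi)
      have hp2 := hN.inv_mem hp1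
      have hi2 := hN.inv_mem hi1
      have hx1 := hP x (hIP hx)
      have hinv : ((p⁻¹ : Aˣ) : A) - (i⁻¹ : Aˣ) ∈ N ^ (j + 1) := by
        have : ((p⁻¹ : Aˣ) : A) - (i⁻¹ : Aˣ) = -((p⁻¹ : Aˣ) * (((p : A) - i) * (i⁻¹ : Aˣ))) := by
          simp [mul_sub, sub_mul, ← mul_assoc]
        rw [this]
        exact neg_mem (mul_mem_pow_left hN.mul_le hp2 (mul_mem_pow_right hN.mul_le hi2 hpi))
      have gen : ∀ a b : Aˣ, (a : A) - 1 ∈ N → (b : A) - 1 ∈ N → (a : A) - b ∈ N ^ (j + 1) →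
          ((a⁻¹ : Aˣ) : A) - (b⁻¹ : Aˣ) ∈ N ^ (j + 1) →
          ((a * x * a⁻¹ : Aˣ) : A) - (b * x * b⁻¹ : Aˣ) ∈ N ^ (j + 1 + 1) := by
        intro a b ha hb hab hab'
        have e : ((a * x * a⁻¹ : Aˣ) : A) - (b * x * b⁻¹ : Aˣ) =
            (((a : A) - b) * ((x : A) - 1)) * (a⁻¹ : Aˣ) +
              b * (((x : A) - 1) * (((a⁻¹ : Aˣ) : A) - (b⁻¹ : Aˣ))) := by
          simp only [mul_sub, sub_mul, mul_assoc, Units.val_mul, one_mul, mul_one, Units.mul_inv]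
          abel
        rw [e]
        refine add_mem (mul_mem_pow_right hN.mul_le (hN.inv_mem ha) ?_) (mul_mem_pow_left hN.mul_le hb ?_)
        · rw [pow_succ _ (j + 1)]; exact Submodule.mul_mem_mul hab hx1
        · rw [pow_succ' _ (j + 1)]; exact Submodule.mul_mem_mul hx1 hab'
      constructor
      · by_contra hn
        exact hc ⟨_, (hPc p hp x (hIP hx)).1, hn, _, (hIc i hi x hx).1, gen p i hp1 hi1 hpi hinv⟩
      · by_contra hn
        refine hc ⟨_, (hPc p hp x (hIP hx)).2, hn, _, (hIc i hi x hx).2, ?_⟩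
        simpa using gen p⁻¹ i⁻¹ hp2 hi2 hinv (by simpa using hpi)
  obtain ⟨n, hn⟩ := hN.nil
  obtain ⟨p, -, hpI, i, hi, hpi⟩ := key n
  rw [pow_eq_bot_mono hn (Nat.le_succ n), Submodule.mem_bot, sub_eq_zero] at hpi
  exact hpI (Units.ext hpi ▸ hi)

theorem closure_conj_mem {G : Type*} [Group G] {I : Set G} {S : Set G}
    (h : ∀ p ∈ S, ∀ x ∈ I, p * x * p⁻¹ ∈ I ∧ p⁻¹ * x * p ∈ I) :
    ∀ p ∈ Subgroup.closure S, ∀ x ∈ Subgroup.closure I, p * x * p⁻¹ ∈ Subgroup.closure I := by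
  have h0 : ∀ p : G, (∀ x ∈ I, p * x * p⁻¹ ∈ Subgroup.closure I) →
      ∀ x ∈ Subgroup.closure I, p * x * p⁻¹ ∈ Subgroup.closure I := by
    intro p hp x hx
    induction hx using Subgroup.closure_induction with
    | mem y hy => exact hp y hy
    | one => simp
    | mul a b _ _ ha hb => simpa [mul_assoc] using mul_mem ha hb
    | inv a _ ha => simpa [mul_assoc] using inv_mem ha
  intro p hp
  induction hp using Subgroup.closure_induction'' with
  | mem y hy => exact h0 y fun x hx => Subgroup.subset_closure (h y hy x hx).1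
  | inv_mem y hy => exact h0 _ fun x hx => Subgroup.subset_closure (by simpa using (h y hy x hx).2)
  | one => simp
  | mul a b _ _ ha hb => intro x hx; simpa [mul_assoc] using ha _ (hb x hx)

variable [FiniteDimensional k A]

theorem unip_closure_of_pairs_aux {D : Set Aˣ} (h1 : (1 : Aˣ) ∈ D)
    (hc : ∀ p ∈ D, ∀ x ∈ D, p * x * p⁻¹ ∈ D ∧ p⁻¹ * x * p ∈ D)
    (hp : ∀ p ∈ D, ∀ q ∈ D, Unip k (Subgroup.closure {p, q})) : Unip k (Subgroup.closure D) := by
  let L : Submodule k A → Submodule k A := fun N =>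
    Submodule.span k ((fun g : Aˣ => (g : A) - 1) '' {d | d ∈ D ∧ (d : A) - 1 ∈ N})
  have hL : ∀ N, L N ≤ N := fun N => Submodule.span_le.2 (by rintro _ ⟨d, hd, rfl⟩; exact hd.2)
  have hLm : ∀ N, ∀ d ∈ D, (d : A) - 1 ∈ N → (d : A) - 1 ∈ L N :=
    fun N d hd h => Submodule.subset_span ⟨d, ⟨hd, h⟩, rfl⟩
  have hLle : ∀ N N', (∀ d ∈ D, (d : A) - 1 ∈ N → (d : A) - 1 ∈ N') → L N ≤ L N' :=
    fun N N' h => Submodule.span_mono (Set.image_mono fun d hd => ⟨hd.1, h d hd.1 hd.2⟩)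
  have grow : ∀ N₁ N₂ : Submodule k A, IsNil N₁ → IsNil N₂ →
      (¬ ∀ d ∈ D, (d : A) - 1 ∈ N₁ → (d : A) - 1 ∈ N₂) →
      ∃ p ∈ D, (p : A) - 1 ∈ N₁ ∧ (p : A) - 1 ∉ N₂ ∧ ∀ x ∈ {d | d ∈ D ∧ (d : A) - 1 ∈ N₁ ⊓ N₂},
        p * x * p⁻¹ ∈ {d | d ∈ D ∧ (d : A) - 1 ∈ N₁ ⊓ N₂} ∧
        p⁻¹ * x * p ∈ {d | d ∈ D ∧ (d : A) - 1 ∈ N₁ ⊓ N₂} := by
    intro N₁ N₂ hN₁ hN₂ hne
    have cl : ∀ N : Submodule k A, (hN : IsNil N) → ∀ p x : Aˣ, (p : A) - 1 ∈ N → (x : A) - 1 ∈ N →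
        ((p * x * p⁻¹ : Aˣ) : A) - 1 ∈ N ∧ ((p⁻¹ * x * p : Aˣ) : A) - 1 ∈ N := by
      intro N hN p x hp hx
      have hp' : p ∈ UG N hN := hp
      have hx' : x ∈ UG N hN := hx
      exact ⟨mul_mem (mul_mem hp' hx') (inv_mem hp'), mul_mem (mul_mem (inv_mem hp') hx') hp'⟩
    obtain ⟨p, hp, hpI, h⟩ := exists_normalizing hN₁ (P := {d | d ∈ D ∧ (d : A) - 1 ∈ N₁})
      (I := {d | d ∈ D ∧ (d : A) - 1 ∈ N₁ ⊓ N₂}) (fun d hd => ⟨hd.1, hd.2.1⟩) (fun p hp => hp.2)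
      ⟨h1, by simp⟩
      (fun p hp x hx => ⟨⟨(hc p hp.1 x hx.1).1, (cl N₁ hN₁ p x hp.2 hx.2).1⟩,
        ⟨(hc p hp.1 x hx.1).2, (cl N₁ hN₁ p x hp.2 hx.2).2⟩⟩)
      (fun p hp x hx => ⟨⟨(hc p hp.1 x hx.1).1, (cl N₁ hN₁ p x hp.2.1 hx.2.1).1,
          (cl N₂ hN₂ p x hp.2.2 hx.2.2).1⟩,
        ⟨(hc p hp.1 x hx.1).2, (cl N₁ hN₁ p x hp.2.1 hx.2.1).2, (cl N₂ hN₂ p x hp.2.2 hx.2.2).2⟩⟩)
      (fun h => hne fun d hd hd1 => (h ⟨hd, hd1⟩).2.2)
    exact ⟨p, hp.1, hp.2, fun h2 => hpI ⟨hp.1, hp.2, h2⟩, h⟩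
  have main : ∀ n : ℕ, ∀ N₁ N₂ : Submodule k A, IsNil N₁ → IsNil N₂ →
      Module.finrank k A - Module.finrank k (L (N₁ ⊓ N₂)) ≤ n →
      ∃ N : Submodule k A, IsNil N ∧ (∀ d ∈ D, (d : A) - 1 ∈ N₁ → (d : A) - 1 ∈ N) ∧
        (∀ d ∈ D, (d : A) - 1 ∈ N₂ → (d : A) - 1 ∈ N) := by
    intro n
    induction n using Nat.strong_induction_on with
    | _ n ih =>
    intro N₁ N₂ hN₁ hN₂ hn
    by_cases h12 : ∀ d ∈ D, (d : A) - 1 ∈ N₁ → (d : A) - 1 ∈ N₂
    · exact ⟨N₂, hN₂, h12, fun _ _ h => h⟩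
    by_cases h21 : ∀ d ∈ D, (d : A) - 1 ∈ N₂ → (d : A) - 1 ∈ N₁
    · exact ⟨N₁, hN₁, fun _ _ h => h, h21⟩
    obtain ⟨p, hpD, hp1, hp2, hpn⟩ := grow N₁ N₂ hN₁ hN₂ h12
    obtain ⟨q, hqD, hq2, hq1, hqn⟩ := grow N₂ N₁ hN₂ hN₁ h21
    rw [inf_comm N₂ N₁] at hqn
    have hU : Unip k (Subgroup.closure {d | d ∈ D ∧ (d : A) - 1 ∈ N₁ ⊓ N₂} ⊔ Subgroup.closure {p, q}) := by
      refine Unip.sup (unip_closure hN₁ fun g hg => hg.2.1) (hp p hpD q hqD) (closure_conj_mem ?_)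
      rintro a (rfl | rfl)
      · exact hpn
      · exact hqn
    obtain ⟨N₃, hN₃, h3⟩ := hU
    have h3I : ∀ d ∈ D, (d : A) - 1 ∈ N₁ ⊓ N₂ → (d : A) - 1 ∈ N₃ := fun d hd h =>
      h3 d (Subgroup.mem_sup_left (Subgroup.subset_closure ⟨hd, h⟩))
    have h3p : (p : A) - 1 ∈ N₃ := h3 p (Subgroup.mem_sup_right (Subgroup.subset_closure (by simp)))
    have h3q : (q : A) - 1 ∈ N₃ := h3 q (Subgroup.mem_sup_right (Subgroup.subset_closure (by simp)))
    have lt : ∀ N : Submodule k A, (∀ d ∈ D, (d : A) - 1 ∈ N₁ ⊓ N₂ → (d : A) - 1 ∈ N) →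
        (∃ d ∈ D, (d : A) - 1 ∈ N ∧ (d : A) - 1 ∉ N₁ ⊓ N₂) →
        Module.finrank k A - Module.finrank k (L N) < n := by
      rintro N h ⟨d, hd, hdN, hd'⟩
      have : L (N₁ ⊓ N₂) < L N :=
        lt_of_le_of_ne (hLle _ _ h) fun e => hd' (hL _ (e ▸ hLm N d hd hdN))
      have h5 := Submodule.finrank_lt_finrank_of_lt this
      have h6 := Submodule.finrank_le (L N)
      omega
    obtain ⟨N₄, hN₄, h41, h43⟩ := ih _ (lt (N₁ ⊓ N₃) (fun d hd h => ⟨h.1, h3I d hd h⟩)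
      ⟨p, hpD, ⟨hp1, h3p⟩, fun h => hp2 h.2⟩) N₁ N₃ hN₁ hN₃ le_rfl
    obtain ⟨N₅, hN₅, h54, h52⟩ := ih _ (lt (N₄ ⊓ N₂) (fun d hd h => ⟨h41 d hd h.1, h.2⟩)
      ⟨q, hqD, ⟨h43 q hqD h3q, hq2⟩, fun h => hq1 h.1⟩) N₄ N₂ hN₄ hN₂ le_rfl
    exact ⟨N₅, hN₅, fun d hd h => h54 d hd (h41 d hd h), h52⟩
  have fin : ∀ n : ℕ, ∀ N : Submodule k A, IsNil N → Module.finrank k A - Module.finrank k (L N) ≤ n →
      Unip k (Subgroup.closure D) := by
    intro n
    induction n using Nat.strong_induction_on with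
    | _ n ih =>
    intro N hN hn
    by_cases h : ∀ d ∈ D, (d : A) - 1 ∈ N
    · exact unip_closure hN h
    push Not at h
    obtain ⟨d, hd, hdN⟩ := h
    obtain ⟨N', hN', h'⟩ := hp d hd d hd
    obtain ⟨N₂, hN₂, h21, h22⟩ := main _ N N' hN hN' le_rfl
    have : L N < L N₂ := lt_of_le_of_ne (hLle _ _ h21) fun e =>
      hdN (hL _ (e ▸ hLm N₂ d hd (h22 d hd (h' d (Subgroup.subset_closure (by simp))))))
    have h5 := Submodule.finrank_lt_finrank_of_lt this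
    have h6 := Submodule.finrank_le (L N₂)
    exact ih _ (by omega) N₂ hN₂ le_rfl
  exact fin _ ⊥ ⟨by simp, 1, by simp⟩ le_rfl

/-- Baer–Suzuki for unipotent groups -/
theorem unip_closure_of_pairs {D : Set Aˣ}
    (hc : ∀ p ∈ D, ∀ x ∈ D, p * x * p⁻¹ ∈ D ∧ p⁻¹ * x * p ∈ D)
    (hp : ∀ p ∈ D, ∀ q ∈ D, Unip k (Subgroup.closure {p, q})) : Unip k (Subgroup.closure D) := by
  refine (unip_closure_of_pairs_aux (D := insert 1 D) (by simp) ?_ ?_).mono
    (Subgroup.closure_mono (Set.subset_insert _ _))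
  · rintro p (rfl | hp) x (rfl | hx)
    · simp
    · simp [hx]
    · simp
    · exact ⟨Or.inr (hc p hp x hx).1, Or.inr (hc p hp x hx).2⟩
  · have h1 : ∀ q ∈ D, Unip k (Subgroup.closure ({1, q} : Set Aˣ)) := by
      intro q hq
      refine (hp q hq q hq).mono ((Subgroup.closure_le _).2 ?_)
      rintro a (rfl | rfl)
      · exact one_mem _
      · exact Subgroup.subset_closure (by simp)
    rintro p (rfl | hp') x (rfl | hx)
    · refine (unip_bot (k := k) (A := A)).mono ((Subgroup.closure_le _).2 ?_)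
      rintro a (rfl | rfl) <;> exact one_mem _
    · exact h1 x hx
    · rw [Set.pair_comm]; exact h1 p hp'
    · exact hp p hp' x hx

end Nil

section End
variable {k : Type*} [Field k] {M : Type*} [AddCommGroup M] [Module k M]

theorem coe_list_map (l : List (LinearMap.GeneralLinearGroup k M)) :
    (List.map (fun g : M →ₗ[k] M => g - 1) do
        let a ← l
        pure (a : M →ₗ[k] M)) = l.map fun g : LinearMap.GeneralLinearGroup k M => (g : M →ₗ[k] M) - 1 := by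
  induction l with
  | nil => rfl
  | cons a l ih => simpa using ih

theorem isUnipotentOn_iff {H : Subgroup (LinearMap.GeneralLinearGroup k M)} :
    IsUnipotentOn H ↔ Unip k H := by
  constructor
  · rintro ⟨n, hn⟩
    refine ⟨Aug k H, ⟨Aug_mul_le H, n, ?_⟩, fun g hg => mem_Aug hg⟩
    rw [Aug, Submodule.span_pow, Submodule.span_eq_bot]
    intro x hx
    obtain ⟨f, rfl⟩ := Set.mem_pow.1 hx
    choose g hg hg' using fun i => (f i).2
    have := hn (List.ofFn g) (by simpa [List.forall_mem_ofFn_iff] using hg) (by simp)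
    rw [coe_list_map, List.map_ofFn] at this
    have e : (fun i => ((f i : _) : M →ₗ[k] M)) =
        (fun g : LinearMap.GeneralLinearGroup k M => (g : M →ₗ[k] M) - 1) ∘ g := funext fun i => (hg' i).symm
    rw [e]; exact this
  · rintro ⟨N, ⟨-, n, hn⟩, h⟩
    refine ⟨n, fun l hl hlen => ?_⟩
    rw [coe_list_map, ← Submodule.mem_bot k, ← hn, ← hlen]
    clear hlen
    induction l with
    | nil => simp [Submodule.one_le.1 le_rfl]
    | cons a l ih =>
      rw [List.map_cons, List.prod_cons, List.length_cons, pow_succ']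
      exact Submodule.mul_mem_mul (h a (hl a (by simp))) (ih fun g hg => hl g (by simp [hg]))

end End

end CfsgH9
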