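import Cfsg.Agent.H9.ClaimN
import Cfsg.Agent.H9.Unip

set_option autoImplicit false

namespace CfsgH9
open Matrix Polynomial
open scoped MatrixGroups

variable {k A : Type*} [Field k] [Ring A] [Algebra k A]

theorem exists_nil_of_pow_eq_bot {S : Submodule k A} {m : ℕ} (h : S ^ m = ⊥) :
    ∃ N : Submodule k A, IsNil N ∧ S ≤ N := by
  have key : ∀ i : ℕ, (⨆ j : ℕ, S ^ (j + 1)) ^ i ≤ ⨆ j : ℕ, S ^ (i + j) := by
    intro i
    induction i with
    | zero => exact le_iSup_of_le 0 (by simp)
    | succ i ih =>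
      rw [pow_succ]
      refine (mul_le_mul' ih le_rfl).trans ?_
      rw [Submodule.iSup_mul]
      refine iSup_le fun j => ?_
      rw [Submodule.mul_iSup]
      refine iSup_le fun j' => le_iSup_of_le (j + j') ?_
      rw [← pow_add]
      exact le_of_eq (by congr 1; omega)
  refine ⟨⨆ j : ℕ, S ^ (j + 1), ⟨?_, m, le_bot_iff.1 ((key m).trans (iSup_le fun j => ?_))⟩,
    le_iSup_of_le 0 (by simp)⟩
  · rw [← pow_two]
    refine (key 2).trans (iSup_le fun j => le_iSup_of_le (j + 1) (le_of_eq (by congr 1; omega)))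
  · rw [pow_add, h, Submodule.bot_mul]

theorem z_comm_left {s t : A} (hs : s * s = 0) : Commute (s * t + t * s) s := by
  show (s * t + t * s) * s = s * (s * t + t * s)
  rw [add_mul, mul_add, mul_assoc t, hs, ← mul_assoc s s, hs, mul_assoc]; simp

theorem z_comm_right {s t : A} (ht : t * t = 0) : Commute (s * t + t * s) t := by
  rw [add_comm]; exact z_comm_left ht

theorem z_mul_left {s t : A} (hs : s * s = 0) : (s * t + t * s) * s = s * t * s := by
  rw [add_mul, mul_assoc t, hs]; simp

theorem z_mul_right {s t : A} (ht : t * t = 0) : (s * t + t * s) * t = t * s * t := by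
  rw [add_comm]; exact z_mul_left ht

theorem exists_nil_of_z {s t : A} (hs : s * s = 0) (ht : t * t = 0) (hz : IsNilpotent (s * t + t * s)) :
    ∃ N : Submodule k A, IsNil N ∧ s ∈ N ∧ t ∈ N := by
  obtain ⟨n, hn⟩ := hz
  set z := s * t + t * s with hzdef
  set S : Submodule k A := Submodule.span k {s, t} with hS
  have hsS : s ∈ S := Submodule.subset_span (by simp)
  have htS : t ∈ S := Submodule.subset_span (by simp)
  have key : ∀ j : ℕ, S ^ (2 * j + 1) ≤ Submodule.span k {z ^ j * s, z ^ j * t} := by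
    intro j
    induction j with
    | zero => simp [hS]
    | succ j ih =>
      have e : S ^ (2 * (j + 1) + 1) = S ^ (2 * j + 1) * S * S := by
        rw [← pow_succ, ← pow_succ]; rfl
      rw [e]
      refine (mul_le_mul' (mul_le_mul' ih le_rfl) le_rfl).trans ?_
      rw [hS, Submodule.span_mul_span, Submodule.span_mul_span, Submodule.span_le]
      have h1 : z ^ j * s * s = 0 := by rw [mul_assoc, hs, mul_zero]
      have h2 : z ^ j * t * t = 0 := by rw [mul_assoc, ht, mul_zero]
      have h3 : z ^ j * s * t * s = z ^ (j + 1) * s := by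
        rw [pow_succ, mul_assoc _ z, hzdef, z_mul_left hs]; simp [mul_assoc]
      have h4 : z ^ j * t * s * t = z ^ (j + 1) * t := by
        rw [pow_succ, mul_assoc _ z, hzdef, z_mul_right ht]; simp [mul_assoc]
      have h5 : z ^ j * s * t * t = 0 := by rw [mul_assoc, ht, mul_zero]
      have h6 : z ^ j * t * s * s = 0 := by rw [mul_assoc, hs, mul_zero]
      rintro _ ⟨_, ⟨_, (rfl | rfl), _, (rfl | rfl), rfl⟩, _, (rfl | rfl), rfl⟩ <;>
        simp only [h1, h2, h3, h4, h5, h6, zero_mul, SetLike.mem_coe, zero_mem] <;>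
        exact Submodule.subset_span (by simp)
  have := key n
  rw [hn, zero_mul, zero_mul] at this
  obtain ⟨N, hN, hle⟩ := exists_nil_of_pow_eq_bot (S := S) (m := 2 * n + 1)
    (le_bot_iff.1 (this.trans (by simp)))
  exact ⟨N, hN, hle hsS, hle htS⟩

theorem derived_mem {Γ : Type*} [Group Γ] (f : Γ →* A) {N : Submodule k A} (hN : N * N ≤ N)
    (hf : ∀ γ, f γ - 1 ∈ N) (j : ℕ) : ∀ γ ∈ derivedSeries Γ j, f γ - 1 ∈ N ^ (j + 1) := by
  induction j with
  | zero => intro γ _; simpa using hf γ
  | succ j ih =>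
    let K : Subgroup Γ :=
      { carrier := {γ | f γ - 1 ∈ N ^ (j + 1 + 1)}
        one_mem' := by simp
        mul_mem' := fun {a b} ha hb => by
          simp only [Set.mem_ofPred_eq] at *
          have : f (a * b) - 1 = (f a - 1) * f b + (f b - 1) := by rw [map_mul]; noncomm_ring
          rw [this]
          exact add_mem (mul_mem_pow_right hN (hf b) ha) hb
        inv_mem' := fun {a} ha => by
          simp only [Set.mem_ofPred_eq] at *
          have : f a⁻¹ - 1 = -((f a - 1) * f a⁻¹) := by rw [sub_mul, ← map_mul]; simp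
          rw [this]
          exact neg_mem (mul_mem_pow_right hN (hf _) ha) }
    have : derivedSeries Γ (j + 1) ≤ K := by
      rw [derivedSeries_succ, Subgroup.commutator_le]
      intro a ha b hb
      show f _ - 1 ∈ N ^ (j + 1 + 1)
      have e : f (a * b * a⁻¹ * b⁻¹) - 1 =
          ((f a - 1) * (f b - 1) - (f b - 1) * (f a - 1)) * f a⁻¹ * f b⁻¹ := by
        have e1 : f a * f a⁻¹ = 1 := by rw [← map_mul]; simp
        have e2 : f b * f b⁻¹ = 1 := by rw [← map_mul]; simp
        have e3 : (f a - 1) * (f b - 1) - (f b - 1) * (f a - 1) = f a * f b - f b * f a := by noncomm_ring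
        rw [e3, sub_mul, sub_mul, mul_assoc (f b) (f a), e1, mul_one, e2, map_mul, map_mul, map_mul]
      rw [commutatorElement_def, e]
      refine mul_mem_pow_right hN (hf _) (mul_mem_pow_right hN (hf _) (sub_mem ?_ ?_))
      · rw [pow_succ _ (j + 1)]; exact Submodule.mul_mem_mul (ih a ha) (hf b)
      · rw [pow_succ _ (j + 1)]; exact Submodule.mul_mem_mul (ih b hb) (hf a)
    exact this

theorem Unip.isSolvable {H : Subgroup Aˣ} (h : Unip k H) : Group.IsSolvable H := by
  obtain ⟨N, ⟨hN, n, hn⟩, hH⟩ := h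
  refine ⟨⟨n, eq_bot_iff.2 fun γ hγ => ?_⟩⟩
  have := derived_mem ((Units.coeHom A).comp H.subtype) hN (fun γ => hH γ γ.2) n γ hγ
  rw [pow_eq_bot_mono hn (Nat.le_succ n), Submodule.mem_bot, sub_eq_zero] at this
  exact Subtype.ext (Units.ext this)

variable (k) in
/-- Fitting data of a pair of square zero elements -/
structure Fit (s t e u : A) : Prop where
  ss : s * s = 0
  tt : t * t = 0
  e_poly : ∃ p : k[X], aeval (s * t + t * s) p = e
  u_poly : ∃ p : k[X], aeval (s * t + t * s) p = u
  ee : e * e = e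
  uz : u * (s * t + t * s) = e
  eu : e * u = u
  nil : IsNilpotent ((1 - e) * (s * t + t * s))
  ne : e ≠ 0

theorem aeval_commute {z x : A} (h : Commute z x) (p : k[X]) : Commute (aeval z p) x := by
  induction p using Polynomial.induction_on' with
  | add p q hp hq => rw [map_add]; exact hp.add_left hq
  | monomial n a => rw [aeval_monomial]; exact Commute.mul_left (Algebra.commutes a x) (h.pow_left n)

theorem exists_fit [FiniteDimensional k A] {s t : A} (hs : s * s = 0) (ht : t * t = 0)
    (hz : ¬ IsNilpotent (s * t + t * s)) : ∃ e u : A, Fit k s t e u := by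
  set z := s * t + t * s with hzdef
  have hint : IsIntegral k z := Algebra.IsIntegral.isIntegral z
  obtain ⟨q, hq, hXq⟩ := exists_eq_pow_rootMultiplicity_mul_and_not_dvd (minpoly k z) (minpoly.ne_zero hint) 0
  set n := rootMultiplicity 0 (minpoly k z)
  simp only [map_zero, sub_zero] at hq hXq
  have hcop : IsCoprime (X ^ (n + 1)) q := (irreducible_X.coprime_iff_not_dvd.2 hXq).pow_left
  obtain ⟨a, b, hab⟩ := hcop
  have h0 : aeval z (X ^ n * q) = 0 := by rw [← hq]; exact minpoly.aeval k z
  have hmul : ∀ f g : k[X], (X ^ n * q) ∣ f - g → aeval z f = aeval z g := by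
    rintro f g ⟨c, hc⟩
    rw [← sub_eq_zero, ← map_sub, hc, map_mul, h0, zero_mul]
  have hnil : (1 - aeval z (a * X ^ (n + 1))) * z ^ n = 0 := by
    have := hmul ((1 - a * X ^ (n + 1)) * X ^ n) 0 ⟨b, by linear_combination (-X ^ n) * hab⟩
    simpa using this
  refine ⟨aeval z (a * X ^ (n + 1)), aeval z (a * X ^ n), hs, ht, ⟨_, rfl⟩, ⟨_, rfl⟩, ?_, ?_, ?_, ?_, ?_⟩
  · rw [← map_mul]; exact hmul _ _ ⟨-(a * b * X), by linear_combination (a * X ^ (n + 1)) * hab⟩
  · rw [← hzdef, pow_succ, ← mul_assoc, map_mul _ _ X, aeval_X]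
  · rw [← map_mul]; exact hmul _ _ ⟨-(a * b), by linear_combination (a * X ^ n) * hab⟩
  · refine ⟨n + 1, ?_⟩
    have hc : Commute (1 - aeval z (a * X ^ (n + 1))) z :=
      (Commute.one_left z).sub_left (aeval_commute (Commute.refl z) _)
    rw [← hzdef, hc.mul_pow, pow_succ, pow_succ z, mul_assoc, ← mul_assoc _ (z ^ n), hnil]; simp
  · intro h
    rw [h, sub_zero, one_mul] at hnil
    exact hz ⟨n, hnil⟩

namespace Fit
variable {s t e u : A} (h : Fit k s t e u)
include h

theorem symm : Fit k t s e u := by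
  obtain ⟨h1, h2, h3, h4, h5, h6, h7, h8, h9⟩ := h
  rw [add_comm] at h3 h4 h6 h8
  exact ⟨h2, h1, h3, h4, h5, h6, h7, h8, h9⟩

theorem poly_s (p : k[X]) : Commute (aeval (s * t + t * s) p) s := aeval_commute (z_comm_left h.ss) p
theorem poly_t (p : k[X]) : Commute (aeval (s * t + t * s) p) t := aeval_commute (z_comm_right h.tt) p
theorem e_s : Commute e s := by obtain ⟨p, rfl⟩ := h.e_poly; exact h.poly_s p
theorem e_t : Commute e t := by obtain ⟨p, rfl⟩ := h.e_poly; exact h.poly_t p
theorem u_s : Commute u s := by obtain ⟨p, rfl⟩ := h.u_poly; exact h.poly_s p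
theorem u_t : Commute u t := by obtain ⟨p, rfl⟩ := h.u_poly; exact h.poly_t p
theorem poly_e (p : k[X]) : Commute (aeval (s * t + t * s) p) e :=
  aeval_commute ((h.e_s.mul_right h.e_t).add_right (h.e_t.mul_right h.e_s)).symm p
theorem poly_u (p : k[X]) : Commute (aeval (s * t + t * s) p) u :=
  aeval_commute ((h.u_s.mul_right h.u_t).add_right (h.u_t.mul_right h.u_s)).symm p
theorem ue : u * e = u := by
  obtain ⟨p, hp⟩ := h.u_poly
  have := h.poly_e p
  rw [hp] at this
  rw [this.eq, h.eu]
theorem usts : u * (s * t * s) = e * s := by rw [← z_mul_left h.ss, ← mul_assoc, h.uz]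
theorem utst : u * (t * s * t) = e * t := h.symm.usts

end Fit

variable (k) in
/-- the ideal of polynomials killed on the invertible part -/
def FitI (z e : A) : Ideal k[X] where
  carrier := {p | e * aeval z p = 0}
  zero_mem' := by simp
  add_mem' := fun {a b} ha hb => by
    simp only [Set.mem_ofPred_eq] at *; rw [map_add, mul_add, ha, hb, add_zero]
  smul_mem' := fun q p hp => by
    simp only [Set.mem_ofPred_eq] at *; rw [smul_eq_mul, mul_comm q, map_mul, ← mul_assoc, hp, zero_mul]

variable (k) in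
/-- the coordinate ring -/
abbrev FitR (z e : A) := k[X] ⧸ FitI k z e

variable (k) in
/-- embedding of the coordinate ring -/
noncomputable def psi (z e : A) : FitR k z e →ₗ[k] A :=
  (((FitI k z e).restrictScalars k).liftQ ((LinearMap.mulLeft k e).comp (aeval z).toLinearMap)
    (fun _ hp => hp)).comp (Submodule.Quotient.restrictScalarsEquiv k (FitI k z e)).symm.toLinearMap

theorem psi_mk (z e : A) (p : k[X]) : psi k z e (Ideal.Quotient.mk _ p) = e * aeval z p := rfl

theorem psi_inj (z e : A) {r : FitR k z e} (h : psi k z e r = 0) : r = 0 := by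
  obtain ⟨p, rfl⟩ := Ideal.Quotient.mk_surjective r
  exact Ideal.Quotient.eq_zero_iff_mem.2 h

instance instFiniteFitR [FiniteDimensional k A] (z e : A) : Module.Finite k (FitR k z e) :=
  Module.Finite.of_injective (psi k z e) ((injective_iff_map_eq_zero _).2 fun _ => psi_inj z e)

theorem adjoin_FitR (z e : A) : Algebra.adjoin k {(Ideal.Quotient.mk (FitI k z e) X)} = ⊤ :=
  adjoin_quot Polynomial.adjoin_X _

/-- matrix units -/
def eps (s t e u : A) : Fin 2 → Fin 2 → A := ![![u * s * t, e * s], ![u * t, u * t * s]]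

namespace Fit
variable {s t e u : A} (h : Fit k s t e u)
include h

theorem psi_one : psi k (s * t + t * s) e 1 = e := by
  rw [← map_one (Ideal.Quotient.mk _), psi_mk]; simp

theorem psi_mul (a b : FitR k (s * t + t * s) e) :
    psi k _ e (a * b) = psi k _ e a * psi k _ e b := by
  obtain ⟨p, rfl⟩ := Ideal.Quotient.mk_surjective a
  obtain ⟨q, rfl⟩ := Ideal.Quotient.mk_surjective b
  rw [← map_mul, psi_mk, psi_mk, psi_mk, map_mul, mul_assoc, ← mul_assoc _ e, (h.poly_e p).eq, ← mul_assoc,
    ← mul_assoc, ← mul_assoc, h.ee]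

theorem psi_e (a : FitR k (s * t + t * s) e) : psi k _ e a * e = psi k _ e a := by
  conv_rhs => rw [← mul_one a, h.psi_mul, h.psi_one]

theorem e_psi (a : FitR k (s * t + t * s) e) : e * psi k _ e a = psi k _ e a := by
  conv_rhs => rw [← one_mul a, h.psi_mul, h.psi_one]

theorem psi_s (a : FitR k (s * t + t * s) e) : Commute (psi k _ e a) s := by
  obtain ⟨p, rfl⟩ := Ideal.Quotient.mk_surjective a
  exact h.e_s.mul_left (h.poly_s p)

theorem psi_t (a : FitR k (s * t + t * s) e) : Commute (psi k _ e a) t := by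
  obtain ⟨p, rfl⟩ := Ideal.Quotient.mk_surjective a
  exact h.e_t.mul_left (h.poly_t p)

theorem psi_u (a : FitR k (s * t + t * s) e) : Commute (psi k _ e a) u := by
  obtain ⟨p, rfl⟩ := Ideal.Quotient.mk_surjective a
  exact Commute.mul_left (h.eu.trans h.ue.symm) (h.poly_u p)

theorem psi_algebraMap (c : k) : psi k (s * t + t * s) e (algebraMap k _ c) = c • e := by
  rw [Algebra.algebraMap_eq_smul_one, map_smul, h.psi_one]

theorem psi_X_u : psi k (s * t + t * s) e (Ideal.Quotient.mk _ X) * u = e := by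
  rw [(h.psi_u _).eq, psi_mk, aeval_X, ← mul_assoc, h.ue, h.uz]

theorem isUnit_X : IsUnit (Ideal.Quotient.mk (FitI k (s * t + t * s) e) X) := by
  obtain ⟨p, hp⟩ := h.u_poly
  refine IsUnit.of_mul_eq_one (Ideal.Quotient.mk _ p) ?_
  rw [← sub_eq_zero]
  apply psi_inj
  rw [map_sub, h.psi_mul, psi_mk _ _ p, hp, h.eu, h.psi_X_u, h.psi_one, sub_self]

theorem nontrivial : Nontrivial (FitR k (s * t + t * s) e) :=
  ⟨⟨1, 0, fun e' => h.ne (by rw [← h.psi_one, e', map_zero])⟩⟩

theorem psi_eps (a : FitR k (s * t + t * s) e) (i j : Fin 2) : Commute (psi k _ e a) (eps s t e u i j) := by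
  have he : Commute (psi k _ e a) e := (h.psi_e a).trans (h.e_psi a).symm
  fin_cases i <;> fin_cases j
  · exact ((h.psi_u a).mul_right (h.psi_s a)).mul_right (h.psi_t a)
  · exact he.mul_right (h.psi_s a)
  · exact (h.psi_u a).mul_right (h.psi_t a)
  · exact ((h.psi_u a).mul_right (h.psi_t a)).mul_right (h.psi_s a)

theorem eps_add : eps s t e u 0 0 + eps s t e u 1 1 = e := by
  simp only [eps, cons_val_zero, cons_val_one, mul_assoc]
  rw [← mul_add, h.uz]

theorem eps_mul (i j l m : Fin 2) :
    eps s t e u i j * eps s t e u l m = if j = l then eps s t e u i m else 0 := by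
  have su : ∀ x, s * (u * x) = u * (s * x) := fun x => by rw [← mul_assoc, ← h.u_s.eq, mul_assoc]
  have tu : ∀ x, t * (u * x) = u * (t * x) := fun x => by rw [← mul_assoc, ← h.u_t.eq, mul_assoc]
  have se : ∀ x, s * (e * x) = e * (s * x) := fun x => by rw [← mul_assoc, ← h.e_s.eq, mul_assoc]
  have te : ∀ x, t * (e * x) = e * (t * x) := fun x => by rw [← mul_assoc, ← h.e_t.eq, mul_assoc]
  have ue' : ∀ x, u * (e * x) = u * x := fun x => by rw [← mul_assoc, h.ue]
  have eu' : ∀ x, e * (u * x) = u * x := fun x => by rw [← mul_assoc, h.eu]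
  have ee' : ∀ x, e * (e * x) = e * x := fun x => by rw [← mul_assoc, h.ee]
  have ss' : ∀ x, s * (s * x) = 0 := fun x => by rw [← mul_assoc, h.ss, zero_mul]
  have tt' : ∀ x, t * (t * x) = 0 := fun x => by rw [← mul_assoc, h.tt, zero_mul]
  have sts : u * (s * (t * s)) = e * s := by rw [← h.usts, mul_assoc]
  have tst : u * (t * (s * t)) = e * t := by rw [← h.utst, mul_assoc]
  have sts' : ∀ x, u * (s * (t * (s * x))) = e * (s * x) := fun x => by
    rw [← mul_assoc e, ← sts]; simp only [mul_assoc]
  have tst' : ∀ x, u * (t * (s * (t * x))) = e * (t * x) := fun x => by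
    rw [← mul_assoc e, ← tst]; simp only [mul_assoc]
  fin_cases i <;> fin_cases j <;> fin_cases l <;> fin_cases m <;>
    simp [eps, mul_assoc, su, tu, se, te, ue', eu', ee', ss', tt', sts, tst, sts', tst', h.ss, h.tt]

theorem e_eps (i j : Fin 2) : e * eps s t e u i j = eps s t e u i j := by
  nth_rewrite 1 [← h.eps_add]
  rw [add_mul, h.eps_mul, h.eps_mul]
  fin_cases i <;> simp

theorem eps_e (i j : Fin 2) : eps s t e u i j * e = eps s t e u i j := by
  nth_rewrite 2 [← h.eps_add]
  rw [mul_add, h.eps_mul, h.eps_mul]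
  fin_cases j <;> simp

/-- the representation of matrices -/
noncomputable def PhiM : Matrix (Fin 2) (Fin 2) (FitR k (s * t + t * s) e) →* A where
  toFun g := (1 - e) + ∑ i, ∑ j, psi k _ e (g i j) * eps s t e u i j
  map_one' := by
    simp [h.psi_one, h.e_eps, h.eps_add]
  map_mul' g g' := by
    have k1 : ∀ a b i j l m, psi k (s * t + t * s) e a * eps s t e u i j * (psi k _ e b * eps s t e u l m) =
        if j = l then psi k _ e (a * b) * eps s t e u i m else 0 := by
      intro a b i j l m
      rw [mul_assoc, ← mul_assoc (eps s t e u i j), ← (h.psi_eps b i j).eq, mul_assoc, h.eps_mul, h.psi_mul]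
      split_ifs <;> simp [mul_assoc]
    have k2 : ∀ a i j, (1 - e) * (psi k (s * t + t * s) e a * eps s t e u i j) = 0 := by
      intro a i j
      rw [sub_mul, one_mul, ← mul_assoc, h.e_psi, sub_self]
    have k3 : ∀ a i j, (psi k (s * t + t * s) e a * eps s t e u i j) * (1 - e) = 0 := by
      intro a i j
      rw [mul_sub, mul_one, mul_assoc, h.eps_e, sub_self]
    have k4 : (1 - e) * (1 - e) = 1 - e := by rw [mul_sub, mul_one, sub_mul, one_mul, h.ee]; simp
    simp only [Matrix.mul_apply, Fin.sum_univ_two, map_add, add_mul, mul_add, k1, k2, k3, k4]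
    simp
    abel

/-- the representation of `SL₂` -/
noncomputable def Phi : SL(2, FitR k (s * t + t * s) e) →* Aˣ :=
  (Units.map h.PhiM).comp Matrix.SpecialLinearGroup.toGL

theorem Phi_val (g : SL(2, FitR k (s * t + t * s) e)) :
    (h.Phi g : A) = (1 - e) + ∑ i, ∑ j, psi k _ e (g.1 i j) * eps s t e u i j := rfl

theorem Phi_xU (r : FitR k (s * t + t * s) e) : (h.Phi (xU r) : A) = 1 + psi k _ e r * s := by
  have := h.eps_add
  simp only [Phi_val, Fin.sum_univ_two, xU_coe]
  simp only [of_apply, cons_val', cons_val_zero, cons_val_one, cons_val_fin_one, h.psi_one, h.e_eps,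
    map_zero, zero_mul]
  have e1 : psi k _ e r * eps s t e u 0 1 = psi k _ e r * s := by
    simp only [eps, cons_val_zero, cons_val_one]; rw [← mul_assoc, h.psi_e]
  rw [e1]
  linear_combination (norm := abel1) this

theorem Phi_xL (r : FitR k (s * t + t * s) e) : (h.Phi (xL r) : A) = 1 + psi k _ e r * (u * t) := by
  have := h.eps_add
  simp only [Phi_val, Fin.sum_univ_two, xL_coe]
  simp only [of_apply, cons_val', cons_val_zero, cons_val_one, cons_val_fin_one, h.psi_one, h.e_eps,
    map_zero, zero_mul]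
  have e1 : eps s t e u 1 0 = u * t := rfl
  rw [e1]
  linear_combination (norm := abel1) this

theorem Phi_neg_one : (h.Phi (-1) : A) = 1 - 2 * e := by
  have := h.eps_add
  simp only [Phi_val, Fin.sum_univ_two]
  simp [h.psi_one, h.e_eps]
  rw [two_mul]
  linear_combination (norm := abel1) -this

theorem Phi_xU_k (c : k) : (h.Phi (xU (algebraMap k _ c)) : A) = 1 + c • (e * s) := by
  rw [h.Phi_xU, h.psi_algebraMap, smul_mul_assoc]

theorem Phi_xL_k (c : k) :
    (h.Phi (xL (algebraMap k _ c * Ideal.Quotient.mk _ X)) : A) = 1 + c • (e * t) := by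
  rw [h.Phi_xL, h.psi_mul, h.psi_algebraMap, mul_assoc, ← mul_assoc _ u, h.psi_X_u, smul_mul_assoc,
    ← mul_assoc, h.ee]

theorem Phi_sub (g : SL(2, FitR k (s * t + t * s) e)) : (1 - e) * (h.Phi g : A) = 1 - e := by
  have k2 : ∀ a i j, (1 - e) * (psi k (s * t + t * s) e a * eps s t e u i j) = 0 := by
    intro a i j
    rw [sub_mul, one_mul, ← mul_assoc, h.e_psi, sub_self]
  have k4 : (1 - e) * (1 - e) = 1 - e := by rw [mul_sub, mul_one, sub_mul, one_mul, h.ee]; simp
  simp only [Phi_val, Fin.sum_univ_two, mul_add, k2, k4, add_zero]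

theorem psi_eps_eq_zero {r : FitR k (s * t + t * s) e} {i j : Fin 2} (e0 : psi k _ e r * eps s t e u i j = 0) :
    r = 0 := by
  apply psi_inj
  have k1 : ∀ l, psi k _ e r * eps s t e u l l = 0 := by
    intro l
    have : eps s t e u l i * (psi k _ e r * eps s t e u i j) * eps s t e u j l = psi k _ e r * eps s t e u l l := by
      rw [← mul_assoc, ← (h.psi_eps r l i).eq, mul_assoc, mul_assoc, h.eps_mul, if_pos rfl, h.eps_mul, if_pos rfl]
    rw [← this, e0]; simp
  have := congrArg (psi k _ e r * ·) h.eps_add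
  simp only [mul_add, k1, add_zero, h.psi_e] at this
  exact this.symm

theorem Phi_injective : Function.Injective h.Phi := by
  rw [injective_iff_map_eq_one]
  intro g hg
  have h1 : (h.Phi g : A) = (h.Phi 1 : A) := by rw [hg, map_one]
  rw [Phi_val, Phi_val, add_right_inj, ← sub_eq_zero] at h1
  simp only [← Finset.sum_sub_distrib, ← sub_mul, ← map_sub] at h1
  apply Subtype.ext
  ext i j
  rw [← sub_eq_zero]
  refine h.psi_eps_eq_zero (i := i) (j := j) ?_
  have k1 : ∀ a l m, eps s t e u i i * (psi k (s * t + t * s) e a * eps s t e u l m) * eps s t e u j j =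
      if i = l ∧ m = j then psi k _ e a * eps s t e u i j else 0 := by
    intro a l m
    rw [← mul_assoc, ← (h.psi_eps a i i).eq, mul_assoc, mul_assoc, h.eps_mul]
    by_cases h1 : m = j
    · rw [if_pos h1, h.eps_mul]
      by_cases h2 : i = l <;> simp [h1, h2]
    · simp [h1]
  have := congrArg (fun x => eps s t e u i i * x * eps s t e u j j) h1
  simp only [Fin.sum_univ_two, mul_add, add_mul, k1, mul_zero, zero_mul] at this
  fin_cases i <;> fin_cases j <;> simpa using this

end Fit

end CfsgH9
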