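import Cfsg.Agent.H9.QuadMod

set_option autoImplicit false

namespace CfsgH9
open Cfsg

variable {G : Type*} [Group G] {A B : Subgroup G}

open Classical in
/-- the partner `b(a)` -/
noncomputable def prt (A B : Subgroup G) (a : G) : G :=
  if h : ∃ b ∈ B, b ≠ 1 ∧ cj b A = cj a B then h.choose else 1

theorem prt_spec (h : IsRankOnePair A B) {a : G} (ha : a ∈ A) (ha1 : a ≠ 1) :
    prt A B a ∈ B ∧ prt A B a ≠ 1 ∧ cj (prt A B a) A = cj a B := by
  have := r1_ex h ha ha1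
  unfold prt
  rw [dif_pos this]
  exact this.choose_spec

theorem prt_eq (h : IsRankOnePair A B) {a b : G} (ha : a ∈ A) (ha1 : a ≠ 1) (hb : b ∈ B)
    (e : cj b A = cj a B) : prt A B a = b :=
  r1_eq_of_cj_eq (r1_symm h) (prt_spec h ha ha1).1 hb ((prt_spec h ha ha1).2.2.trans e.symm)

/-- the element `n(a)` interchanging the two unipotent subgroups -/
noncomputable def mu (A B : Subgroup G) (a : G) : G := a * (prt A B a)⁻¹ * a

theorem mu_mem (h : IsRankOnePair A B) {a : G} (ha : a ∈ A) (ha1 : a ≠ 1) : mu A B a ∈ A ⊔ B :=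
  Subgroup.mul_mem _ (Subgroup.mul_mem_sup ha (B.inv_mem (prt_spec h ha ha1).1)) (Subgroup.mem_sup_left ha)

theorem mu_cj_right (h : IsRankOnePair A B) {a : G} (ha : a ∈ A) (ha1 : a ≠ 1) : cj (mu A B a) B = A := by
  unfold mu
  rw [← cj_cj, ← (prt_spec h ha ha1).2.2, ← cj_cj, cj_inv_cj, cj_of_mem ha]

section Sp
variable (hs : IsSpecialRankOnePair A B)
include hs

theorem mu_braid {a : G} (ha : a ∈ A) (ha1 : a ≠ 1) :
    mu A B a = (prt A B a)⁻¹ * a * (prt A B a)⁻¹ := by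
  obtain ⟨h1, h2, h3⟩ := prt_spec hs.1 ha ha1
  have := special_eq hs ha ha1 h1 h2 h3
  unfold mu
  calc _ = (a * (prt A B a)⁻¹ * a⁻¹) * a * a := by group
    _ = (prt A B a)⁻¹ * (prt A B a * (a * (prt A B a)⁻¹ * a⁻¹) * a * a) := by group
    _ = _ := by
      have h4 : a * (prt A B a)⁻¹ * a = (prt A B a)⁻¹ * a * (prt A B a)⁻¹ := by
        have h5 := congrArg (·⁻¹) this
        simp only [mul_inv_rev, inv_inv] at h5
        calc _ = (prt A B a)⁻¹ * (prt A B a * a * (prt A B a)⁻¹) * a := by group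
          _ = _ := by
            rw [this]
            calc _ = (prt A B a)⁻¹ * a * (prt A B a)⁻¹ := by group
              _ = _ := rfl
      rw [← h4]; group

theorem mu_conj_left {a : G} (ha : a ∈ A) (ha1 : a ≠ 1) :
    mu A B a * a * (mu A B a)⁻¹ = (prt A B a)⁻¹ := by
  rw [mul_inv_eq_iff_eq_mul]
  nth_rewrite 1 [mu_braid hs ha ha1]
  unfold mu; group

theorem mu_conj_right {a : G} (ha : a ∈ A) (ha1 : a ≠ 1) :
    mu A B a * prt A B a * (mu A B a)⁻¹ = a⁻¹ := by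
  rw [mul_inv_eq_iff_eq_mul]
  nth_rewrite 1 [mu_braid hs ha ha1]
  unfold mu; group

theorem mu_cj_left {a : G} (ha : a ∈ A) (ha1 : a ≠ 1) : cj (mu A B a) A = B := by
  obtain ⟨h1, h2, h3⟩ := prt_spec hs.1 ha ha1
  have hm := mu_mem hs.1 ha ha1
  refine (eq_of_fix_Om hs.1 (right_mem_Om hs.1) (cj_mem_Om hm left_mem_Om) (B.inv_mem h1)
    (inv_ne_one.2 h2) ?_).symm
  rw [← mu_conj_left hs ha ha1]
  exact cj_of_mem (conj_mem_cj ha)

theorem prt_inv {a : G} (ha : a ∈ A) (ha1 : a ≠ 1) : prt A B a⁻¹ = (prt A B a)⁻¹ := by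
  refine prt_eq hs.1 (A.inv_mem ha) (inv_ne_one.2 ha1) (B.inv_mem (prt_spec hs.1 ha ha1).1) ?_
  have := mu_cj_left hs ha ha1
  unfold mu at this
  rw [cj_mul_of_mem _ ha, ← cj_cj, cj_eq_iff] at this
  exact this

theorem mu_inv {a : G} (ha : a ∈ A) (ha1 : a ≠ 1) : mu A B a⁻¹ = (mu A B a)⁻¹ := by
  unfold mu
  rw [prt_inv hs ha ha1]; group

end Sp

theorem swap_act (h : IsRankOnePair A B) {τ x : G} (h1 : cj τ A = B) (h2 : cj τ B = A) (hx : x ∈ A)
    (hx1 : x ≠ 1) : τ * prt A B x * τ⁻¹ ∈ A ∧ cj (τ * x) B = cj (τ * prt A B x * τ⁻¹) B := by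
  obtain ⟨h3, -, h5⟩ := prt_spec h hx hx1
  generalize prt A B x = b at *
  refine ⟨h2 ▸ conj_mem_cj h3, ?_⟩
  rw [← cj_cj, ← h5, cj_cj, ← cj_cj _ τ⁻¹, (cj_eq_iff.1 h1).symm]

theorem central_of_fix_all (h : IsRankOnePair A B) {z : G} (hz : ∀ F ∈ Om A B, cj z F = F) :
    ∀ x ∈ A ⊔ B, z * x = x * z := by
  have key : ∀ {A B : Subgroup G}, IsRankOnePair A B → (∀ F ∈ Om A B, cj z F = F) →
      ∀ a ∈ A, z * a = a * z := by
    intro A B h hz a ha
    have h1 : z * a * z⁻¹ * a⁻¹ ∈ A := by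
      refine A.mul_mem ?_ (A.inv_mem ha)
      rw [← hz A left_mem_Om]; exact conj_mem_cj ha
    have := r1_eq_one_of_fix h h1 (by
      rw [← cj_cj, ← cj_cj, cj_inv_of_fix (hz _ (cj_mem_Om (Subgroup.mem_sup_left (A.inv_mem ha))
        (right_mem_Om h))), ← cj_cj, cj_cj_inv, hz _ (right_mem_Om h)])
    rw [mul_inv_eq_one, mul_inv_eq_iff_eq_mul] at this
    exact this
  exact comm_of_mem_sup (key h hz) (key (r1_symm h) (by rwa [Om_symm h]))

section Ab
variable (hs : IsSpecialRankOnePair A B) (hA : Comm A A) (hB : Comm B B)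
include hs hA hB

/-- the basic identity, in three forms -/
theorem mu_identity {y z : G} (hy : y ∈ A) (hy1 : y ≠ 1) (hz : z ∈ A) (hz1 : z ≠ 1) (hyz : y * z ≠ 1) :
    y⁻¹ * (mu A B y * prt A B z * (mu A B y)⁻¹) =
      (y * z) * (mu A B (y * z) * prt A B z * (mu A B (y * z))⁻¹) ∧
    (mu A B (y * z))⁻¹ * prt A B z * mu A B (y * z) = mu A B (y * z) * prt A B z * (mu A B (y * z))⁻¹ := by
  have h := hs.1
  have hx := A.mul_mem hy hz
  set x := y * z with hxdef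
  have general : ∀ {y x z : G}, y ∈ A → y ≠ 1 → x ∈ A → z ∈ A → z ≠ 1 → x = y * z →
      y⁻¹ * (mu A B y * prt A B z * (mu A B y)⁻¹) ∈ A ∧
      cj ((prt A B y)⁻¹ * x) B = cj (y⁻¹ * (mu A B y * prt A B z * (mu A B y)⁻¹)) B := by
    intro y x z hy hy1 hx hz hz1 e
    obtain ⟨h1, h2⟩ := swap_act h (mu_cj_left hs hy hy1) (mu_cj_right h hy hy1) hz hz1
    refine ⟨A.mul_mem (A.inv_mem hy) h1, ?_⟩
    rw [← cj_cj y⁻¹, ← h2, cj_cj, e]
    congr 1
    unfold mu; group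
  obtain ⟨w1, e1⟩ := general hy hy1 hx hz hz1 rfl
  obtain ⟨w2, e2⟩ := general (A.inv_mem hx) (inv_ne_one.2 hyz) (A.inv_mem hy) hz hz1
    (by rw [hxdef, hA y hy z hz]; group)
  obtain ⟨w3, e3⟩ := general hx hyz hy (A.inv_mem hz) (inv_ne_one.2 hz1) (by rw [hxdef]; group)
  obtain ⟨py, py1, py2⟩ := prt_spec h hy hy1
  obtain ⟨px, px1, px2⟩ := prt_spec h hx hyz
  rw [prt_inv hs hx hyz, mu_inv hs hx hyz, inv_inv, inv_inv, inv_inv] at e2
  rw [mu_inv hs hx hyz, inv_inv, inv_inv] at w2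
  rw [prt_inv hs hz hz1] at e3 w3
  have f1 : cj ((prt A B y)⁻¹ * x) B = cj ((prt A B y)⁻¹ * prt A B x) A := by
    rw [← cj_cj, ← px2, cj_cj]
  have f2 : cj (prt A B x * y⁻¹) B = cj ((prt A B y)⁻¹ * prt A B x) A := by
    rw [← cj_cj, ← (prt_spec h (A.inv_mem hy) (inv_ne_one.2 hy1)).2.2, cj_cj, prt_inv hs hy hy1,
      hB _ px _ (B.inv_mem py)]
  have f3 : cj ((prt A B x)⁻¹ * y) B = cj ((prt A B x)⁻¹ * prt A B y) A := by
    rw [← cj_cj, ← py2, cj_cj]
  have g12 := r1_eq_of_cj_eq h w1 w2 (by rw [← e1, ← e2, f1, f2])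
  set w := y⁻¹ * (mu A B y * prt A B z * (mu A B y)⁻¹) with hw
  have hw1 : w ≠ 1 := by
    intro e
    rw [e, cj_one, f1, cj_eq_iff, cj_of_mem (B.inv_mem (B.mul_mem (B.inv_mem py) px))] at e1
    exact h.ne e1
  have hpw : prt A B w = (prt A B y)⁻¹ * prt A B x :=
    prt_eq h w1 hw1 (B.mul_mem (B.inv_mem py) px) (by rw [← f1, e1])
  have g13 := r1_eq_of_cj_eq h (A.inv_mem w1) w3 (by
    rw [← e3, f3, ← (prt_spec h (A.inv_mem w1) (inv_ne_one.2 hw1)).2.2, prt_inv hs w1 hw1, hpw]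
    simp)
  have hm := (swap_act h (mu_cj_left hs hx hyz) (mu_cj_right h hx hyz) hz hz1).1
  have g : w = x * (mu A B x * prt A B z * (mu A B x)⁻¹) := by
    rw [hA _ hx _ hm, ← inv_inj, g13]; group
  exact ⟨g, mul_left_cancel (g12.symm.trans g)⟩

theorem mu_sq_central {x : G} (hx : x ∈ A) (hx1 : x ≠ 1) :
    ∀ g ∈ A ⊔ B, (mu A B x * mu A B x) * g = g * (mu A B x * mu A B x) := by
  have h := hs.1
  have h1 := mu_cj_left hs hx hx1
  have h2 := mu_cj_right h hx hx1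
  refine central_of_fix_all h fun F hF => ?_
  rcases (mem_Om_iff h).1 hF with rfl | ⟨z, hz, rfl⟩
  · rw [← cj_cj, h1, h2]
  by_cases hz1 : z = 1
  · rw [hz1, cj_one, ← cj_cj, h2, h1]
  have h3 : (mu A B x)⁻¹ * prt A B z * mu A B x = mu A B x * prt A B z * (mu A B x)⁻¹ := by
    by_cases hxz : z = x
    · rw [hxz, mu_conj_right hs hx hx1, ← inv_inj, inv_inv, mul_inv_rev, mul_inv_rev, inv_inv,
        ← mu_conj_left hs hx hx1]
      group
    · have := (mu_identity hs hA hB (A.mul_mem hx (A.inv_mem hz)) (by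
        rw [Ne, mul_inv_eq_one]; exact fun e => hxz e.symm) hz hz1 (by simpa using hx1)).2
      simpa using this
  have h4 := (swap_act h h1 h2 hz hz1).2
  have h5 := (swap_act h (τ := (mu A B x)⁻¹) (cj_eq_iff.1 h2).symm (cj_eq_iff.1 h1).symm hz hz1).2
  rw [inv_inv, h3, ← h4] at h5
  rw [← cj_cj, cj_cj (mu A B x) z, ← h5, cj_cj]; simp

theorem mu_pow_formula {z : G} (hz : z ∈ A) (hz1 : z ≠ 1) (k : ℕ) (hk : z ^ k ≠ 1) :
    mu A B (z ^ k) * prt A B z * (mu A B (z ^ k))⁻¹ = (z ^ (k ^ 2))⁻¹ := by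
  induction k with
  | zero => simp at hk
  | succ k ih =>
    by_cases hk0 : z ^ k = 1
    · have e : z ^ (k + 1) = z := by rw [pow_succ, hk0, one_mul]
      have e2 : z ^ ((k + 1) ^ 2) = z := by
        rw [show (k + 1) ^ 2 = k * (k + 2) + 1 by ring, pow_succ, pow_mul, hk0, one_pow, one_mul]
      rw [e, e2, mu_conj_right hs hz hz1]
    · have := (mu_identity hs hA hB (A.pow_mem hz k) hk0 hz hz1 (by rwa [← pow_succ])).1
      rw [ih hk0, ← pow_succ, eq_comm, ← eq_inv_mul_iff_mul_eq] at this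
      rw [this]; group

theorem pow_sq_ne_one {z : G} (hz : z ∈ A) (k : ℕ) (hk : z ^ k ≠ 1) : z ^ (k ^ 2) ≠ 1 := by
  have hz1 : z ≠ 1 := by rintro rfl; simp at hk
  intro e
  have := mu_pow_formula hs hA hB hz hz1 k hk
  rw [e, inv_one, mul_inv_eq_one, mul_eq_left] at this
  exact (prt_spec hs.1 hz hz1).2.1 this

theorem prt_pow_pow {z : G} (hz : z ∈ A) (k : ℕ) (hk : z ^ k ≠ 1) : prt A B (z ^ k) ^ k = prt A B z := by
  have hz1 : z ≠ 1 := by rintro rfl; simp at hk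
  have h1 := mu_pow_formula hs hA hB hz hz1 k hk
  have h2 := mu_conj_right hs (A.pow_mem hz k) hk
  have h3 : mu A B (z ^ k) * prt A B (z ^ k) ^ k * (mu A B (z ^ k))⁻¹ = (z ^ (k ^ 2))⁻¹ := by
    rw [← conj_pow, h2, inv_pow, ← pow_mul, pow_two]
  simpa using h3.trans h1.symm

theorem exists_root {z : G} (hz : z ∈ A) (k : ℕ) (hk : z ^ k ≠ 1) : ∃ c ∈ A, c ^ k = z := by
  have hz1 : z ≠ 1 := by rintro rfl; simp at hk
  have h1 := mu_pow_formula hs hA hB hz hz1 k hk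
  have h2 := mu_conj_left hs hz hz1
  set g := mu A B (z ^ k) * mu A B z with hg
  have h3 : g * z * g⁻¹ = z ^ (k ^ 2) := by
    rw [← inv_inv (z ^ (k ^ 2)), ← h1, mul_inv_rev (_ * prt A B z), mul_inv_rev _ (prt A B z), ← h2, hg]
    group
  have h4 : cj g A = A := by
    rw [hg, ← cj_cj, mu_cj_left hs hz hz1, mu_cj_right hs.1 (A.pow_mem hz k) hk]
  refine ⟨(g⁻¹ * z * g) ^ k, A.pow_mem (by rw [← mem_cj, h4]; exact hz) k, ?_⟩
  rw [← pow_mul, ← pow_two]
  have := conj_pow (i := k ^ 2) (a := g⁻¹) (b := z)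
  rw [inv_inv] at this
  rw [this, ← h3]; group

theorem pow_two_mul_eq_one {y z : G} (hy : y ∈ A) (hz : z ∈ A) (hz1 : z ≠ 1) {p : ℕ} (hp : z ^ p = 1)
    (hyp : y ^ p ≠ 1) : y ^ (2 * p) = 1 := by
  have hc : Commute y z := hA y hy z hz
  have hne : ∀ j : ℕ, y * z ^ j ≠ 1 := by
    intro j e
    apply hyp
    rw [eq_inv_of_mul_eq_one_left e, inv_pow, ← pow_mul, mul_comm, pow_mul, hp]; simp
  have hy1 : y ≠ 1 := by simpa using hne 0
  have hu := (swap_act hs.1 (mu_cj_left hs hy hy1) (mu_cj_right hs.1 hy hy1) hz hz1).1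
  have key : ∀ k : ℕ, mu A B (y * z ^ k) * prt A B z * (mu A B (y * z ^ k))⁻¹ =
      (y ^ (2 * k))⁻¹ * (z ^ (k ^ 2))⁻¹ * (mu A B y * prt A B z * (mu A B y)⁻¹) := by
    intro k
    induction k with
    | zero => simp
    | succ k ih =>
      have := (mu_identity hs hA hB (A.mul_mem hy (A.pow_mem hz k)) (hne k) hz hz1
        (by rw [mul_assoc, ← pow_succ]; exact hne _)).1
      rw [ih, mul_assoc y, ← pow_succ, eq_comm, ← eq_inv_mul_iff_mul_eq] at this
      rw [this, ← mul_assoc, ← mul_assoc]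
      congr 1
      rw [← mul_inv_rev, ← mul_inv_rev, ← mul_inv_rev, ← mul_inv_rev, inv_inj]
      have h1 : ∀ i j : ℕ, z ^ i * y ^ j = y ^ j * z ^ i := fun i j => (hc.symm.pow_pow i j).eq
      calc z ^ k ^ 2 * y ^ (2 * k) * (y * z ^ k * (y * z ^ (k + 1)))
          = z ^ k ^ 2 * y ^ (2 * k + 1) * (z ^ k * y ^ 1) * z ^ (k + 1) := by group
        _ = z ^ k ^ 2 * (y ^ (2 * k + 2) * z ^ (2 * k + 1)) := by rw [h1 k 1]; group
        _ = _ := by rw [← h1]; group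
  have := key p
  rw [hp, mul_one, pow_two, pow_mul z, hp] at this
  simpa using this

theorem pow_eq_one_of_prime {z : G} (hz : z ∈ A) (hz1 : z ≠ 1) {p : ℕ} (hpp : p.Prime) (hp : z ^ p = 1) :
    ∀ y ∈ A, y ^ p = 1 := by
  have two : ∀ z ∈ A, z ≠ 1 → z ^ 2 = 1 → ∀ y ∈ A, y ^ 2 = 1 := by
    intro z hz hz1 h2 y hy
    by_contra hy2
    exact pow_sq_ne_one hs hA hB hy 2 hy2 (pow_two_mul_eq_one hs hA hB hy hz hz1 h2 hy2)
  intro y hy
  by_contra hyp
  have h1 := pow_two_mul_eq_one hs hA hB hy hz hz1 hp hyp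
  rw [mul_comm, pow_mul] at h1
  have h2 := two _ (A.pow_mem hy p) hyp h1
  rcases hpp.eq_two_or_odd' with rfl | ⟨k, rfl⟩
  · exact hyp (h2 y hy)
  · rw [pow_succ, pow_mul, h2 z hz] at hp
    exact hz1 (by simpa using hp)

theorem le_commutator_diagonal (hc : 3 < ENat.card A) : A ≤ ⁅A, rankOneDiagonal A B⁆ := by
  intro u hu
  by_cases hu1 : u = 1
  · rw [hu1]; exact Subgroup.one_mem _
  have hex : ∃ y ∈ A, y ≠ 1 ∧ y ≠ u ∧ y * y ≠ u := by
    by_contra hn
    push Not at hn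
    have : ∃ y y' : A, y ≠ y' ∧ (y : G) ≠ 1 ∧ (y : G) ≠ u ∧ (y' : G) ≠ 1 ∧ (y' : G) ≠ u := by
      by_contra hn2
      push Not at hn2
      by_cases hex : ∃ y : A, (y : G) ≠ 1 ∧ (y : G) ≠ u
      · obtain ⟨y, h1, h2⟩ := hex
        have : (Set.univ : Set A) ⊆ {1, ⟨u, hu⟩, y} := by
          intro y' _
          by_contra hy'
          simp only [Set.mem_insert_iff, Set.mem_singleton_iff, not_or] at hy'
          exact hy'.2.1 (Subtype.ext (hn2 y y' (Ne.symm hy'.2.2) h1 h2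
            (fun e => hy'.1 (Subtype.ext e))))
        have h3 := Set.encard_le_encard this
        rw [Set.encard_univ] at h3
        have h4 : ({1, ⟨u, hu⟩, y} : Set A).encard ≤ 3 :=
          (Set.encard_insert_le _ _).trans (by
            have := Set.encard_insert_le ({y} : Set A) ⟨u, hu⟩
            rw [Set.encard_singleton] at this
            calc _ ≤ (1 + 1) + 1 := add_le_add_left this 1
              _ = 3 := by norm_num)
        exact absurd (h3.trans h4) (not_le.2 hc)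
      · push Not at hex
        have : (Set.univ : Set A) ⊆ {1, ⟨u, hu⟩} := by
          intro y' _
          by_cases h1 : (y' : G) = 1
          · left; exact Subtype.ext h1
          · right; exact Subtype.ext (hex y' h1)
        have h3 := Set.encard_le_encard this
        rw [Set.encard_univ] at h3
        have h4 := Set.encard_insert_le ({⟨u, hu⟩} : Set A) 1
        rw [Set.encard_singleton] at h4
        have := hc.trans_le (h3.trans h4)
        norm_num at this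
    obtain ⟨y, y', hne, h1, h2, h3, h4⟩ := this
    have e1 := hn y y.2 h1 h2
    have e2 := hn y' y'.2 h3 h4
    have hcm : Commute (y : G) y' := hA y y.2 y' y'.2
    have ht : ((y : G) * (y' : G)⁻¹) ^ 2 = 1 := by
      rw [hcm.inv_right.mul_pow, inv_pow, pow_two, pow_two, e1, e2]; simp
    have ht1 : (y : G) * (y' : G)⁻¹ ≠ 1 := by
      rw [Ne, mul_inv_eq_one]; exact fun e => hne (Subtype.ext e)
    have := pow_eq_one_of_prime hs hA hB (A.mul_mem y.2 (A.inv_mem y'.2)) ht1 Nat.prime_two ht y y.2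
    rw [pow_two, e1] at this
    exact hu1 this
  obtain ⟨y, hy, hy1, hyu, hyy⟩ := hex
  have hz : y⁻¹ * y⁻¹ * u ∈ A := A.mul_mem (A.mul_mem (A.inv_mem hy) (A.inv_mem hy)) hu
  set z := y⁻¹ * y⁻¹ * u with hzdef
  have hz1 : z ≠ 1 := by
    rw [hzdef, ← mul_inv_rev, Ne, inv_mul_eq_one]; exact hyy
  have hyz : y * z ≠ 1 := by
    rw [hzdef, mul_assoc, mul_inv_cancel_left, Ne, inv_mul_eq_one]; exact hyu
  have h1 := (mu_identity hs hA hB hy hy1 hz hz1 hyz).1
  have hv := (swap_act hs.1 (mu_cj_left hs hy hy1) (mu_cj_right hs.1 hy hy1) hz hz1).1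
  set v := mu A B y * prt A B z * (mu A B y)⁻¹ with hvdef
  have hyzA := A.mul_mem hy hz
  have hg : mu A B (y * z) * (mu A B y)⁻¹ ∈ rankOneDiagonal A B := by
    refine ⟨⟨Subgroup.mul_mem _ (mu_mem hs.1 hyzA hyz) (Subgroup.inv_mem _ (mu_mem hs.1 hy hy1)), ?_⟩, ?_⟩
    · refine cj_eq_self_iff.1 ?_
      rw [← cj_cj, (cj_eq_iff.1 (mu_cj_right hs.1 hy hy1)).symm, mu_cj_right hs.1 hyzA hyz]
    · refine cj_eq_self_iff.1 ?_
      rw [← cj_cj, (cj_eq_iff.1 (mu_cj_left hs hy hy1)).symm, mu_cj_left hs hyzA hyz]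
  have h2 := Subgroup.commutator_mem_commutator hv hg
  rw [commutatorElement_def] at h2
  convert h2 using 1
  have h3 : mu A B (y * z) * (mu A B y)⁻¹ * v⁻¹ * (mu A B (y * z) * (mu A B y)⁻¹)⁻¹ =
      (mu A B (y * z) * prt A B z * (mu A B (y * z))⁻¹)⁻¹ := by rw [hvdef]; group
  rw [mul_assoc, mul_assoc, ← mul_assoc _ v⁻¹, h3]
  rw [eq_comm, ← eq_inv_mul_iff_mul_eq] at h1
  rw [h1, hzdef]; group

theorem special_perfect (hc : 3 < ENat.card A) : ⁅A ⊔ B, A ⊔ B⁆ = A ⊔ B := by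
  have h1 : A ≤ ⁅A ⊔ B, A ⊔ B⁆ := (le_commutator_diagonal hs hA hB hc).trans
    (Subgroup.commutator_mono le_sup_left (inf_le_left.trans inf_le_left))
  refine le_antisymm (Subgroup.commutator_le_self _) (sup_le h1 ?_)
  obtain ⟨x, hx, e, -⟩ := r1_ex_swap hs.1
  have := cj_le_cj (g := x).2 h1
  rwa [e, cj_commutator, cj_of_mem hx] at this

end Ab

end CfsgH9
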