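import Cfsg.Agent.H9.Lines2
import Cfsg.Agent.H9.Special

set_option autoImplicit false

namespace CfsgH9
open Cfsg

variable {G : Type*} [Group G] {S : Set (Subgroup G)} {A B C D E : Subgroup G}

theorem isQuasisimple_of (hp : commutator G = ⊤) (hnc : Subgroup.center G ≠ ⊤)
    (h : ∀ N : Subgroup G, N.Normal → N = ⊤ ∨ N ≤ Subgroup.center G) : IsQuasisimple G := by
  refine ⟨⟨hp⟩, ?_⟩
  have hnt : Nontrivial (G ⧸ Subgroup.center G) := by
    rwa [QuotientGroup.nontrivial_iff]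
  refine ⟨fun N hN => ?_⟩
  rcases h (N.comap (QuotientGroup.mk' _)) inferInstance with h1 | h1
  · right
    rw [eq_top_iff]
    intro q _
    obtain ⟨x, rfl⟩ := QuotientGroup.mk'_surjective _ q
    have : x ∈ N.comap (QuotientGroup.mk' (Subgroup.center G)) := by rw [h1]; trivial
    exact this
  · left
    rw [eq_bot_iff]
    intro q hq
    obtain ⟨x, rfl⟩ := QuotientGroup.mk'_surjective _ q
    exact (QuotientGroup.eq_one_iff x).2 (h1 hq)

theorem isQuasisimple_subgroup_of {K : Subgroup G} (hp : ⁅K, K⁆ = K) (hnc : ¬ Comm K K)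
    (h : ∀ N : Subgroup G, N ≤ K → (∀ x ∈ K, cj x N = N) → N = K ∨ Comm N K) : IsQuasisimple K := by
  refine isQuasisimple_of (Subgroup.isPerfect_iff.2 hp).commutator_eq_top ?_ ?_
  · intro e
    apply hnc
    intro a ha b hb
    have : (⟨a, ha⟩ : K) ∈ Subgroup.center K := by rw [e]; trivial
    exact (congrArg Subtype.val (Subgroup.mem_center_iff.1 this ⟨b, hb⟩)).symm
  · intro N hN
    rcases h (N.map K.subtype) (Subgroup.map_subtype_le N) (fun x hx => by
      have := map_cj K.subtype ⟨x, hx⟩ N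
      rw [cj_of_normal] at this
      exact this.symm) with h1 | h1
    · left
      rw [eq_top_iff]
      rintro ⟨x, hx⟩ -
      rw [← h1] at hx
      obtain ⟨y, hy, rfl⟩ := hx
      exact hy
    · right
      intro n hn
      rw [Subgroup.mem_center_iff]
      intro g
      exact Subtype.ext (h1 n ⟨n, hn, rfl⟩ g g.2).symm

theorem quasisimple_normal (hq : IsQuasisimple G) (N : Subgroup G) [hN : N.Normal] :
    N = ⊤ ∨ N ≤ Subgroup.center G := by
  obtain ⟨hp, hs⟩ := hq
  rcases hs.eq_bot_or_eq_top_of_normal (N.map (QuotientGroup.mk' (Subgroup.center G)))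
    (hN.map _ (QuotientGroup.mk'_surjective _)) with h | h
  · right
    rw [Subgroup.map_eq_bot_iff, QuotientGroup.ker_mk'] at h
    exact h
  · left
    have h1 : N ⊔ Subgroup.center G = ⊤ := by
      have := congrArg (Subgroup.comap (QuotientGroup.mk' (Subgroup.center G))) h
      rwa [Subgroup.comap_map_eq, QuotientGroup.ker_mk', Subgroup.comap_top] at this
    rw [eq_top_iff, ← hp.commutator_eq_top]
    exact Subgroup.Normal.commutator_le_of_self_sup_commutative_eq_top h1 inferInstance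

theorem normal_eq_top_of_mem (hS : IsRootSubgroupClass S) {N : Subgroup G} [N.Normal] (hA : A ∈ S)
    (hle : A ≤ N) : N = ⊤ := by
  rw [eq_top_iff, ← hS.1.generates]
  refine iSup₂_le fun B hB => ?_
  obtain ⟨g, rfl⟩ := hS.2.2 A hA B hB
  rw [← cj_of_normal g N]
  exact cj_le_cj.2 hle

theorem comm_map {H : Type*} [Group H] (f : G →* H) (h : Comm A B) : Comm (A.map f) (B.map f) := by
  rw [comm_iff, ← Subgroup.map_commutator, comm_iff.1 h, Subgroup.map_bot]

theorem exists_rc_of_not_degenerate (h : ¬ IsDegenerateRootSet S) :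
    ∃ A ∈ S, ∃ B ∈ S, RootCommutatorCase S A B := by
  unfold IsDegenerateRootSet at h
  push Not at h
  exact h

theorem normal_eq_top_of_centralizing_ne (hS : IsRootSubgroupClass S) (hni : ∀ A ∈ S, NI S A)
    (hperf : IsDegenerateRootSet S → ∀ A ∈ S, ∀ B ∈ S, IsRankOnePair A B → ⁅A ⊔ B, A ⊔ B⁆ = A ⊔ B)
    {N : Subgroup G} [N.Normal] (hA : A ∈ S) {n : G} (hn : n ∈ N)
    (hne : centralizingMembers S A ≠ centralizingMembers S (cj n A)) : N = ⊤ := by
  have hC := rs_cj hS.1 hA n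
  have : ¬ centralizingMembers S A ⊆ centralizingMembers S (cj n A) := fun h =>
    hne (centralizingMembers_eq_of_subset hS (hni _ hC) hA hC h)
  obtain ⟨D, hD, hD'⟩ := Set.not_subset.1 this
  rw [mem_centralizingMembers] at hD hD'
  set f := QuotientGroup.mk' N with hf
  have hker : ∀ K : Subgroup G, K.map f = ⊥ → K ≤ N := fun K h => by
    rwa [Subgroup.map_eq_bot_iff, QuotientGroup.ker_mk'] at h
  have hCA : (cj n A).map f = A.map f := by
    rw [map_cj, show f n = 1 from (QuotientGroup.eq_one_iff n).2 hn, cj_one]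
  set C := cj n A
  have hc : Comm (D.map f) (C.map f) := hCA ▸ comm_map f hD.2
  rcases rs_pair hS.1 hD.1 hC with h | h | h
  · exact absurd ⟨hD.1, h⟩ hD'
  · by_cases hdeg : IsDegenerateRootSet S
    · refine normal_eq_top_of_mem hS hC (le_sup_right.trans (hker (D ⊔ C) ?_))
      rw [← hperf hdeg D hD.1 C hC h, Subgroup.map_commutator, Subgroup.map_sup, ← comm_iff]
      exact ((comm_map f (rs_comm_self hS.1 hD.1)).sup_right hc).sup_left
        (hc.symm.sup_right (comm_map f (rs_comm_self hS.1 hC)))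
    · obtain ⟨E, hE, h1, -⟩ := nd_exists_line hS hni (exists_rc_of_not_degenerate hdeg) hC hD.1 (r1_symm h)
      refine normal_eq_top_of_mem hS h1.1 (hker _ ?_)
      obtain ⟨d, hd, hd1⟩ := r1_ex_ne_one h
      obtain ⟨c, hc', -, e⟩ := r1_ex h hd hd1
      have e' := congrArg (Subgroup.map f) e
      rw [map_cj, map_cj, hc.cj_eq ⟨d, hd, rfl⟩, hc.symm.cj_eq ⟨c, hc', rfl⟩] at e'
      rw [Subgroup.map_commutator, e', ← comm_iff]
      exact comm_map f (mem_linePartners.1 hE).2.2.1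
  · refine normal_eq_top_of_mem hS h.1 (hker _ ?_)
    rw [Subgroup.map_commutator, ← comm_iff]
    exact hc

theorem le_center_of_fix_members (hS : IsRootSubgroupSet S) (hni : ∀ A ∈ S, NI S A) {N : Subgroup G}
    [N.Normal] (h : ∀ A ∈ S, ∀ n ∈ N, cj n A = A) : N ≤ Subgroup.center G := by
  intro n hn
  have : (⨆ A ∈ S, A) ≤ Subgroup.centralizer {n} := by
    refine iSup₂_le fun A hA a ha => ?_
    obtain ⟨B, hB, hr⟩ := hni A hA
    rw [Subgroup.mem_centralizer_singleton_iff]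
    exact (central_of_fix hr (N := N) (fun x _ => cj_of_normal x N)
      (fun n hn => ⟨h A hA n hn, h B hB n hn⟩) n hn a (Subgroup.mem_sup_left ha)).symm
  rw [hS.generates] at this
  rw [Subgroup.mem_center_iff]
  exact fun g => Subgroup.mem_centralizer_singleton_iff.1 (this (Subgroup.mem_top g))

theorem class_perfect (hS : IsRootSubgroupClass S) (hni : ∀ A ∈ S, NI S A)
    (hperf : IsDegenerateRootSet S → ∀ A ∈ S, ∀ B ∈ S, IsRankOnePair A B → ⁅A ⊔ B, A ⊔ B⁆ = A ⊔ B) :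
    commutator G = ⊤ := by
  by_cases hdeg : IsDegenerateRootSet S
  · obtain ⟨A, hA⟩ := hS.2.1
    obtain ⟨B, hB, hr⟩ := hni A hA
    refine normal_eq_top_of_mem hS hA ((le_sup_left (b := B)).trans ?_)
    rw [← hperf hdeg A hA B hB hr]
    exact Subgroup.commutator_mono le_top le_top
  · obtain ⟨A, -, B, -, h⟩ := exists_rc_of_not_degenerate hdeg
    exact normal_eq_top_of_mem hS h.1 (Subgroup.commutator_mono le_top le_top)

theorem isQuasisimple_top (h : IsQuasisimple G) : IsQuasisimple (⊤ : Subgroup G) := by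
  refine isQuasisimple_subgroup_of h.1.commutator_eq_top ?_ ?_
  · intro hc
    have h1 : Subgroup.center G = ⊤ := by
      rw [eq_top_iff]
      intro x _
      rw [Subgroup.mem_center_iff]
      exact fun g => hc g trivial x trivial
    have := h.2.toNontrivial
    rw [QuotientGroup.nontrivial_iff] at this
    exact this h1
  · intro N _ hN
    have : N.Normal := normal_of_cj fun g => hN g trivial
    rcases quasisimple_normal h N with h1 | h1
    · exact Or.inl h1
    · exact Or.inr fun n hn g _ => (Subgroup.mem_center_iff.1 (h1 hn) g).symm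

/-- triangles force the rank one pairs to be special -/
theorem triangle_conj (hCB : IsRankOnePair C B) (hAC : Comm A C)
    (hB : Comm B B) {a b c : G} (ha : a ∈ A) (hb : b ∈ B) (hc : c ∈ C) (e1 : cj b A = cj a B)
    (e2 : cj b C = cj c B) :
    Comm B (cj (c⁻¹ * a) B) ∧
    (∀ x ∈ B, ((c⁻¹ * a) * b⁻¹ * (c⁻¹ * a)⁻¹ * b) * x = x * ((c⁻¹ * a) * b⁻¹ * (c⁻¹ * a)⁻¹ * b)) ∧
    cj ((c⁻¹ * a) * b⁻¹ * (c⁻¹ * a)⁻¹ * b) A = C ∧
    ((c⁻¹ * a) * b⁻¹ * (c⁻¹ * a)⁻¹ * b) * a * ((c⁻¹ * a) * b⁻¹ * (c⁻¹ * a)⁻¹ * b)⁻¹ = c := by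
  have h1 : Comm B (cj (c⁻¹ * a) B) := by
    rw [← cj_cj, ← comm_cj_iff c, cj_cj_inv, ← e1, ← e2, comm_cj_iff]
    exact hAC.symm
  have hac : a * c = c * a := hAC a ha c hc
  set n := c⁻¹ * a with hn
  have h2 : ∀ x ∈ B, (n * b⁻¹ * n⁻¹ * b) * x = x * (n * b⁻¹ * n⁻¹ * b) := fun x hx => by
    have h3 : Commute x (n * b⁻¹ * n⁻¹) := h1 x hx _ (conj_mem_cj (B.inv_mem hb))
    have h4 : Commute x b := hB x hx b hb
    exact (h3.mul_right h4).symm
  have h3 : cj (n * b⁻¹ * n⁻¹ * b) A = C := by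
    have h4 : cj n C = C := by
      rw [hn, ← cj_cj, hAC.cj_eq ha, cj_of_mem (C.inv_mem hc)]
    rw [← cj_cj, e1, ← cj_cj, cj_cj n⁻¹, show n⁻¹ * a = c by
      rw [hn, mul_inv_rev, inv_inv, mul_assoc, ← hac]; group, ← e2, ← cj_cj, cj_inv_cj, h4]
  refine ⟨h1, h2, h3, ?_⟩
  set m := n * b⁻¹ * n⁻¹ * b
  refine r1_eq_of_cj_eq hCB (h3 ▸ conj_mem_cj ha) hc ?_
  rw [cj_mul_of_fix _ (cj_inv_of_fix (cj_eq_of_centralizes h2)), ← cj_cj, ← e1, cj_cj, h2 b hb, ← cj_cj,
    h3, e2]

theorem special_of_triangle (hAB : IsRankOnePair A B) (hCB : IsRankOnePair C B) (hAC : Comm A C)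
    (hne : A ≠ C) (hA : Comm A A) (hB : Comm B B) : IsSpecialRankOnePair A B := by
  refine special_mk hAB fun a ha ha1 b hb hb1 e1 => ?_
  obtain ⟨c, hc, -, e2⟩ := r1_ex (r1_symm hCB) hb hb1
  obtain ⟨-, h2, h3, h4⟩ := triangle_conj hCB hAC hB ha hb hc e1 e2.symm
  have hac : a * c = c * a := hAC a ha c hc
  set n := c⁻¹ * a with hn
  set m := n * b⁻¹ * n⁻¹ * b with hm
  have hna : ∀ x ∈ A, n * x = x * n := fun x hx => by
    have h5 : Commute c x := (hAC x hx c hc).symm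
    have h6 : Commute a x := hA a ha x hx
    exact h5.inv_left.mul_left h6
  have hmb : m * b = b * m := h2 b hb
  have r1 : b⁻¹ * n * b = m⁻¹ * n := by rw [hm]; group
  have r2 : a * m * a⁻¹ = n * m := by
    have h6 : n = m * a⁻¹ * m⁻¹ * a := by
      conv_lhs => rw [hn, ← h4]
      group
    have h7 : a * n * a⁻¹ = n := by rw [← hna a ha]; group
    rw [← h7, h6]
    generalize m = m'
    group
  have r3 : a * b⁻¹ * n * (a * b⁻¹)⁻¹ = m⁻¹ := by
    calc _ = a * (b⁻¹ * n * b) * a⁻¹ := by group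
      _ = (a * m * a⁻¹)⁻¹ * (a * n) * a⁻¹ := by rw [r1]; group
      _ = _ := by rw [r2, ← hna a ha]; group
  have hD : cj a B ∈ Om A B := cj_mem_Om (Subgroup.mem_sup_left ha) (right_mem_Om hAB)
  have hx : (a * b⁻¹ * a⁻¹)⁻¹ * (b * a * b⁻¹) ∈ cj a B :=
    Subgroup.mul_mem _ (Subgroup.inv_mem _ (conj_mem_cj (B.inv_mem hb))) (e1 ▸ conj_mem_cj ha)
  set x := (a * b⁻¹ * a⁻¹)⁻¹ * (b * a * b⁻¹) with hxdef
  have hxc : x * n = n * x := by
    rw [← mul_inv_eq_iff_eq_mul]
    calc _ = (a * b⁻¹ * a⁻¹)⁻¹ * (b * (a * b⁻¹ * n * (a * b⁻¹)⁻¹) * b⁻¹) * (a * b⁻¹ * a⁻¹) := by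
          rw [hxdef]; group
      _ = (a * b⁻¹ * a⁻¹)⁻¹ * (a * b⁻¹ * n * (a * b⁻¹)⁻¹) * (a * b⁻¹ * a⁻¹) := by
          have h8 : Commute m b := hmb
          rw [r3, ← h8.inv_left.eq]; group
      _ = (a * n) * a⁻¹ := by group
      _ = n := by rw [← hna a ha]; group
  by_contra hne'
  have hx1 : x ≠ 1 := fun e => hne' (inv_mul_eq_one.1 e).symm
  have hne2 : A ≠ cj x A := by
    intro e3
    have := eq_of_fix_Om hAB hD left_mem_Om hx hx1 e3.symm
    rw [cj_eq_iff, cj_of_mem (A.inv_mem ha)] at this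
    exact hAB.ne this.symm
  have hsup := sup_eq_of_mem_Om hAB left_mem_Om (cj_mem_Om (le_of_mem_Om hD hx) left_mem_Om) hne2
  have hcomm := comm_of_mem_sup (A := A) (B := cj x A) (z := n) hna
    (fun y hy => by
      obtain ⟨y, hy', rfl⟩ := mem_cj'.1 hy
      have h1 : Commute n x := hxc.symm
      have h2 : Commute n y := hna y hy'
      exact (h1.mul_right h2).mul_right h1.inv_right) b (hsup ▸ Subgroup.mem_sup_right hb)
  have hm1 : m = 1 := by
    have h9 : Commute n b := hcomm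
    rw [hm, h9.inv_right.eq]; group
  rw [hm1, cj_one] at h3
  exact hne h3

end CfsgH9
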