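import Cfsg.Agent.H9.QRoot
import Cfsg.Agent.H9.Quasi
import Cfsg.Agent.H9.Special

set_option autoImplicit false

namespace CfsgH9
open Polynomial Cfsg LinearMap
open scoped MatrixGroups

section Rel
variable {Γ : Type*} [Group Γ]

theorem comm_iSup_left {S : Set (Subgroup Γ)} {B : Subgroup Γ} (h : ∀ A ∈ S, Comm A B) :
    Comm (⨆ A ∈ S, A) B := by
  rw [comm_iff_le_centralizer]
  exact iSup₂_le fun A hA => comm_iff_le_centralizer.1 (h A hA)

theorem le_biSup_self {S : Set (Subgroup Γ)} {A : Subgroup Γ} (h : A ∈ S) : A ≤ ⨆ B ∈ S, B :=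
  le_iSup₂_of_le (f := fun B (_ : B ∈ S) => B) A h le_rfl

theorem commutator_subgroupOf {A B K : Subgroup Γ} (hA : A ≤ K) (hB : B ≤ K) :
    ⁅A.subgroupOf K, B.subgroupOf K⁆ = ⁅A, B⁆.subgroupOf K := by
  apply Subgroup.map_injective K.subtype_injective
  rw [Subgroup.map_commutator, Subgroup.map_subgroupOf_eq_of_le hA, Subgroup.map_subgroupOf_eq_of_le hB,
    Subgroup.map_subgroupOf_eq_of_le]
  exact (Subgroup.commutator_le).2 fun a ha b hb =>
    mul_mem (mul_mem (mul_mem (hA ha) (hB hb)) (inv_mem (hA ha))) (inv_mem (hB hb))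

theorem comm_subgroupOf_iff {A B K : Subgroup Γ} (hA : A ≤ K) (hB : B ≤ K) :
    Comm (A.subgroupOf K) (B.subgroupOf K) ↔ Comm A B :=
  ⟨fun h a ha b hb => congrArg Subtype.val (h ⟨a, hA ha⟩ ha ⟨b, hB hb⟩ hb),
    fun h a ha b hb => Subtype.ext (h a ha b hb)⟩

theorem cj_subgroupOf {A K : Subgroup Γ} (g : K) : cj g (A.subgroupOf K) = (cj (g : Γ) A).subgroupOf K := by
  ext x; simp [mem_cj, Subgroup.mem_subgroupOf]

theorem subgroupOf_inj_of_le {A B K : Subgroup Γ} (hA : A ≤ K) (hB : B ≤ K)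
    (h : A.subgroupOf K = B.subgroupOf K) : A = B := by
  rw [← Subgroup.map_subgroupOf_eq_of_le hA, h, Subgroup.map_subgroupOf_eq_of_le hB]

theorem rc_subgroupOf {S : Set (Subgroup Γ)} {A B K : Subgroup Γ} (hA : A ≤ K) (hB : B ≤ K)
    (h : RootCommutatorCase S A B) :
    RootCommutatorCase ((fun A : Subgroup Γ => A.subgroupOf K) '' S) (A.subgroupOf K) (B.subgroupOf K) := by
  have hD : ⁅A, B⁆ ≤ K := (Subgroup.commutator_le).2 fun a ha b hb =>
    mul_mem (mul_mem (mul_mem (hA ha) (hB hb)) (inv_mem (hA ha))) (inv_mem (hB hb))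
  refine rc_mk ?_ ?_ ?_ ?_ ?_ <;> rw [commutator_subgroupOf hA hB]
  · exact ⟨_, rc_mem h, rfl⟩
  · exact (comm_subgroupOf_iff hD hA).2 (rc_comm_left h)
  · exact (comm_subgroupOf_iff hD hB).2 (rc_comm_right h)
  · intro a ha ha1 c hc
    obtain ⟨b, hb, e⟩ := rc_surj h ha (fun e => ha1 (Subtype.ext e)) hc
    exact ⟨⟨b, hB hb⟩, hb, Subtype.ext e⟩
  · intro b hb hb1 c hc
    rw [Subgroup.commutator_comm] at hc
    obtain ⟨a, ha, e⟩ := rc_surj' (rc_symm h) hb (fun e => hb1 (Subtype.ext e)) hc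
    exact ⟨⟨a, hA ha⟩, ha, Subtype.ext e⟩

/-- root subgroups relative to the subgroup they generate -/
structure RelRoot (S : Set (Subgroup Γ)) : Prop where
  comm : ∀ A ∈ S, Comm A A
  ne : ∀ A ∈ S, A ≠ ⊥
  conj : ∀ A ∈ S, ∀ g ∈ ⨆ B ∈ S, B, cj g A ∈ S
  pair : ∀ A ∈ S, ∀ B ∈ S, Comm A B ∨ IsRankOnePair A B ∨ RootCommutatorCase S A B

theorem RelRoot.rootSet {S : Set (Subgroup Γ)} (h : RelRoot S) :
    IsRootSubgroupSet ((fun A : Subgroup Γ => A.subgroupOf (⨆ B ∈ S, B)) '' S) := by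
  refine ⟨?_, ?_, ?_, ?_, ?_⟩
  · rintro _ ⟨A, hA, rfl⟩
    exact comm_self_iff.1 ((comm_subgroupOf_iff (le_biSup_self hA) (le_biSup_self hA)).2 (h.comm A hA))
  · rintro _ ⟨A, hA, rfl⟩ e
    exact h.ne A hA (subgroupOf_inj_of_le (le_biSup_self hA) bot_le (by simpa using e))
  · apply Subgroup.map_injective (Subgroup.subtype_injective _)
    rw [iSup_image, ← MonoidHom.range_eq_map, Subgroup.range_subtype]
    simp only [Subgroup.map_iSup]
    exact biSup_congr fun A hA => Subgroup.map_subgroupOf_eq_of_le (le_biSup_self hA)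
  · rintro _ ⟨A, hA, rfl⟩ g
    exact ⟨_, h.conj A hA g g.2, (cj_subgroupOf g).symm⟩
  · rintro _ ⟨A, hA, rfl⟩ _ ⟨B, hB, rfl⟩
    rcases h.pair A hA B hB with h1 | h1 | h1
    · exact Or.inl (comm_iff.1 ((comm_subgroupOf_iff (le_biSup_self hA) (le_biSup_self hB)).2 h1))
    · exact Or.inr (Or.inl ((r1_subgroupOf_iff (le_biSup_self hA) (le_biSup_self hB)).2 h1))
    · exact Or.inr (Or.inr (rc_subgroupOf (le_biSup_self hA) (le_biSup_self hB) h1))

end Rel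

variable {k : Type*} [Field k] {M : Type*} [AddCommGroup M] [Module k M] {G : Subgroup (M →ₗ[k] M)ˣ}

theorem uS_commute_iff {A : Type*} [Ring A] {s t : A} {hs : s * s = 0} {ht : t * t = 0} :
    uS s hs * uS t ht = uS t ht * uS s hs ↔ s * t = t * s := by
  rw [Units.ext_iff]
  simp only [Units.val_mul, uS_val, mul_add, add_mul, one_mul, mul_one]
  constructor
  · intro h; linear_combination (norm := abel1) h
  · intro h; rw [h]; abel

theorem Comm.mul_comm_ES {s t a b : M →ₗ[k] M} (h : Comm (EG G s) (EG G t)) (ha : a ∈ ES G s)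
    (hb : b ∈ ES G t) : a * b = b * a :=
  uS_commute_iff.1 (h _ (uS_mem_EG ha) _ (uS_mem_EG hb))

theorem conj_uS_eq {A : Type*} [Ring A] (g : Aˣ) {s : A} (hs : s * s = 0)
    (h' : (g * s * (g⁻¹ : Aˣ)) * (g * s * (g⁻¹ : Aˣ)) = 0) : g * uS s hs * g⁻¹ = uS _ h' :=
  Units.ext (by simp [mul_add, add_mul])

theorem three_lt_card_EG (h3 : 3 < ENat.card k) {s : M →ₗ[k] M} (hs : MinQ G s) : 3 < ENat.card (EG G s) := by
  refine h3.trans_le (ENat.card_le_card_of_injective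
    (f := fun c : k => ⟨_, uS_mem_EG ((ES G s).smul_mem c hs.qn.mem_ES)⟩) fun a b e => ?_)
  have : 1 + a • s = 1 + b • s := congrArg (fun x : EG G s => ((x : (M →ₗ[k] M)ˣ) : M →ₗ[k] M)) e
  exact smul_left_injective k hs.ne (add_left_cancel this)

variable [FiniteDimensional k M]

theorem centralizes_of_rel (hU : NoUnip G) (rel : (M →ₗ[k] M) → (M →ₗ[k] M) → Prop)
    (hrefl : ∀ s, rel s s) (hsymm : ∀ s t, rel s t → rel t s) (htrans : ∀ s t u, rel s t → rel t u → rel s u)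
    (hconj : ∀ g ∈ G, ∀ s t, rel s t → rel (g * s * (g⁻¹ : (M →ₗ[k] M)ˣ)) (g * t * (g⁻¹ : (M →ₗ[k] M)ˣ)))
    (hcomm : ∀ s t, MinQ G s → MinQ G t → rel s t → s * t = t * s)
    {g : (M →ₗ[k] M)ˣ} (hg : g ∈ G) (h : ∀ s, MinQ G s → rel s (g * s * (g⁻¹ : (M →ₗ[k] M)ˣ)))
    {s : M →ₗ[k] M} (hs : MinQ G s) : g * s = s * g := by
  let R : Subgroup (M →ₗ[k] M)ˣ :=
    { carrier := {g | g ∈ G ∧ ∀ s, MinQ G s → rel s (g * s * (g⁻¹ : (M →ₗ[k] M)ˣ))}
      one_mem' := ⟨one_mem _, fun s _ => by simpa using hrefl s⟩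
      mul_mem' := fun {a b} ha hb => ⟨mul_mem ha.1 hb.1, fun s hs => by
        simpa [mul_assoc] using htrans _ _ _ (hb.2 s hs) (ha.2 _ (hs.conj hb.1))⟩
      inv_mem' := fun {a} ha => ⟨inv_mem ha.1, fun s hs => by
        simpa [mul_assoc] using hsymm _ _ (ha.2 _ (hs.conj (inv_mem ha.1)))⟩ }
  have hRn : ∀ x ∈ G, ∀ r ∈ R, x * r * x⁻¹ ∈ R := fun x hx r hr =>
    ⟨mul_mem (mul_mem hx hr.1) (inv_mem hx), fun s hs => by
      simpa [mul_assoc] using hconj x hx _ _ (hr.2 _ (hs.conj (inv_mem hx)))⟩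
  let Ms : (M →ₗ[k] M) → Subgroup (M →ₗ[k] M)ˣ := fun s =>
    Subgroup.closure {d | MinQ G ((d : M →ₗ[k] M) - 1) ∧ rel s ((d : M →ₗ[k] M) - 1)}
  have cs : ∀ x d : (M →ₗ[k] M)ˣ, ((x * d * x⁻¹ : (M →ₗ[k] M)ˣ) : M →ₗ[k] M) - 1 =
      x * ((d : M →ₗ[k] M) - 1) * (x⁻¹ : (M →ₗ[k] M)ˣ) := fun x d => by simp [mul_sub, sub_mul]
  have hMu : ∀ s, Unip k (Ms s) := by
    intro s
    have hc : ∀ p ∈ {d : (M →ₗ[k] M)ˣ | MinQ G ((d : M →ₗ[k] M) - 1) ∧ rel s ((d : M →ₗ[k] M) - 1)},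
        ∀ q ∈ {d : (M →ₗ[k] M)ˣ | MinQ G ((d : M →ₗ[k] M) - 1) ∧ rel s ((d : M →ₗ[k] M) - 1)},
        ((p : M →ₗ[k] M) - 1) * ((q : M →ₗ[k] M) - 1) = ((q : M →ₗ[k] M) - 1) * ((p : M →ₗ[k] M) - 1) :=
      fun p hp q hq => hcomm _ _ hp.1 hq.1 (htrans _ _ _ (hsymm _ _ hp.2) hq.2)
    refine unip_closure_of_pairs (fun p hp q hq => ?_) fun p hp q hq => ?_
    · have : p * q = q * p := by
        have := hc p hp q hq
        apply Units.ext
        simp only [mul_sub, sub_mul, mul_one, one_mul, Units.val_mul] at this ⊢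
        linear_combination (norm := abel1) this
      rw [this, mul_inv_cancel_right, mul_assoc, ← this, inv_mul_cancel_left]
      exact ⟨hq, hq⟩
    · have := unip_pair_of_not_opp (k := k) hp.1.qn.sq hq.1.qn.sq (not_not.2 ⟨2, by
        rw [← hc p hp q hq, pow_two, add_mul, mul_add, mul_assoc, ← mul_assoc ((q : M →ₗ[k] M) - 1),
          ← hc p hp q hq, ← mul_assoc, ← mul_assoc, hp.1.qn.sq]
        simp⟩)
      convert this <;> exact Units.ext (by simp)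
  have hMc : ∀ x ∈ G, ∀ s, ∀ d ∈ Ms s, x * d * x⁻¹ ∈ Ms (x * s * (x⁻¹ : (M →ₗ[k] M)ˣ)) := by
    intro x hx s d hd
    have : cj x (Ms s) ≤ Ms (x * s * (x⁻¹ : (M →ₗ[k] M)ˣ)) := by
      rw [cj_closure]
      refine Subgroup.closure_mono ?_
      rintro _ ⟨d, hd, rfl⟩
      exact ⟨by rw [cs]; exact hd.1.conj hx, by rw [cs]; exact hconj x hx _ _ hd.2⟩
    exact this (conj_mem_cj hd)
  have hMr : ∀ s t, rel s t → Ms t ≤ Ms s := fun s t h =>
    Subgroup.closure_mono fun d hd => ⟨hd.1, htrans _ _ _ h hd.2⟩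
  have hD : ∀ x ∈ G, ∀ d ∈ {d | d ∈ R ∧ ∃ s, MinQ G s ∧ d ∈ Ms s},
      x * d * x⁻¹ ∈ {d | d ∈ R ∧ ∃ s, MinQ G s ∧ d ∈ Ms s} := by
    rintro x hx d ⟨hd, s, hs, hd'⟩
    exact ⟨hRn x hx d hd, _, hs.conj hx, hMc x hx s d hd'⟩
  have hDu := unip_closure_of_pairs (k := k) (D := {d | d ∈ R ∧ ∃ s, MinQ G s ∧ d ∈ Ms s})
    (fun p hp x hx => ⟨hD p hp.1.1 x hx, by simpa using hD p⁻¹ (inv_mem hp.1.1) x hx⟩) (by
      rintro p ⟨-, s, hs, hp⟩ q ⟨hq, t, -, hq'⟩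
      refine (Unip.sup (hMu s) ((hMu t).mono (K := Ms t ⊓ R) inf_le_left) fun h hh x hx =>
        hMr _ _ (hh.2.2 s hs) (hMc h hh.2.1 s x hx)).mono ((Subgroup.closure_le _).2 ?_)
      rintro _ (rfl | rfl)
      · exact Subgroup.mem_sup_left hp
      · exact Subgroup.mem_sup_right ⟨hq', hq⟩)
  have hbot := hU _ ((Subgroup.closure_le _).2 fun d hd => hd.1.1) (cj_eq_self_of_le fun a ha => by
      rw [cj_closure]
      refine Subgroup.closure_mono ?_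
      rintro _ ⟨d, hd, rfl⟩
      exact hD a ha d hd) hDu
  have hgR : g ∈ R := ⟨hg, h⟩
  have hsM : uS s hs.qn.sq ∈ Ms s := Subgroup.subset_closure ⟨by simpa using hs, by simpa using hrefl s⟩
  have h1 : g * uS s hs.qn.sq * g⁻¹ * (uS s hs.qn.sq)⁻¹ ∈ (⊥ : Subgroup (M →ₗ[k] M)ˣ) := by
    rw [← hbot]
    refine Subgroup.subset_closure ⟨?_, s, hs, mul_mem (hMr _ _ (h s hs) (hMc g hg s _ hsM)) (inv_mem hsM)⟩
    simpa [mul_assoc] using mul_mem hgR (hRn _ hs.qn.uS_mem _ (inv_mem hgR))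
  rw [Subgroup.mem_bot, mul_inv_eq_one, mul_inv_eq_iff_eq_mul, Units.ext_iff] at h1
  simpa [mul_add, add_mul] using h1

theorem quad_cj_mem {A : Subgroup (M →ₗ[k] M)ˣ} (hA : A ∈ quadraticRootSubgroups G) {g : (M →ₗ[k] M)ˣ}
    (hg : g ∈ G) : cj g A ∈ quadraticRootSubgroups G := by
  obtain ⟨s, hs, rfl⟩ := mem_quadraticRootSubgroups.1 hA
  rw [cj_EG hg]
  exact mem_quadraticRootSubgroups.2 ⟨_, hs.conj hg, rfl⟩

theorem quad_le {A : Subgroup (M →ₗ[k] M)ˣ} (hA : A ∈ quadraticRootSubgroups G) : A ≤ G := by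
  obtain ⟨s, -, rfl⟩ := mem_quadraticRootSubgroups.1 hA
  exact EG_le s

theorem quad_comm {A : Subgroup (M →ₗ[k] M)ˣ} (hA : A ∈ quadraticRootSubgroups G) : Comm A A := by
  obtain ⟨s, -, rfl⟩ := mem_quadraticRootSubgroups.1 hA
  exact comm_EG s

theorem quad_ne_bot {A : Subgroup (M →ₗ[k] M)ˣ} (hA : A ∈ quadraticRootSubgroups G) : A ≠ ⊥ := by
  obtain ⟨s, hs, rfl⟩ := mem_quadraticRootSubgroups.1 hA
  intro e
  exact hs.ne (uS_eq_one.1 (Subgroup.mem_bot.1 (e ▸ uS_mem_EG hs.qn.mem_ES)))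

theorem EG_mem {s : M →ₗ[k] M} (hs : MinQ G s) : EG G s ∈ quadraticRootSubgroups G :=
  mem_quadraticRootSubgroups.2 ⟨s, hs, rfl⟩

theorem quad_fr_cj {A B : Subgroup (M →ₗ[k] M)ˣ} (h : FR (quadraticRootSubgroups G) A B) {g : (M →ₗ[k] M)ˣ}
    (hg : g ∈ G) : FR (quadraticRootSubgroups G) (cj g A) (cj g B) := by
  induction h with
  | refl => exact Relation.ReflTransGen.refl
  | tail _ h ih => exact ih.tail ⟨quad_cj_mem h.1 hg, quad_cj_mem h.2.1 hg, r1_cj h.2.2 g⟩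

variable (G) in
/-- connected component -/
abbrev qcomp (A : Subgroup (M →ₗ[k] M)ˣ) : Set (Subgroup (M →ₗ[k] M)ˣ) :=
  componentOf (FAdj (quadraticRootSubgroups G)) (quadraticRootSubgroups G) A

omit [FiniteDimensional k M] in
theorem qcomp_eq {A B : Subgroup (M →ₗ[k] M)ˣ} (h : B ∈ qcomp G A) : qcomp G B = qcomp G A := by
  ext C
  exact and_congr_right fun _ => ⟨fun h' => h.2.trans h', fun h' => (FR.symm h.2).trans h'⟩

omit [FiniteDimensional k M] in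
theorem mem_qcomp_self {A : Subgroup (M →ₗ[k] M)ˣ} (h : A ∈ quadraticRootSubgroups G) : A ∈ qcomp G A :=
  ⟨h, Relation.ReflTransGen.refl⟩

variable (h2 : (2 : k) ≠ 0) (h3 : 3 < ENat.card k)
include h2 h3

theorem psl2_of_opp {s t : M →ₗ[k] M} (hs : MinQ G s) (ht : MinQ G t) (h : Opp s t) :
    ∃ A₀ B₀ : Subgroup (M →ₗ[k] M)ˣ, A₀ ≤ EG G s ∧ B₀ ≤ EG G t ∧ IsPSL2PairOver k A₀ B₀ := by
  obtain ⟨t', ht', hstd⟩ := exists_std h2 h3 hs ht h
  have hf := hstd.fit (k := k)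
  have := hf.nontrivial
  let φ := hf.Phi.comp (Matrix.SpecialLinearGroup.map (algebraMap k _))
  refine ⟨(UU k).map φ, (LL k).map φ, ?_, ?_, φ, ?_, ?_, by rw [upper_eq], by rw [lower_eq]⟩
  · rintro _ ⟨_, ⟨c, rfl⟩, rfl⟩
    rw [mem_EG, MonoidHom.comp_apply, slmap_xU, hf.Phi_xU_k, hstd.es, add_sub_cancel_left]
    exact (ES G s).smul_mem c hs.qn.mem_ES
  · rintro _ ⟨_, ⟨c, rfl⟩, rfl⟩
    rw [mem_EG, MonoidHom.comp_apply, slmap_xL, hf.Phi_xL, hf.psi_algebraMap, hstd.et, smul_mul_assoc, hstd.et,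
      add_sub_cancel_left]
    exact (ES G t).smul_mem c ht'
  · rw [← Subgroup.map_sup, UU_sup_LL, MonoidHom.range_eq_map]
  · intro g hg
    have h1 : Matrix.SpecialLinearGroup.map (algebraMap k _) g = 1 :=
      hf.Phi_injective (hg.trans (map_one _).symm)
    have : g = 1 := by
      apply Subtype.ext
      ext i j
      apply (algebraMap k (FitR k (s * t' + t' * s) (s * t' + t' * s))).injective
      rw [← slmap_apply, h1, ← slmap_apply, map_one]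
    rw [this]; exact one_mem _

variable (hU : NoUnip G)
include hU

theorem relRoot_quad : RelRoot (quadraticRootSubgroups G) :=
  ⟨fun _ => quad_comm, fun _ => quad_ne_bot,
    fun _ hA _ hg => quad_cj_mem hA ((iSup₂_le fun _ => quad_le : _ ≤ G) hg), fun _ hA _ => quad_pair h2 h3 hU hA⟩

theorem quad_ni {A : Subgroup (M →ₗ[k] M)ˣ} (hA : A ∈ quadraticRootSubgroups G) :
    NI (quadraticRootSubgroups G) A := by
  obtain ⟨s, hs, rfl⟩ := mem_quadraticRootSubgroups.1 hA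
  obtain ⟨t, ht, h⟩ := exists_opp' hU hs
  exact ⟨_, EG_mem ht, r1_of_opp h2 h3 hs ht h⟩

theorem quad_psl2 {A B : Subgroup (M →ₗ[k] M)ˣ} (hA : A ∈ quadraticRootSubgroups G)
    (hB : B ∈ quadraticRootSubgroups G) (hr : IsRankOnePair A B) :
    ∃ A₀ B₀ : Subgroup (M →ₗ[k] M)ˣ, A₀ ≤ A ∧ B₀ ≤ B ∧ IsPSL2PairOver k A₀ B₀ := by
  obtain ⟨s, hs, rfl⟩ := mem_quadraticRootSubgroups.1 hA
  obtain ⟨t, ht, rfl⟩ := mem_quadraticRootSubgroups.1 hB
  exact psl2_of_opp h2 h3 hs ht (opp_of_r1 h2 h3 hU hs ht hr)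

theorem quad_perfect {A B : Subgroup (M →ₗ[k] M)ˣ} (hA : A ∈ quadraticRootSubgroups G)
    (hB : B ∈ quadraticRootSubgroups G) (hr : IsRankOnePair A B) : ⁅A ⊔ B, A ⊔ B⁆ = A ⊔ B := by
  obtain ⟨s, hs, rfl⟩ := mem_quadraticRootSubgroups.1 hA
  obtain ⟨t, ht, rfl⟩ := mem_quadraticRootSubgroups.1 hB
  exact special_perfect (special_of_opp h2 h3 hs ht (opp_of_r1 h2 h3 hU hs ht hr)) (comm_EG s) (comm_EG t)
    (three_lt_card_EG h3 hs)

theorem quad_fr_comm {A B : Subgroup (M →ₗ[k] M)ˣ} (hA : A ∈ quadraticRootSubgroups G)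
    (hB : B ∈ quadraticRootSubgroups G) (hr : ¬ IsRankOnePair A B) (hc : ¬ Comm A B) :
    FR (quadraticRootSubgroups G) B ⁅A, B⁆ := by
  obtain ⟨s, hs, rfl⟩ := mem_quadraticRootSubgroups.1 hA
  obtain ⟨t, ht, rfl⟩ := mem_quadraticRootSubgroups.1 hB
  have h : ¬ Opp s t := fun ho => hr (r1_of_opp h2 h3 hs ht ho)
  have hrc := rc_of_not_opp h2 h3 hU hs ht h hc
  have hcj : cj (uS s hs.qn.sq)⁻¹ ⁅EG G s, EG G t⁆ = ⁅EG G s, EG G t⁆ :=
    (rc_comm_left hrc).symm.cj_eq (inv_mem (uS_mem_EG hs.qn.mem_ES))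
  have hu := minQ_comm h2 h3 hs ht h hc
  rw [commutator_EG h2 h3 hU hs ht h hc] at hcj ⊢
  obtain ⟨v, hv, ho⟩ := exists_opp' hU hu
  have f1 := fr_single (EG_mem hv) (EG_mem hu) (r1_of_opp h2 h3 hv hu ho.symm)
  by_cases h4 : Opp t v
  · exact (fr_single (EG_mem ht) (EG_mem hv) (r1_of_opp h2 h3 ht hv h4)).trans f1
  have h5 := ht.conj_uS hs.qn
  have h7 : Opp (t + (s * t - t * s) - s * t * s) v := by
    by_contra h7
    have e1 := sts_eq_zero h2 hv ht.qn fun ho => h4 ho.symm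
    have e2 := sts_eq_zero h2 hv h5.qn fun ho => h7 ho.symm
    rw [sts_eq_zero h2 hs ht.qn h, sub_zero, mul_add, add_mul, e1, zero_add] at e2
    exact (opp_iff h2 h3 hv hu).1 ho.symm e2
  have f2 := quad_fr_cj ((fr_single (EG_mem h5) (EG_mem hv) (r1_of_opp h2 h3 h5 hv h7)).trans f1)
    (inv_mem hs.qn.uS_mem)
  rwa [hcj, ← uS_conj t s hs.qn.sq, ← cj_EG hs.qn.uS_mem, cj_inv_cj] at f2

theorem qcomp_comm {A B C : Subgroup (M →ₗ[k] M)ˣ} (hB : B ∈ qcomp G A) (hC : C ∈ quadraticRootSubgroups G)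
    (hn : C ∉ qcomp G A) : Comm B C := by
  by_contra hc
  have hr : ¬ IsRankOnePair B C := fun hr => hn ⟨hC, hB.2.trans (fr_single hB.1 hC hr)⟩
  have f1 := quad_fr_comm h2 h3 hU hB.1 hC hr hc
  have f2 := quad_fr_comm h2 h3 hU hC hB.1 (fun h => hr (r1_symm h)) (fun h => hc h.symm)
  rw [Subgroup.commutator_comm] at f2
  exact hn ⟨hC, hB.2.trans (f2.trans (FR.symm f1))⟩

theorem qcomp_cj_mem {A B : Subgroup (M →ₗ[k] M)ˣ} (hB : B ∈ qcomp G A) {g : (M →ₗ[k] M)ˣ}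
    (hg : g ∈ ⨆ C ∈ quadraticRootSubgroups G, C) : cj g B ∈ qcomp G A := by
  let K : Subgroup (M →ₗ[k] M)ˣ :=
    { carrier := {g | g ∈ G ∧ ∀ B ∈ quadraticRootSubgroups G, FR (quadraticRootSubgroups G) B (cj g B)}
      one_mem' := ⟨one_mem _, fun B _ => by rw [cj_one]⟩
      mul_mem' := fun {a b} ha hb => ⟨mul_mem ha.1 hb.1, fun B hB => by
        rw [← cj_cj]; exact (hb.2 B hB).trans (ha.2 _ (quad_cj_mem hB hb.1))⟩
      inv_mem' := fun {a} ha => ⟨inv_mem ha.1, fun B hB => by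
        have := ha.2 _ (quad_cj_mem hB (inv_mem ha.1))
        rw [cj_cj_inv] at this
        exact FR.symm this⟩ }
  have : (⨆ C ∈ quadraticRootSubgroups G, C) ≤ K := by
    refine iSup₂_le fun C hC c hc => ⟨quad_le hC hc, fun B hB => ?_⟩
    by_cases h1 : Comm C B
    · rw [h1.cj_eq hc]
    by_cases hr : IsRankOnePair C B
    · have := r1_cj hr c
      rw [cj_of_mem hc] at this
      exact (fr_single hB hC (r1_symm hr)).trans (fr_single hC (quad_cj_mem hB (quad_le hC hc)) this)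
    have f1 := quad_fr_comm h2 h3 hU hC hB hr h1
    have f2 := quad_fr_cj f1 (quad_le hC hc)
    have hrc := ((quad_pair h2 h3 hU hC hB).resolve_left h1).resolve_left hr
    rw [(rc_comm_left hrc).symm.cj_eq hc] at f2
    exact f1.trans (FR.symm f2)
  exact ⟨quad_cj_mem hB.1 (this hg).1, hB.2.trans ((this hg).2 B hB.1)⟩

theorem relRoot_qcomp (A : Subgroup (M →ₗ[k] M)ˣ) : RelRoot (qcomp G A) := by
  refine ⟨fun _ h => quad_comm h.1, fun _ h => quad_ne_bot h.1, fun B hB g hg => qcomp_cj_mem h2 h3 hU hB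
    ((iSup₂_le fun C hC => le_biSup_self hC.1 : _ ≤ ⨆ C ∈ quadraticRootSubgroups G, C) hg), fun B hB C hC => ?_⟩
  by_cases h1 : Comm B C
  · exact Or.inl h1
  by_cases hr : IsRankOnePair B C
  · exact Or.inr (Or.inl hr)
  have hrc := ((quad_pair h2 h3 hU hB.1 hC.1).resolve_left h1).resolve_left hr
  exact Or.inr (Or.inr ⟨⟨hrc.1, hC.2.trans (quad_fr_comm h2 h3 hU hB.1 hC.1 hr h1)⟩, hrc.2⟩)

theorem class_qcomp {A : Subgroup (M →ₗ[k] M)ˣ} (hA : A ∈ quadraticRootSubgroups G) :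
    IsRootSubgroupClass ((fun B : Subgroup (M →ₗ[k] M)ˣ => B.subgroupOf (⨆ C ∈ qcomp G A, C)) '' qcomp G A) := by
  refine class_of_connected (relRoot_qcomp h2 h3 hU A).rootSet ⟨_, A, mem_qcomp_self hA, rfl⟩ ?_
  have key : ∀ B, FR (quadraticRootSubgroups G) A B →
      FR ((fun B : Subgroup (M →ₗ[k] M)ˣ => B.subgroupOf (⨆ C ∈ qcomp G A, C)) '' qcomp G A)
        (A.subgroupOf _) (B.subgroupOf _) := by
    intro B hB
    induction hB with
    | refl => exact Relation.ReflTransGen.refl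
    | @tail B C h1 h4 ih =>
      have b1 : B ∈ qcomp G A := ⟨h4.1, h1⟩
      have c1 : C ∈ qcomp G A := ⟨h4.2.1, h1.tail h4⟩
      exact ih.tail ⟨⟨B, b1, rfl⟩, ⟨C, c1, rfl⟩,
        (r1_subgroupOf_iff (le_biSup_self b1) (le_biSup_self c1)).2 h4.2.2⟩
  rintro _ ⟨B, hB, rfl⟩ _ ⟨C, hC, rfl⟩
  exact (FR.symm (key B hB.2)).trans (key C hC.2)

theorem quasi_qcomp {A : Subgroup (M →ₗ[k] M)ˣ} (hA : A ∈ quadraticRootSubgroups G) :
    IsQuasisimple ↥(⨆ C ∈ qcomp G A, C) := by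
  have hS := class_qcomp h2 h3 hU hA
  set K := ⨆ C ∈ qcomp G A, C with hK
  have hKG₀ : K ≤ ⨆ C ∈ quadraticRootSubgroups G, C := iSup₂_le fun C hC => le_biSup_self hC.1
  have hKG : K ≤ G := iSup₂_le fun C hC => quad_le hC.1
  have hni : ∀ B ∈ (fun B : Subgroup (M →ₗ[k] M)ˣ => B.subgroupOf K) '' qcomp G A,
      NI ((fun B : Subgroup (M →ₗ[k] M)ˣ => B.subgroupOf K) '' qcomp G A) B := by
    rintro _ ⟨B, hB, rfl⟩
    obtain ⟨D, hD, hr⟩ := quad_ni h2 h3 hU hB.1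
    have hD' : D ∈ qcomp G A := ⟨hD, hB.2.trans (fr_single hB.1 hD hr)⟩
    exact ⟨_, ⟨D, hD', rfl⟩, (r1_subgroupOf_iff (le_biSup_self hB) (le_biSup_self hD')).2 hr⟩
  have hperf : ∀ B ∈ (fun B : Subgroup (M →ₗ[k] M)ˣ => B.subgroupOf K) '' qcomp G A,
      ∀ C ∈ (fun B : Subgroup (M →ₗ[k] M)ˣ => B.subgroupOf K) '' qcomp G A, IsRankOnePair B C →
        ⁅B ⊔ C, B ⊔ C⁆ = B ⊔ C := by
    rintro _ ⟨B, hB, rfl⟩ _ ⟨C, hC, rfl⟩ hr
    have b1 : B ≤ K := le_biSup_self hB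
    have c1 : C ≤ K := le_biSup_self hC
    rw [← Subgroup.subgroupOf_sup b1 c1, commutator_subgroupOf (sup_le b1 c1) (sup_le b1 c1),
      quad_perfect h2 h3 hU hB.1 hC.1 ((r1_subgroupOf_iff b1 c1).1 hr)]
  refine isQuasisimple_of (class_perfect hS hni fun _ => hperf) (fun e => ?_) fun N hN => ?_
  · obtain ⟨D, -, hr⟩ := hni _ ⟨A, mem_qcomp_self hA, rfl⟩
    exact r1_not_comm hr fun a _ b _ => (Subgroup.mem_center_iff.1 (e ▸ Subgroup.mem_top b) a)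
  by_contra hcon
  push Not at hcon
  apply hcon.2
  intro n hn
  have hcm : ∀ B ∈ qcomp G A, ∀ D ∈ qcomp G A, (Comm D B ↔ Comm D (cj (n : (M →ₗ[k] M)ˣ) B)) := by
    intro B hB D hD
    have hB' := qcomp_cj_mem h2 h3 hU hB (hKG₀ n.2)
    by_contra hne
    refine hcon.1 (normal_eq_top_of_centralizing_ne hS hni (fun _ => hperf) ⟨B, hB, rfl⟩ hn fun e => hne ?_)
    have := Set.ext_iff.1 e (D.subgroupOf K)
    rw [mem_centralizingMembers, mem_centralizingMembers, cj_subgroupOf,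
      comm_subgroupOf_iff (le_biSup_self hD) (le_biSup_self hB),
      comm_subgroupOf_iff (le_biSup_self hD) (le_biSup_self hB')] at this
    exact ⟨fun h => (this.1 ⟨⟨D, hD, rfl⟩, h⟩).2, fun h => (this.2 ⟨⟨D, hD, rfl⟩, h⟩).2⟩
  have key : ∀ s, MinQ G s → ((n : (M →ₗ[k] M)ˣ) : M →ₗ[k] M) * s = s * (n : (M →ₗ[k] M)ˣ) := by
    intro s hs
    refine centralizes_of_rel hU (fun s t => ∀ D ∈ quadraticRootSubgroups G, Comm D (EG G s) ↔ Comm D (EG G t))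
      (fun _ _ _ => Iff.rfl) (fun _ _ h D hD => (h D hD).symm)
      (fun _ _ _ h h' D hD => (h D hD).trans (h' D hD)) (fun g hg s t h D hD => ?_)
      (fun s t hs ht h => ((h _ (EG_mem hs)).1 (comm_EG s)).mul_comm_ES hs.qn.mem_ES ht.qn.mem_ES)
      (hKG n.2) (fun s hs D hD => ?_) hs
    · rw [← cj_EG hg, ← cj_EG hg, ← cj_cj_inv g D, comm_cj_iff, comm_cj_iff]
      exact h _ (quad_cj_mem hD (inv_mem hg))
    · rw [← cj_EG (hKG n.2)]
      by_cases hB : EG G s ∈ qcomp G A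
      · by_cases hD' : D ∈ qcomp G A
        · exact hcm _ hB D hD'
        · exact iff_of_true (qcomp_comm h2 h3 hU hB hD hD').symm
            (qcomp_comm h2 h3 hU (qcomp_cj_mem h2 h3 hU hB (hKG₀ n.2)) hD hD').symm
      · rw [(comm_iSup_left fun C hC => qcomp_comm h2 h3 hU hC (EG_mem hs) hB).cj_eq n.2]
  rw [Subgroup.mem_center_iff]
  intro g
  apply Subtype.ext
  refine comm_iSup_left (S := qcomp G A) (B := Subgroup.zpowers (n : (M →ₗ[k] M)ˣ)) (fun C hC => ?_) g g.2 _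
    (Subgroup.mem_zpowers _)
  rw [comm_iff_le_centralizer]
  intro c hc
  rw [Subgroup.zpowers_eq_closure, Subgroup.centralizer_closure, Subgroup.mem_centralizer_singleton_iff]
  obtain ⟨s, hs, rfl⟩ := mem_quadraticRootSubgroups.1 hC.1
  obtain ⟨a, ha, rfl⟩ := exists_of_mem_EG hc
  apply Units.ext
  by_cases ha0 : a = 0
  · simp [ha0]
  · simp [mul_add, add_mul, key a (hs.of_mem_ES ha ha0).1]

theorem finite_qcomp : {P | ∃ A ∈ quadraticRootSubgroups G, P = qcomp G A}.Finite := by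
  have : ∀ P : {P | ∃ A ∈ quadraticRootSubgroups G, P = qcomp G A}, ∃ s, MinQ G s ∧ P.1 = qcomp G (EG G s) := by
    rintro ⟨_, A, hA, rfl⟩
    obtain ⟨s, hs, rfl⟩ := mem_quadraticRootSubgroups.1 hA
    exact ⟨s, hs, rfl⟩
  choose f hf hf' using this
  have hli : LinearIndependent k f := by
    rw [linearIndependent_iff']
    intro T c hc j hj
    obtain ⟨t, ht, ho⟩ := exists_opp' hU (hf j)
    have h1 := congrArg (fun x => t * x * t) hc
    simp only [Finset.mul_sum, Finset.sum_mul, mul_zero, zero_mul] at h1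
    rw [Finset.sum_eq_single_of_mem j hj, mul_smul_comm, smul_mul_assoc, smul_eq_zero] at h1
    · exact h1.resolve_right ((opp_iff h2 h3 ht (hf j)).1 ho.symm)
    · intro i _ hij
      have h4 : EG G t ∈ qcomp G (EG G (f j)) :=
        ⟨EG_mem ht, fr_single (EG_mem (hf j)) (EG_mem ht) (r1_of_opp h2 h3 (hf j) ht ho)⟩
      have h5 := (qcomp_comm h2 h3 hU h4 (EG_mem (hf i)) fun h => hij (Subtype.ext
        (by rw [hf', hf', qcomp_eq h]))).mul_comm_ES ht.qn.mem_ES (hf i).qn.mem_ES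
      rw [mul_smul_comm, smul_mul_assoc, h5, mul_assoc, ht.qn.sq]; simp
  exact hli.finite

end CfsgH9
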