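import Cfsg.Agent.H9.QComp

set_option autoImplicit false

namespace CfsgH9
open Polynomial Cfsg LinearMap

variable {k : Type*} [Field k] {M : Type*} [AddCommGroup M] [Module k M] {G : Subgroup (M →ₗ[k] M)ˣ}

variable (G) in
/-- the radical space -/
def KK : Submodule k (M →ₗ[k] M) where
  carrier := {x | ∀ t, MinQ G t → t * x * t = 0}
  zero_mem' := by simp
  add_mem' := fun {a b} ha hb t ht => by rw [mul_add, add_mul, ha t ht, hb t ht, add_zero]
  smul_mem' := fun c a ha t ht => by rw [mul_smul_comm, smul_mul_assoc, ha t ht, smul_zero]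

variable (G) in
/-- the subgroup generated by quadratic elements centralizing the root subgroups -/
def GC : Subgroup (M →ₗ[k] M)ˣ := Subgroup.closure
  {g | QN k G ((g : M →ₗ[k] M) - 1) ∧ ∀ t, MinQ G t → ((g : M →ₗ[k] M) - 1) * t = t * ((g : M →ₗ[k] M) - 1)}

theorem QN.mem_of_coe {g : (M →ₗ[k] M)ˣ} (h : QN k G ((g : M →ₗ[k] M) - 1)) : g ∈ G :=
  inG_coe.1 (by simpa using h.fam 1)

theorem GC_le : GC G ≤ G := (Subgroup.closure_le _).2 fun _ hg => hg.1.mem_of_coe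

variable [FiniteDimensional k M]

theorem conj_mem_KK {x : M →ₗ[k] M} (hx : x ∈ KK G) {g : (M →ₗ[k] M)ˣ} (hg : g ∈ G) :
    (g * x * (g⁻¹ : (M →ₗ[k] M)ˣ) : M →ₗ[k] M) ∈ KK G := by
  intro t ht
  have := hx _ (ht.conj (inv_mem hg))
  have e : t * (g * x * (g⁻¹ : (M →ₗ[k] M)ˣ)) * t = g * (((g⁻¹ : (M →ₗ[k] M)ˣ) * t * (g⁻¹⁻¹ : (M →ₗ[k] M)ˣ)) * x *
      ((g⁻¹ : (M →ₗ[k] M)ˣ) * t * (g⁻¹⁻¹ : (M →ₗ[k] M)ˣ))) * (g⁻¹ : (M →ₗ[k] M)ˣ) := by
    simp [mul_assoc]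
  rw [e, this]; simp

theorem comm_mem_KK {x s : M →ₗ[k] M} (hx : x ∈ KK G) (hs : QN k G s) (h : s * x * s = 0) :
    s * x - x * s ∈ KK G := by
  have := conj_mem_KK hx hs.uS_mem
  rw [uS_conj, h, sub_zero] at this
  have h4 := sub_mem this hx
  rwa [add_sub_cancel_left] at h4

theorem comm_G0_GC : Comm (⨆ C ∈ quadraticRootSubgroups G, C) (GC G) := by
  refine comm_iSup_left fun C hC => ?_
  rw [comm_iff_le_centralizer, GC, Subgroup.centralizer_closure]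
  intro c hc g hg
  obtain ⟨s, hs, rfl⟩ := mem_quadraticRootSubgroups.1 hC
  obtain ⟨a, ha, rfl⟩ := exists_of_mem_EG hc
  apply Units.ext
  by_cases ha0 : a = 0
  · simp [ha0]
  · have := hg.2 a (hs.of_mem_ES ha ha0).1
    simp only [Units.val_mul, uS_val, mul_add, add_mul, mul_sub, sub_mul, one_mul, mul_one, sub_left_inj] at this ⊢
    rw [this]

theorem exists_minQ {r : M →ₗ[k] M} (hr : QN k G r) (hr0 : r ≠ 0) : ∃ s, MinQ G s := by
  obtain ⟨s, hs, hmin⟩ := (measure (rk : (M →ₗ[k] M) → ℕ)).wf.has_min {s | QN k G s ∧ s ≠ 0} ⟨r, hr, hr0⟩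
  exact ⟨s, hs.1, hs.2, fun t ht ht0 => not_lt.1 (hmin t ⟨ht, ht0⟩)⟩

variable (h2 : (2 : k) ≠ 0) (h3 : 3 < ENat.card k)
include h2 h3

theorem exists_split {r t : M →ₗ[k] M} (hr : QN k G r) (ht : MinQ G t) (h : Opp r t) :
    ∃ s r₀, r = s + r₀ ∧ MinQ G s ∧ QN k G r₀ ∧ s * r₀ = 0 ∧ rk r₀ < rk r := by
  obtain ⟨e, u, hf⟩ := exists_fit (k := k) hr.sq ht.qn.sq h
  obtain ⟨-, -, -, -, hs⟩ := fit_main h2 h3 hf hr ht
  have e1 : r * (e * r) = 0 := by rw [← mul_assoc, ← hf.e_s.eq, mul_assoc, hr.sq, mul_zero]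
  have e2 : e * r * r = 0 := by rw [mul_assoc, hr.sq, mul_zero]
  refine ⟨e * r, r + -(e * r), by abel, hs, hr.add hs.qn.neg (by rw [mul_neg, e1, neg_zero])
    (by rw [neg_mul, e2, neg_zero]), by rw [mul_add, mul_neg, e2, hs.qn.sq]; simp, ?_⟩
  by_contra hle
  have e3 : r + -(e * r) = (1 - e) * r := by rw [sub_mul, one_mul, sub_eq_add_neg]
  rw [e3] at hle
  have := mul_eq_zero_of_ker_le (x := e) (ker_eq_of_rk_le (ker_le_mul (1 - e) r) (not_lt.1 hle)).le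
    (by rw [mul_assoc, ← hf.e_s.eq, ← mul_assoc, sub_mul, one_mul, hf.ee, sub_self, zero_mul])
  exact hs.ne (hf.e_s.eq.trans this)

theorem comm_of_not_opp (hU : NoUnip G) {r : M →ₗ[k] M} (hr : QN k G r) (h : ∀ t, MinQ G t → ¬ Opp t r)
    {t : M →ₗ[k] M} (ht : MinQ G t) : r * t = t * r := by
  have hrK : r ∈ KK G := fun t ht => sts_eq_zero h2 ht hr (h t ht)
  have := centralizes_of_rel hU (fun s t => t - s ∈ KK G) (fun s => by simp)
    (fun s t h => by simpa using neg_mem h) (fun s t u h h' => by simpa using add_mem h' h)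
    (fun g hg s t h => by simpa [mul_sub, sub_mul] using conj_mem_KK h hg) (fun s t hs ht h => ?_)
    hr.uS_mem (fun s hs => ?_) ht
  · simpa [mul_add, add_mul] using this
  · have e1 := h s hs
    have e2 : s * t * s = 0 := by rwa [mul_sub, hs.qn.sq, sub_zero] at e1
    have ho : ¬ Opp s t := fun ho => (opp_iff h2 h3 hs ht).1 ho e2
    by_contra hne
    have hu := minQ_comm h2 h3 hs ht ho fun hc => hne (hc.mul_comm_ES hs.qn.mem_ES ht.qn.mem_ES)
    have e3 := comm_mem_KK h hs.qn e1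
    rw [mul_sub, sub_mul, hs.qn.sq, sub_zero, sub_zero] at e3
    obtain ⟨v, hv, hov⟩ := exists_opp' hU hu
    exact (opp_iff h2 h3 hv hu).1 hov.symm (e3 v hv)
  · rw [uS_conj]
    have e1 := comm_mem_KK hrK hs.qn (hrK s hs)
    have rr : ∀ x, r * (r * x) = 0 := fun x => by rw [← mul_assoc, hr.sq, zero_mul]
    have e2 := comm_mem_KK e1 hr (by simp only [mul_sub, sub_mul, mul_assoc, hr.sq, rr]; simp)
    have e3 := sub_mem (neg_mem e1) ((KK G).smul_mem (2⁻¹ : k) e2)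
    convert e3 using 1
    simp only [mul_sub, sub_mul, mul_assoc, hr.sq, rr, mul_zero, smul_sub]
    match_scalars <;> field_simp <;> ring

theorem uS_mem_sup (hU : NoUnip G) {r : M →ₗ[k] M} (hr : QN k G r) :
    uS r hr.sq ∈ (⨆ C ∈ quadraticRootSubgroups G, C) ⊔ GC G := by
  induction hn : rk r using Nat.strong_induction_on generalizing r with
  | _ n ih =>
  by_cases h : ∀ t, MinQ G t → ¬ Opp t r
  · refine Subgroup.mem_sup_right (Subgroup.subset_closure ⟨by simpa using hr, fun t ht => ?_⟩)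
    simpa using comm_of_not_opp h2 h3 hU hr h ht
  push Not at h
  obtain ⟨t, ht, ho⟩ := h
  obtain ⟨s, r₀, rfl, hs, hr₀, e, hlt⟩ := exists_split h2 h3 hr ht ho.symm
  have : uS (s + r₀) hr.sq = uS s hs.qn.sq * uS r₀ hr₀.sq :=
    Units.ext (by simp [mul_add, add_mul, e]; abel)
  rw [this]
  exact mul_mem (Subgroup.mem_sup_left (le_biSup_self (EG_mem hs) (uS_mem_EG hs.qn.mem_ES)))
    (ih _ (hn ▸ hlt) hr₀ rfl)

theorem sup_GC_eq (hU : NoUnip G) (hgen : Subgroup.closure (quadraticElements G) = G) :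
    (⨆ C ∈ quadraticRootSubgroups G, C) ⊔ GC G = G := by
  refine le_antisymm (sup_le (iSup₂_le fun _ => quad_le) GC_le) ?_
  conv_lhs => rw [← hgen]
  refine (Subgroup.closure_le _).2 fun g hg => ?_
  have := uS_mem_sup h2 h3 hU (mem_quadraticElements.1 hg).1
  rwa [show uS _ (mem_quadraticElements.1 hg).1.sq = g from Units.ext (by simp)] at this

omit h2 h3 [FiniteDimensional k M] in
theorem closure_quad_GC : Subgroup.closure (quadraticElements (GC G)) = GC G := by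
  refine le_antisymm ((Subgroup.closure_le _).2 fun g hg => hg.1) ((Subgroup.closure_le _).2 fun g hg => ?_)
  by_cases h1 : g = 1
  · rw [h1]; exact one_mem _
  refine Subgroup.subset_closure (mem_quadraticElements.2 ⟨⟨hg.1.sq, fun c =>
    ⟨uS _ (hg.1.smul c).sq, Subgroup.subset_closure ⟨by simpa using hg.1.smul c, fun t ht => ?_⟩, rfl⟩⟩,
    fun e => h1 (Units.ext (sub_eq_zero.1 e))⟩)
  simp [hg.2 t ht]

theorem quad_decomp (n : ℕ) : ∀ G : Subgroup (M →ₗ[k] M)ˣ, HypH G → Subgroup.closure (quadraticElements G) = G →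
    (∀ r, QN k G r → r ≠ 0 → Module.finrank k M - rk r < n) →
    ∃ 𝒢 : Set (Subgroup (M →ₗ[k] M)ˣ), 𝒢.Finite ∧
      (∀ K ∈ 𝒢, K ≤ G ∧ (∀ g ∈ G, cj g K = K) ∧ IsQuasisimple K ∧
        Subgroup.closure (quadraticElements G ∩ K) = K) ∧
      (∀ K ∈ 𝒢, ∀ L ∈ 𝒢, K ≠ L → Comm K L) ∧ (⨆ K ∈ 𝒢, K) = G ∧ ∀ σ ∈ quadraticElements G, ∃ K ∈ 𝒢, σ ∈ K := by
  have triv : ∀ G : Subgroup (M →ₗ[k] M)ˣ, Subgroup.closure (quadraticElements G) = G →
      (∀ r, QN k G r → r = 0) →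
    ∃ 𝒢 : Set (Subgroup (M →ₗ[k] M)ˣ), 𝒢.Finite ∧
      (∀ K ∈ 𝒢, K ≤ G ∧ (∀ g ∈ G, cj g K = K) ∧ IsQuasisimple K ∧
        Subgroup.closure (quadraticElements G ∩ K) = K) ∧
      (∀ K ∈ 𝒢, ∀ L ∈ 𝒢, K ≠ L → Comm K L) ∧ (⨆ K ∈ 𝒢, K) = G ∧ ∀ σ ∈ quadraticElements G, ∃ K ∈ 𝒢, σ ∈ K := by
    intro G hgen h
    have : quadraticElements G = ∅ := Set.eq_empty_of_forall_notMem fun σ hσ =>
      (mem_quadraticElements.1 hσ).2 (h _ (mem_quadraticElements.1 hσ).1)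
    refine ⟨∅, Set.finite_empty, by simp, by simp, ?_, by simp [this]⟩
    rw [← hgen, this]; simp
  induction n with
  | zero => intro G _ hgen h; exact triv G hgen fun r hr => by_contra fun h0 => by simpa using h r hr h0
  | succ n ih =>
  intro G hH hgen hn
  by_cases h0 : ∀ r, QN k G r → r = 0
  · exact triv G hgen h0
  push Not at h0
  obtain ⟨r, hr, hr0⟩ := h0
  obtain ⟨s₀, hs₀⟩ := exists_minQ hr hr0
  have hU := hH.noUnip
  have hsup := sup_GC_eq h2 h3 hU hgen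
  have hfix : ∀ N : Subgroup (M →ₗ[k] M)ˣ, N ≤ GC G → (∀ g ∈ GC G, cj g N = N) → ∀ g ∈ G, cj g N = N := by
    intro N hN h g hg
    rw [← hsup] at hg
    exact cj_fix_sup (fun a ha => (comm_G0_GC.mono le_rfl hN).cj_eq ha) h g hg
  obtain ⟨𝒢, f1, f2, f3, f4, f5⟩ := ih (GC G) (fun N hN h hne => hH N (hN.trans GC_le) (hfix N hN h) hne)
    closure_quad_GC (fun r hr hr0 => by
      have h1 := hn s₀ hs₀.qn hs₀.ne
      have h4 : rk r ≤ Module.finrank k M := Submodule.finrank_le _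
      have h5 : rk s₀ < rk r := by
        by_contra hle
        have hm := hs₀.of_le (hr.mono GC_le) hr0 (not_lt.1 hle)
        obtain ⟨t, ht, ho⟩ := exists_opp' hU hm
        have := uS_commute_iff.1 (comm_G0_GC _ (le_biSup_self (EG_mem ht) (uS_mem_EG ht.qn.mem_ES)) _ hr.uS_mem)
        exact (opp_iff h2 h3 hm ht).1 ho (by rw [mul_assoc, this, ← mul_assoc, hr.sq, zero_mul])
      omega)
  have hK0 : ∀ A, (⨆ C ∈ qcomp G A, C) ≤ ⨆ C ∈ quadraticRootSubgroups G, C :=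
    fun A => iSup₂_le fun C hC => le_biSup_self hC.1
  have hKn : ∀ A, ∀ g ∈ G, cj g (⨆ C ∈ qcomp G A, C) = ⨆ C ∈ qcomp G A, C := by
    intro A g hg
    rw [← hsup] at hg
    refine cj_fix_sup (cj_eq_self_of_le fun a ha => ?_)
      (fun a ha => (comm_G0_GC.mono (hK0 A) le_rfl).symm.cj_eq ha) g hg
    simp only [cj_iSup]
    exact iSup₂_le fun C hC => le_biSup_self (qcomp_cj_mem h2 h3 hU hC ha)
  set 𝒢₁ := (fun P : Set (Subgroup (M →ₗ[k] M)ˣ) => ⨆ C ∈ P, C) ''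
    {P | ∃ A ∈ quadraticRootSubgroups G, P = qcomp G A} with h𝒢₁
  have hm1 : ∀ A ∈ quadraticRootSubgroups G, (⨆ C ∈ qcomp G A, C) ∈ 𝒢₁ ∪ 𝒢 :=
    fun A hA => Or.inl ⟨_, ⟨A, hA, rfl⟩, rfl⟩
  have hcomm : ∀ K ∈ 𝒢₁ ∪ 𝒢, ∀ L ∈ 𝒢₁ ∪ 𝒢, K ≠ L → Comm K L := by
    rintro _ (⟨_, ⟨A, hA, rfl⟩, rfl⟩ | hK) _ (⟨_, ⟨B, hB, rfl⟩, rfl⟩ | hL) hne
    · refine comm_iSup_left fun C hC => (comm_iSup_left fun D hD =>
        (qcomp_comm h2 h3 hU hC hD.1 fun h => hne ?_).symm).symm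
      rw [← qcomp_eq h, qcomp_eq hD]
    · exact comm_G0_GC.mono (hK0 A) (f2 _ hL).1
    · exact (comm_G0_GC.mono (hK0 B) (f2 _ hK).1).symm
    · exact f3 _ hK _ hL hne
  refine ⟨𝒢₁ ∪ 𝒢, ((finite_qcomp h2 h3 hU).image _).union f1, ?_, hcomm, ?_, ?_⟩
  · rintro _ (⟨_, ⟨A, hA, rfl⟩, rfl⟩ | hK)
    · refine ⟨iSup₂_le fun C hC => quad_le hC.1, hKn A, quasi_qcomp h2 h3 hU hA,
        le_antisymm ((Subgroup.closure_le _).2 fun g hg => hg.2) (iSup₂_le fun C hC c hc => ?_)⟩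
      by_cases h1 : c = 1
      · rw [h1]; exact one_mem _
      refine Subgroup.subset_closure ⟨?_, le_biSup_self hC hc⟩
      obtain ⟨s, hs, rfl⟩ := mem_quadraticRootSubgroups.1 hC.1
      exact mem_quadraticElements.2 ⟨hc.1, fun e => h1 (Units.ext (sub_eq_zero.1 e))⟩
    · obtain ⟨a1, a2, a3, a4⟩ := f2 _ hK
      refine ⟨a1.trans GC_le, hfix _ a1 a2, a3,
        le_antisymm ((Subgroup.closure_le _).2 fun g hg => hg.2) ?_⟩
      conv_lhs => rw [← a4]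
      refine Subgroup.closure_mono fun g hg => ⟨?_, hg.2⟩
      have := mem_quadraticElements.1 hg.1
      exact mem_quadraticElements.2 ⟨this.1.mono GC_le, this.2⟩
  · rw [iSup_union, f4]
    refine Eq.trans ?_ hsup
    congr 1
    refine le_antisymm (iSup₂_le ?_) (iSup₂_le fun A hA => ?_)
    · rintro _ ⟨_, ⟨A, hA, rfl⟩, rfl⟩; exact hK0 A
    · exact (le_biSup_self (mem_qcomp_self hA)).trans (le_biSup_self (S := 𝒢₁) ⟨_, ⟨A, hA, rfl⟩, rfl⟩)
  · have key : ∀ m : ℕ, ∀ r, ∀ hr : QN k G r, r ≠ 0 → rk r = m → ∃ K ∈ 𝒢₁ ∪ 𝒢, uS r hr.sq ∈ K := by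
      intro m
      induction m using Nat.strong_induction_on with
      | _ m ihm =>
      intro r hr hr0 hm
      by_cases h : ∀ t, MinQ G t → ¬ Opp t r
      · obtain ⟨K, hK, hK'⟩ := f5 (uS r hr.sq) (mem_quadraticElements.2 ⟨⟨by simpa using hr.sq, fun c =>
          ⟨uS _ (hr.smul c).sq, Subgroup.subset_closure ⟨by simpa using hr.smul c, fun t ht => by
            simp [comm_of_not_opp h2 h3 hU hr h ht]⟩, by simp⟩⟩, by simpa using hr0⟩)
        exact ⟨K, Or.inr hK, hK'⟩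
      push Not at h
      obtain ⟨t, ht, ho⟩ := h
      obtain ⟨s, r₀, rfl, hs, hr₀, e, hlt⟩ := exists_split h2 h3 hr ht ho.symm
      have e1 : uS (s + r₀) hr.sq = uS s hs.qn.sq * uS r₀ hr₀.sq :=
        Units.ext (by simp [mul_add, add_mul, e]; abel)
      have hsK : uS s hs.qn.sq ∈ ⨆ C ∈ qcomp G (EG G s), C :=
        le_biSup_self (mem_qcomp_self (EG_mem hs)) (uS_mem_EG hs.qn.mem_ES)
      refine ⟨_, hm1 _ (EG_mem hs), e1 ▸ mul_mem hsK ?_⟩
      by_cases hr₀0 : r₀ = 0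
      · rw [uS_eq_one.2 hr₀0]; exact one_mem _
      obtain ⟨L, hL, hL'⟩ := ihm _ (hm ▸ hlt) r₀ hr₀ hr₀0 rfl
      by_contra hcon
      have hc := hcomm _ (hm1 _ (EG_mem hs)) L hL fun e => hcon (e ▸ hL')
      have hfx : ∀ B, FR (quadraticRootSubgroups G) (EG G s) B → B ≤ FixG (range r₀) := by
        intro B hB
        induction hB with
        | refl => intro g hg; exact (mul_eq_zero_iff_le.1 e).trans hg.2.1
        | @tail B C h1 h4 ihB =>
          obtain ⟨x, hx, rfl, -⟩ := r1_ex_swap h4.2.2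
          have hx' : x ∈ ⨆ C ∈ qcomp G (EG G s), C :=
            sup_le (le_biSup_self (S := qcomp G (EG G s)) ⟨h4.1, h1⟩)
              (le_biSup_self (S := qcomp G (EG G s)) ⟨h4.2.1, h1.tail h4⟩) hx
          have e2 := Units.ext_iff.1 (hc _ (inv_mem hx') _ hL')
          simp only [Units.val_mul, uS_val, mul_add, add_mul, mul_one, one_mul, add_right_inj] at e2
          intro y hy
          obtain ⟨b, hb, rfl⟩ := mem_cj'.1 hy
          have e3 := mul_eq_zero_iff_le.2 (ihB hb)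
          rw [mem_FixG, ← mul_eq_zero_iff_le]
          have e4 : ((x * b * x⁻¹ : (M →ₗ[k] M)ˣ) : M →ₗ[k] M) - 1 =
            x * ((b : M →ₗ[k] M) - 1) * (x⁻¹ : (M →ₗ[k] M)ˣ) := by simp [mul_sub, sub_mul]
          rw [e4, mul_assoc, e2, mul_assoc, ← mul_assoc _ r₀, e3]; simp
      have := hH _ (iSup₂_le fun C hC => quad_le hC.1) (hKn (EG G s)) fun e =>
        hs.ne (uS_eq_one.1 (Subgroup.mem_bot.1 (e ▸ hsK)))
      exact hr₀0 (range_eq_bot.1 (eq_bot_iff.2 (this ▸ le_fixedSubmodule.2 (iSup₂_le fun C hC => hfx C hC.2))))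
    intro σ hσ
    obtain ⟨h1, h4⟩ := mem_quadraticElements.1 hσ
    obtain ⟨K, hK, hK'⟩ := key _ _ h1 h4 rfl
    exact ⟨K, hK, by convert hK'; exact Units.ext (by simp)⟩

end CfsgH9
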