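import Cfsg.Agent.H9.QStruct

set_option autoImplicit false

namespace CfsgH9
open Polynomial Cfsg LinearMap

section Alg
variable {k A : Type*} [Field k] [Ring A] [Algebra k A]

theorem uS_conj (s t : A) (ht : t * t = 0) :
    (uS t ht : A) * s * ((uS t ht)⁻¹ : Aˣ) = s + (t * s - s * t) - t * s * t := by
  rw [uS_val, uS_inv]; noncomm_ring

theorem QN.conj_uS {G : Subgroup Aˣ} {s t : A} (hs : QN k G s) (ht : QN k G t) :
    QN k G (s + (t * s - s * t) - t * s * t) := by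
  rw [← uS_conj s t ht.sq]; exact hs.conj ht.uS_mem

theorem QN.sts {G : Subgroup Aˣ} (h2 : (2 : k) ≠ 0) {s t : A} (hs : QN k G s) (ht : QN k G t)
    (h5 : s * t * s * t * s = 0) : QN k G (s * t * s) := by
  have ss : ∀ x, s * (s * x) = 0 := fun x => by rw [← mul_assoc, hs.sq, zero_mul]
  have tt : ∀ x, t * (t * x) = 0 := fun x => by rw [← mul_assoc, ht.sq, zero_mul]
  have h5' : s * (t * (s * (t * s))) = 0 := by rw [← h5]; simp only [mul_assoc]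
  have h5'' : ∀ x, s * (t * (s * (t * (s * x)))) = 0 := fun x => by
    rw [← zero_mul x, ← h5]; simp only [mul_assoc]
  have key : ∀ b c : k, InG G (1 + c • ((2 * b) • (s * t * s) - b ^ 2 • (s * t * s * t - t * s * t * s))) := by
    intro b c
    have h1 := hs.conj_uS (ht.smul b)
    have := (((hs.fam c).mul (h1.fam 1)).mul (hs.fam (-c))).mul (h1.fam (-1))
    convert this using 1
    simp only [mul_add, add_mul, mul_sub, sub_mul, mul_assoc, smul_mul_assoc, mul_smul_comm, smul_add, smul_sub,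
      ss, tt, hs.sq, ht.sq, h5', h5'', mul_zero, smul_zero, one_mul, mul_one, zero_mul]
    module
  refine ⟨by simp only [mul_assoc, ss, mul_zero], fun c => ?_⟩
  have h4 : (4 : k) ≠ 0 := by
    have : (4 : k) = 2 * 2 := by norm_num
    rw [this]; exact mul_ne_zero h2 h2
  have := (key 1 (c / 4)).mul (key (-1) (-(c / 4)))
  convert this using 1
  simp only [mul_add, add_mul, mul_sub, sub_mul, mul_assoc, smul_mul_assoc, mul_smul_comm, smul_add, smul_sub,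
    ss, tt, hs.sq, ht.sq, h5', h5'', mul_zero, smul_zero, one_mul, mul_one]
  match_scalars <;> field_simp <;> ring

theorem isNilpotent_conj_iff (g : Aˣ) (x : A) : IsNilpotent ((g : A) * x * (g⁻¹ : Aˣ)) ↔ IsNilpotent x := by
  refine exists_congr fun n => ?_
  rw [Units.conj_pow]
  simp

/-- standard pairs -/
structure Std (s t : A) : Prop where
  ss : s * s = 0
  tt : t * t = 0
  sts : s * t * s = s
  tst : t * s * t = t
  ne : s ≠ 0

theorem Std.symm {s t : A} (h : Std s t) : Std t s :=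
  ⟨h.tt, h.ss, h.tst, h.sts, fun e => h.ne (by rw [← h.sts, e]; simp)⟩

theorem Std.es {s t : A} (h : Std s t) : (s * t + t * s) * s = s := by rw [z_mul_left h.ss, h.sts]
theorem Std.et {s t : A} (h : Std s t) : (s * t + t * s) * t = t := by rw [z_mul_right h.tt, h.tst]
theorem Std.ee {s t : A} (h : Std s t) : (s * t + t * s) * (s * t + t * s) = s * t + t * s := by
  rw [mul_add, ← mul_assoc, ← mul_assoc, h.es, h.et]

theorem Std.fit {s t : A} (h : Std s t) : Fit k s t (s * t + t * s) (s * t + t * s) :=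
  ⟨h.ss, h.tt, ⟨X, aeval_X _⟩, ⟨X, aeval_X _⟩, h.ee, h.ee, h.ee,
    by rw [sub_mul, one_mul, h.ee, sub_self]; exact IsNilpotent.zero,
    fun e => h.ne (by rw [← h.es, e, zero_mul])⟩

/-- opposite pairs -/
def Opp (s t : A) : Prop := ¬ IsNilpotent (s * t + t * s)

theorem Opp.symm {s t : A} (h : Opp s t) : Opp t s := by
  unfold Opp at *; rwa [add_comm]

theorem opp_comm {s t : A} : Opp s t ↔ Opp t s := ⟨Opp.symm, Opp.symm⟩

theorem opp_conj_iff (g : Aˣ) (s t : A) :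
    Opp ((g : A) * s * (g⁻¹ : Aˣ)) ((g : A) * t * (g⁻¹ : Aˣ)) ↔ Opp s t := by
  unfold Opp
  rw [← isNilpotent_conj_iff g (s * t + t * s)]
  simp [mul_add, add_mul, mul_assoc]

theorem Std.opp {s t : A} (h : Std s t) : Opp s t := by
  rintro ⟨n, hn⟩
  have : ∀ n : ℕ, (s * t + t * s) ^ n * s = s := by
    intro n
    induction n with
    | zero => simp
    | succ n ih => rw [pow_succ, mul_assoc, h.es, ih]
  exact h.ne (by rw [← this n, hn, zero_mul])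

theorem unip_pair_of_not_opp {s t : A} (hs : s * s = 0) (ht : t * t = 0) (h : ¬ Opp s t) :
    Unip k (Subgroup.closure {uS s hs, uS t ht}) := by
  obtain ⟨N, hN, h1, h2⟩ := exists_nil_of_z (k := k) hs ht (not_not.1 h)
  refine unip_closure hN ?_
  rintro _ (rfl | rfl) <;> simpa

theorem not_opp_of_unip {H : Subgroup Aˣ} (hH : Unip k H) {a b : Aˣ} (ha : a ∈ H) (hb : b ∈ H) :
    ¬ Opp ((a : A) - 1) ((b : A) - 1) := by
  obtain ⟨N, hN, h⟩ := hH
  obtain ⟨n, hn⟩ := hN.nil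
  refine not_not.2 ⟨n, ?_⟩
  rw [← Submodule.mem_bot k, ← hn]
  exact Submodule.pow_mem_pow _ (add_mem (hN.mul_le (Submodule.mul_mem_mul (h a ha) (h b hb)))
    (hN.mul_le (Submodule.mul_mem_mul (h b hb) (h a ha)))) n

end Alg

variable {k : Type*} [Field k] {M : Type*} [AddCommGroup M] [Module k M] {G : Subgroup (M →ₗ[k] M)ˣ}

variable (G) in
/-- the root space of `s` -/
def ES (s : M →ₗ[k] M) : Submodule k (M →ₗ[k] M) where
  carrier := {t | QN k G t ∧ ker s ≤ ker t ∧ range t ≤ range s ∧ range t ≤ ker s}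
  zero_mem' := ⟨QN.zero G, by simp, by simp, by simp⟩
  add_mem' := by
    rintro a b ⟨a1, a2, a3, a4⟩ ⟨b1, b2, b3, b4⟩
    refine ⟨a1.add b1 (mul_eq_zero_iff_le.2 (b4.trans a2)) (mul_eq_zero_iff_le.2 (a4.trans b2)), ?_, ?_, ?_⟩
    · intro v hv
      have h1 : a v = 0 := a2 hv
      have h2 : b v = 0 := b2 hv
      simp [h1, h2]
    · rintro _ ⟨v, rfl⟩; exact add_mem (a3 ⟨v, rfl⟩) (b3 ⟨v, rfl⟩)
    · rintro _ ⟨v, rfl⟩; exact add_mem (a4 ⟨v, rfl⟩) (b4 ⟨v, rfl⟩)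
  smul_mem' := by
    rintro c a ⟨a1, a2, a3, a4⟩
    refine ⟨a1.smul c, ?_, ?_, ?_⟩
    · intro v hv
      have h1 : a v = 0 := a2 hv
      simp [h1]
    · rintro _ ⟨v, rfl⟩; exact Submodule.smul_mem _ c (a3 ⟨v, rfl⟩)
    · rintro _ ⟨v, rfl⟩; exact Submodule.smul_mem _ c (a4 ⟨v, rfl⟩)

theorem mem_ES {s t : M →ₗ[k] M} :
    t ∈ ES G s ↔ QN k G t ∧ ker s ≤ ker t ∧ range t ≤ range s ∧ range t ≤ ker s := Iff.rfl

theorem ES_mul {s a b : M →ₗ[k] M} (ha : a ∈ ES G s) (hb : b ∈ ES G s) : a * b = 0 :=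
  mul_eq_zero_iff_le.2 (hb.2.2.2.trans ha.2.1)

theorem QN.mem_ES {s : M →ₗ[k] M} (h : QN k G s) : s ∈ ES G s :=
  ⟨h, le_rfl, le_rfl, mul_eq_zero_iff_le.1 h.sq⟩

theorem isNil_ES (s : M →ₗ[k] M) : IsNil (ES G s) :=
  ⟨Submodule.mul_le.2 fun a ha b hb => by rw [ES_mul ha hb]; exact zero_mem _, 2, by
    rw [pow_two, eq_bot_iff, Submodule.mul_le]
    intro a ha b hb; rw [ES_mul ha hb]; exact zero_mem _⟩

theorem ES_congr {s t : M →ₗ[k] M} (h1 : ker t = ker s) (h2 : range t = range s) : ES G t = ES G s := by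
  ext x; rw [mem_ES, mem_ES, h1, h2]

variable (G) in
/-- the root subgroup of `s` -/
def EG (s : M →ₗ[k] M) : Subgroup (M →ₗ[k] M)ˣ := UG (ES G s) (isNil_ES s)

theorem mem_EG {s : M →ₗ[k] M} {g : (M →ₗ[k] M)ˣ} : g ∈ EG G s ↔ (g : M →ₗ[k] M) - 1 ∈ ES G s := Iff.rfl

theorem uS_mem_EG {s t : M →ₗ[k] M} (h : t ∈ ES G s) : uS t h.1.sq ∈ EG G s := by
  rw [mem_EG]; simpa using h

theorem exists_of_mem_EG {s : M →ₗ[k] M} {g : (M →ₗ[k] M)ˣ} (h : g ∈ EG G s) :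
    ∃ t, ∃ ht : t ∈ ES G s, g = uS t ht.1.sq := ⟨_, h, Units.ext (by simp)⟩

theorem uS_eq_one {A : Type*} [Ring A] {s : A} {h : s * s = 0} : uS s h = 1 ↔ s = 0 := by
  rw [Units.ext_iff]; simp

theorem EG_le (s : M →ₗ[k] M) : EG G s ≤ G := fun g hg => by
  obtain ⟨t, ht, rfl⟩ := exists_of_mem_EG hg
  exact ht.1.uS_mem

theorem EG_congr {s t : M →ₗ[k] M} (h : ES G t = ES G s) : EG G t = EG G s := by
  ext g; rw [mem_EG, mem_EG, h]

theorem ES_eq_of_EG_eq {s t : M →ₗ[k] M} (h : EG G t = EG G s) : ES G t = ES G s := by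
  ext x
  constructor
  · intro hx; simpa [mem_EG] using (h ▸ uS_mem_EG hx : uS x hx.1.sq ∈ EG G s)
  · intro hx; simpa [mem_EG] using (h.symm ▸ uS_mem_EG hx : uS x hx.1.sq ∈ EG G t)

theorem comm_EG (s : M →ₗ[k] M) : Comm (EG G s) (EG G s) := by
  intro a ha b hb
  obtain ⟨x, hx, rfl⟩ := exists_of_mem_EG ha
  obtain ⟨y, hy, rfl⟩ := exists_of_mem_EG hb
  apply Units.ext
  simp only [Units.val_mul, uS_val, mul_add, add_mul, ES_mul hx hy, ES_mul hy hx, one_mul, mul_one]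
  abel

theorem unip_EG (s : M →ₗ[k] M) : Unip k (EG G s) := unip_UG _

theorem conj_mem_ES {s t : M →ₗ[k] M} {g : (M →ₗ[k] M)ˣ} (hg : g ∈ G) (ht : t ∈ ES G s) :
    (g * t * (g⁻¹ : (M →ₗ[k] M)ˣ) : M →ₗ[k] M) ∈ ES G (g * s * (g⁻¹ : (M →ₗ[k] M)ˣ)) := by
  obtain ⟨h1, h2, h3, h4⟩ := ht
  have hinj : ∀ v, (g : M →ₗ[k] M) v = 0 → v = 0 := fun v hv => by
    have := congrArg ((g⁻¹ : (M →ₗ[k] M)ˣ) : M →ₗ[k] M) hv
    rwa [← Module.End.mul_apply, Units.inv_mul, map_zero] at this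
  refine ⟨h1.conj hg, fun v hv => ?_, ?_, ?_⟩
  · have : s (((g⁻¹ : (M →ₗ[k] M)ˣ) : M →ₗ[k] M) v) = 0 := hinj _ hv
    have h5 : t _ = 0 := h2 this
    simp only [mem_ker, Module.End.mul_apply, h5, map_zero]
  · rintro _ ⟨v, rfl⟩
    obtain ⟨w, hw⟩ := h3 ⟨((g⁻¹ : (M →ₗ[k] M)ˣ) : M →ₗ[k] M) v, rfl⟩
    refine ⟨(g : M →ₗ[k] M) w, ?_⟩
    simp only [Module.End.mul_apply, ← hw]
    rw [← Module.End.mul_apply _ _ w, Units.inv_mul]; rfl
  · rw [← mul_eq_zero_iff_le] at h4 ⊢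
    simp only [mul_assoc, Units.inv_mul_cancel_left]
    rw [← mul_assoc s, h4]; simp

theorem conj_mem_ES_iff {s t : M →ₗ[k] M} {g : (M →ₗ[k] M)ˣ} (hg : g ∈ G) :
    (g * t * (g⁻¹ : (M →ₗ[k] M)ˣ) : M →ₗ[k] M) ∈ ES G (g * s * (g⁻¹ : (M →ₗ[k] M)ˣ)) ↔ t ∈ ES G s := by
  refine ⟨fun h => ?_, conj_mem_ES hg⟩
  simpa [mul_assoc] using conj_mem_ES (inv_mem hg) h

theorem cj_EG {s : M →ₗ[k] M} {g : (M →ₗ[k] M)ˣ} (hg : g ∈ G) :
    cj g (EG G s) = EG G (g * s * (g⁻¹ : (M →ₗ[k] M)ˣ)) := by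
  ext x
  rw [mem_cj, mem_EG, mem_EG, ← conj_mem_ES_iff hg]
  simp [mul_sub, sub_mul, mul_assoc]

variable [FiniteDimensional k M]

theorem finrank_ES_conj {s : M →ₗ[k] M} {g : (M →ₗ[k] M)ˣ} (hg : g ∈ G) :
    Module.finrank k (ES G (g * s * (g⁻¹ : (M →ₗ[k] M)ˣ))) = Module.finrank k (ES G s) := by
  have key : ∀ (s : M →ₗ[k] M) (g : (M →ₗ[k] M)ˣ), g ∈ G →
      Module.finrank k (ES G s) ≤ Module.finrank k (ES G (g * s * (g⁻¹ : (M →ₗ[k] M)ˣ))) := by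
    intro s g hg
    refine LinearMap.finrank_le_finrank_of_injective (f := ((LinearMap.mulRight k ((g⁻¹ : (M →ₗ[k] M)ˣ) :
      M →ₗ[k] M)).comp (LinearMap.mulLeft k (g : M →ₗ[k] M))).restrict fun x hx => conj_mem_ES hg hx) ?_
    intro a b e
    have : (g * a * (g⁻¹ : (M →ₗ[k] M)ˣ) : M →ₗ[k] M) = g * b * (g⁻¹ : (M →ₗ[k] M)ˣ) := congrArg Subtype.val e
    simpa using this
  refine le_antisymm ?_ (key s g hg)
  have := key (g * s * (g⁻¹ : (M →ₗ[k] M)ˣ)) g⁻¹ (inv_mem hg)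
  have e : ((g⁻¹ : (M →ₗ[k] M)ˣ) * (g * s * (g⁻¹ : (M →ₗ[k] M)ˣ)) * (g⁻¹⁻¹ : (M →ₗ[k] M)ˣ) : M →ₗ[k] M) = s := by
    simp [mul_assoc]
  rwa [e] at this

theorem MinQ.of_mem_ES {s t : M →ₗ[k] M} (h : MinQ G s) (ht : t ∈ ES G s) (ht0 : t ≠ 0) :
    MinQ G t ∧ ker t = ker s ∧ range t = range s :=
  ⟨h.of_le ht.1 ht0 (rk_le_of_range_le ht.2.2.1), ker_eq_of_rk_le ht.2.1 (h.min t ht.1 ht0),
    range_eq_of_rk_le ht.2.2.1 (h.min t ht.1 ht0)⟩

theorem MinQ.ES_eq {s t : M →ₗ[k] M} (h : MinQ G s) (ht : t ∈ ES G s) (ht0 : t ≠ 0) : ES G t = ES G s :=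
  ES_congr (h.of_mem_ES ht ht0).2.1 (h.of_mem_ES ht ht0).2.2

theorem MinQ.EG_eq {s t : M →ₗ[k] M} (h : MinQ G s) (ht : t ∈ ES G s) (ht0 : t ≠ 0) : EG G t = EG G s :=
  EG_congr (h.ES_eq ht ht0)

theorem sameActionClass_eq {σ : (M →ₗ[k] M)ˣ} (h : MinQ G ((σ : M →ₗ[k] M) - 1)) :
    sameActionClass G σ ∪ {1} = EG G ((σ : M →ₗ[k] M) - 1) := by
  ext τ
  constructor
  · rintro (⟨h1, h2, h3⟩ | rfl)
    · rw [mem_minimalQuadraticElements] at h1
      rw [SetLike.mem_coe, mem_EG, ← ES_congr h2 h3]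
      exact h1.qn.mem_ES
    · exact one_mem _
  · intro hτ
    by_cases h1 : τ = 1
    · exact Or.inr h1
    · have := h.of_mem_ES hτ (fun e => h1 (Units.ext (sub_eq_zero.1 e)))
      exact Or.inl ⟨mem_minimalQuadraticElements.2 this.1, this.2⟩

theorem sameActionSubgroup_eq {σ : (M →ₗ[k] M)ˣ} (h : MinQ G ((σ : M →ₗ[k] M) - 1)) :
    sameActionSubgroup G σ = EG G ((σ : M →ₗ[k] M) - 1) := by
  rw [← Subgroup.closure_eq (EG G _), ← sameActionClass_eq h, Subgroup.closure_union, sameActionSubgroup]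
  simp

theorem mem_quadraticRootSubgroups {E : Subgroup (M →ₗ[k] M)ˣ} :
    E ∈ quadraticRootSubgroups G ↔ ∃ s, MinQ G s ∧ E = EG G s := by
  constructor
  · rintro ⟨σ, hσ, rfl⟩
    rw [mem_minimalQuadraticElements] at hσ
    exact ⟨_, hσ, sameActionSubgroup_eq hσ⟩
  · rintro ⟨s, hs, rfl⟩
    have : MinQ G ((uS s hs.qn.sq : M →ₗ[k] M) - 1) := by simpa using hs
    refine ⟨uS s hs.qn.sq, mem_minimalQuadraticElements.2 this, ?_⟩
    rw [sameActionSubgroup_eq this]; simp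

theorem MinQ.conj_uS {s t : M →ₗ[k] M} (hs : MinQ G s) (ht : QN k G t) :
    MinQ G (s + (t * s - s * t) - t * s * t) := by
  rw [← uS_conj s t ht.sq]; exact hs.conj ht.uS_mem

theorem sts_eq_zero (h2 : (2 : k) ≠ 0) {s t : M →ₗ[k] M} (hs : MinQ G s) (ht : QN k G t) (h : ¬ Opp s t) :
    s * t * s = 0 := by
  obtain ⟨n, hn⟩ := not_not.1 h
  clear h
  induction n using Nat.strong_induction_on generalizing t with
  | _ n ih =>
  rcases Nat.lt_or_ge n 2 with h | h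
  · rw [← z_mul_left hs.qn.sq, ← pow_one (s * t + t * s), pow_eq_zero_of_le (by omega) hn, zero_mul]
  have ss : ∀ x, s * (s * x) = 0 := fun x => by rw [← mul_assoc, hs.qn.sq, zero_mul]
  have tt : ∀ x, t * (t * x) = 0 := fun x => by rw [← mul_assoc, ht.sq, zero_mul]
  have h1 := ih ((n + 1) / 2) (by omega) (hs.conj_uS ht).qn (by
    have : s * (s + (t * s - s * t) - t * s * t) + (s + (t * s - s * t) - t * s * t) * s =
        -((s * t + t * s) ^ 2) := by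
      simp only [pow_two, mul_add, add_mul, mul_sub, sub_mul, mul_assoc, ss, tt, hs.qn.sq, mul_zero]
      abel
    rw [this, neg_pow, ← pow_mul, pow_eq_zero_of_le (by omega) hn, mul_zero])
  have h5 : s * t * s * t * s = 0 := by
    simpa only [mul_add, add_mul, mul_sub, sub_mul, mul_assoc, ss, tt, hs.qn.sq, mul_zero, sub_self, add_zero,
      zero_sub, neg_eq_zero, zero_mul, neg_zero] using h1
  by_contra hne
  have h6 := ker_eq_of_rk_le (ker_le_mul (s * t) s) (hs.min _ (hs.qn.sts h2 ht h5) hne)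
  exact hne (by simpa only [mul_assoc] using mul_eq_zero_of_ker_le h6.le (by simpa only [mul_assoc] using h5))

section
variable (h2 : (2 : k) ≠ 0) (h3 : 3 < ENat.card k)
include h2 h3

theorem exists_std {s t : M →ₗ[k] M} (hs : MinQ G s) (ht : MinQ G t) (h : Opp s t) :
    ∃ t' ∈ ES G t, Std s t' := by
  obtain ⟨e, u, hf⟩ := exists_fit (k := k) hs.qn.sq ht.qn.sq h
  obtain ⟨-, hG, -, het, -⟩ := fit_main h2 h3 hf hs.qn ht
  obtain ⟨-, -, -, hes, -⟩ := fit_main h2 h3 hf.symm ht.qn hs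
  have hsq : u * t * (u * t) = 0 := by
    rw [mul_assoc, ← mul_assoc t, ← hf.u_t.eq, mul_assoc, ht.qn.sq]; simp
  have hst : s * (u * t) * s = s := by
    rw [← mul_assoc, ← hf.u_s.eq, mul_assoc, mul_assoc, ← mul_assoc s, hf.usts, hes]
  refine ⟨u * t, ⟨⟨hsq, fun c => ⟨_, hG (xL (algebraMap k _ c)), ?_⟩⟩, ker_le_mul _ _, ?_, ?_⟩,
    hs.qn.sq, hsq, hst, ?_, hs.ne⟩
  · rw [hf.Phi_xL, hf.psi_algebraMap, smul_mul_assoc, ← mul_assoc, hf.eu]
  · rw [hf.u_t.eq]; exact range_mul_le _ _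
  · rw [← mul_eq_zero_iff_le, ← mul_assoc, ← hf.u_t.eq, mul_assoc, ht.qn.sq, mul_zero]
  · rw [mul_assoc, ← mul_assoc s, ← hf.u_s.eq, mul_assoc, mul_assoc u s, ← mul_assoc t u, ← hf.u_t.eq,
      mul_assoc u t, ← mul_assoc t s, hf.utst, het]

theorem opp_iff {s t : M →ₗ[k] M} (hs : MinQ G s) (ht : MinQ G t) : Opp s t ↔ s * t * s ≠ 0 := by
  refine ⟨fun h e => ?_, fun h => by_contra fun h' => h (sts_eq_zero h2 hs ht.qn h')⟩
  obtain ⟨t', ht', hstd⟩ := exists_std h2 h3 hs ht h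
  have h1 : t' * s * t' ≠ 0 := by rw [hstd.tst]; exact hstd.symm.ne
  obtain ⟨-, e1, e2⟩ := ht.of_mem_ES ht' hstd.symm.ne
  have h4 : s * t * (s * t') = 0 := by rw [← mul_assoc, e, zero_mul]
  have h5 : t * (s * t') = (t' * s) * (t * (s * t')) := by
    have := mul_eq_zero_of_range_le (x := 1 - t' * s) e2.ge (by rw [sub_mul, hstd.tst, one_mul, sub_self])
    rw [sub_mul, one_mul, sub_eq_zero] at this
    rw [← mul_assoc (t' * s), ← this]
  rw [mul_assoc t', ← mul_assoc s, h4, mul_zero] at h5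
  exact h1 (by rw [mul_assoc]; exact mul_eq_zero_of_ker_le e1.ge h5)

end

end CfsgH9
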