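import Cfsg.Agent.H9.QTri

set_option autoImplicit false

namespace CfsgH9
open Polynomial Cfsg LinearMap

theorem commutator_sup_le {Γ : Type*} [Group Γ] {E F : Subgroup Γ} (hE : Comm E E) (hF : Comm F F)
    (hD : Comm ⁅E, F⁆ (E ⊔ F)) : ⁅E ⊔ F, E ⊔ F⁆ ≤ ⁅E, F⁆ := by
  have key : ∀ y : Γ, (∀ x ∈ E, x * y * x⁻¹ * y⁻¹ ∈ ⁅E, F⁆) → (∀ x ∈ F, x * y * x⁻¹ * y⁻¹ ∈ ⁅E, F⁆) →
      ∀ x ∈ E ⊔ F, x * y * x⁻¹ * y⁻¹ ∈ ⁅E, F⁆ := by
    intro y h1 h2
    let K : Subgroup Γ :=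
      { carrier := {x | x ∈ E ⊔ F ∧ x * y * x⁻¹ * y⁻¹ ∈ ⁅E, F⁆}
        one_mem' := ⟨one_mem _, by simp⟩
        mul_mem' := fun {a b} ha hb => ⟨mul_mem ha.1 hb.1, by
          have e : a * b * y * (a * b)⁻¹ * y⁻¹ = a * (b * y * b⁻¹ * y⁻¹) * a⁻¹ * (a * y * a⁻¹ * y⁻¹) := by group
          rw [e, ← hD _ hb.2 a ha.1, mul_inv_cancel_right]
          exact mul_mem hb.2 ha.2⟩
        inv_mem' := fun {a} ha => ⟨inv_mem ha.1, by
          have e : a⁻¹ * y * a⁻¹⁻¹ * y⁻¹ = a⁻¹ * ((a * y * a⁻¹ * y⁻¹)⁻¹ * a) := by group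
          rw [e, hD _ (inv_mem ha.2) a ha.1, inv_mul_cancel_left]
          exact inv_mem ha.2⟩ }
    have : E ⊔ F ≤ K := sup_le (fun x hx => ⟨Subgroup.mem_sup_left hx, h1 x hx⟩)
      (fun x hx => ⟨Subgroup.mem_sup_right hx, h2 x hx⟩)
    exact fun x hx => (this hx).2
  have inv : ∀ x y : Γ, x * y * x⁻¹ * y⁻¹ ∈ ⁅E, F⁆ → y * x * y⁻¹ * x⁻¹ ∈ ⁅E, F⁆ := fun x y h => by
    simpa [mul_assoc] using inv_mem h
  rw [Subgroup.commutator_le]
  intro x hx y hy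
  rw [commutatorElement_def]
  refine key y (fun a ha => inv _ _ (key a (fun b hb => ?_) (fun b hb => comm_mem' ha hb) y hy))
    (fun a ha => inv _ _ (key a (fun b hb => comm_mem hb ha) (fun b hb => ?_) y hy)) x hx
  · rw [hE b hb a ha]; simp
  · rw [hF b hb a ha]; simp

variable {k : Type*} [Field k] {M : Type*} [AddCommGroup M] [Module k M] {G : Subgroup (M →ₗ[k] M)ˣ}

variable (G) in
/-- no non-trivial normal subgroup has non-zero fixed vectors -/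
def HypH : Prop := ∀ N ≤ G, (∀ g ∈ G, cj g N = N) → N ≠ ⊥ → Cfsg.fixedSubmodule N = ⊥

variable (G) in
/-- no non-trivial unipotent normal subgroup -/
def NoUnip : Prop := ∀ N ≤ G, (∀ g ∈ G, cj g N = N) → Unip k N → N = ⊥

theorem hypH_of_irreducible (h : IsIrreducibleFor G) : HypH G := by
  intro N _ hN hne
  refine (h.2 _ fun g hg w hw => ?_).resolve_right fun e => hne ?_
  · rw [mem_fixedSubmodule] at hw ⊢
    intro n hn
    have := hw (g⁻¹ * n * g) (by rw [← mem_cj, hN g hg]; exact hn)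
    conv_rhs => rw [← this]
    simp only [← Module.End.mul_apply, ← Units.val_mul]
    simp [← mul_assoc]
  · rw [eq_bot_iff]
    intro n hn
    rw [Subgroup.mem_bot]
    apply Units.ext
    ext v
    exact mem_fixedSubmodule.1 (e ▸ Submodule.mem_top) n hn

theorem HypH.noUnip (h : HypH G) : NoUnip G := by
  rintro N hle hN ⟨P, ⟨-, n, hn⟩, hP⟩
  by_contra hne
  have hf := h N hle hN hne
  have key : ∀ j : ℕ, ∀ v : M, (∀ x ∈ P ^ j, x v = 0) → v = 0 := by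
    intro j
    induction j with
    | zero => intro v hv; exact hv 1 (Submodule.one_le.1 (by simp))
    | succ j ih =>
      intro v hv
      refine ih v fun x hx => ?_
      rw [← Submodule.mem_bot k, ← hf, mem_fixedSubmodule]
      intro g hg
      have := hv _ (by rw [pow_succ']; exact Submodule.mul_mem_mul (hP g hg) hx)
      simpa [sub_eq_zero] using this
  apply hne
  rw [eq_bot_iff]
  intro g _
  rw [Subgroup.mem_bot]
  apply Units.ext
  ext v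
  rw [key n v fun x hx => by rw [hn, Submodule.mem_bot] at hx; simp [hx]]; simp

variable [FiniteDimensional k M]

theorem exists_opp (hU : NoUnip G) {s : M →ₗ[k] M} (hs : MinQ G s) :
    ∃ g ∈ G, Opp s (g * s * (g⁻¹ : (M →ₗ[k] M)ˣ)) := by
  by_contra hcon
  push Not at hcon
  have hD := unip_closure_of_pairs (k := k) (D := {d | ∃ g ∈ G, d = g * uS s hs.qn.sq * g⁻¹}) (by
    rintro _ ⟨g, hg, rfl⟩ _ ⟨h, hh, rfl⟩
    have hm := mul_mem (mul_mem hg hs.qn.uS_mem) (inv_mem hg)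
    exact ⟨⟨_, mul_mem hm hh, by group⟩, ⟨_, mul_mem (inv_mem hm) hh, by group⟩⟩) (by
    rintro _ ⟨g, hg, rfl⟩ _ ⟨h, hh, rfl⟩
    have := unip_pair_of_not_opp (k := k) (hs.conj hg).qn.sq (hs.conj hh).qn.sq (fun ho => by
      apply hcon _ (mul_mem (inv_mem hg) hh)
      rw [← opp_conj_iff g]
      simpa [mul_assoc] using ho)
    convert this <;> exact Units.ext (by simp [mul_add, add_mul]))
  have := hU _ ((Subgroup.closure_le _).2 (by
      rintro _ ⟨g, hg, rfl⟩; exact mul_mem (mul_mem hg hs.qn.uS_mem) (inv_mem hg)))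
    (cj_eq_self_of_le fun a ha => by
      rw [cj_closure]
      refine Subgroup.closure_mono ?_
      rintro _ ⟨_, ⟨g, hg, rfl⟩, rfl⟩
      exact ⟨_, mul_mem ha hg, by group⟩) hD
  have h1 : uS s hs.qn.sq ∈ (⊥ : Subgroup (M →ₗ[k] M)ˣ) :=
    this ▸ Subgroup.subset_closure ⟨1, one_mem _, by simp⟩
  exact hs.ne (uS_eq_one.1 (Subgroup.mem_bot.1 h1))

theorem exists_opp' (hU : NoUnip G) {s : M →ₗ[k] M} (hs : MinQ G s) : ∃ t, MinQ G t ∧ Opp s t := by
  obtain ⟨g, hg, h⟩ := exists_opp hU hs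
  exact ⟨_, hs.conj hg, h⟩

variable (h2 : (2 : k) ≠ 0) (h3 : 3 < ENat.card k)
include h2 h3

theorem finrank_ES_opp {s t : M →ₗ[k] M} (hs : MinQ G s) (ht : MinQ G t) (h : Opp s t) :
    Module.finrank k (ES G s) = Module.finrank k (ES G t) := by
  obtain ⟨t', ht', hstd⟩ := exists_std h2 h3 hs ht h
  have e := hstd.cj_eq hs.qn ht'.1
  rw [cj_EG ht'.1.uS_mem, cj_EG hs.qn.uS_mem] at e
  rw [← ht.ES_eq ht' hstd.symm.ne, ← finrank_ES_conj ht'.1.uS_mem, ES_eq_of_EG_eq e,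
    finrank_ES_conj hs.qn.uS_mem]

theorem comm_ne_zero {s t : M →ₗ[k] M} (hs : MinQ G s) (ht : MinQ G t) (h : ¬ Opp s t)
    (hc : ¬ Comm (EG G s) (EG G t)) {a b : M →ₗ[k] M} (ha : a ∈ ES G s) (ha0 : a ≠ 0) (hb : b ∈ ES G t)
    (hb0 : b ≠ 0) : a * b - b * a ≠ 0 := by
  intro e
  apply hc
  intro x hx y hy
  obtain ⟨c, hc, rfl⟩ := exists_of_mem_EG hx
  obtain ⟨d, hd, rfl⟩ := exists_of_mem_EG hy
  have : c * d - d * c = 0 := by
    by_contra hne
    have hc0 : c ≠ 0 := by rintro rfl; simp at hne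
    have hd0 : d ≠ 0 := by rintro rfl; simp at hne
    obtain ⟨c1, c2, c3⟩ := hs.of_mem_ES hc hc0
    obtain ⟨d1, d2, d3⟩ := ht.of_mem_ES hd hd0
    obtain ⟨a1, a2, a3⟩ := hs.of_mem_ES ha ha0
    obtain ⟨b1, b2, b3⟩ := ht.of_mem_ES hb hb0
    have h4 := (comm_case c1 d1 (sandwich h2 h3 hs ht h hc hc hd)
      (sandwich h2 h3 ht hs (fun ho => h ho.symm) hd hd hc) hne).2.2.2
    rw [sub_eq_zero] at e
    have h5 : a * b = 0 := by
      rw [← range_eq_bot, eq_bot_iff, ← h4, c3, d3, ← a3, ← b3]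
      exact le_inf (range_mul_le _ _) (e ▸ range_mul_le _ _)
    have h6 : b * a = 0 := e ▸ h5
    rw [mul_eq_zero_iff_le] at h5 h6
    rw [a2, b3, ← c2, ← d3, ← mul_eq_zero_iff_le] at h5
    rw [b2, a3, ← d2, ← c3, ← mul_eq_zero_iff_le] at h6
    exact hne (by rw [h5, h6, sub_self])
  rw [sub_eq_zero] at this
  apply Units.ext
  simp only [Units.val_mul, uS_val, mul_add, add_mul, one_mul, mul_one, this]
  abel

theorem comm_mem_ES {s t : M →ₗ[k] M} (hs : MinQ G s) (ht : MinQ G t) (h : ¬ Opp s t)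
    (hc : ¬ Comm (EG G s) (EG G t)) {a b : M →ₗ[k] M} (ha : a ∈ ES G s) (hb : b ∈ ES G t) :
    a * b - b * a ∈ ES G (s * t - t * s) := by
  by_cases hne : a * b - b * a = 0
  · rw [hne]; exact zero_mem _
  have ha0 : a ≠ 0 := by rintro rfl; simp at hne
  have hb0 : b ≠ 0 := by rintro rfl; simp at hne
  obtain ⟨a1, a2, a3⟩ := hs.of_mem_ES ha ha0
  obtain ⟨b1, b2, b3⟩ := ht.of_mem_ES hb hb0
  have h' : ¬ Opp t s := fun ho => h ho.symm
  obtain ⟨c1, c2, c3, -⟩ := comm_case a1 b1 (sandwich h2 h3 hs ht h ha ha hb) (sandwich h2 h3 ht hs h' hb hb ha) hne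
  obtain ⟨-, d2, d3, -⟩ := comm_case hs ht (sts_eq_zero h2 hs ht.qn h) (sts_eq_zero h2 ht hs.qn h')
    (comm_ne_zero h2 h3 hs ht h hc hs.qn.mem_ES hs.ne ht.qn.mem_ES ht.ne)
  rw [a2, a3, b2, b3] at c2 c3
  rw [← ES_congr (c3.trans d3.symm) (c2.trans d2.symm)]
  exact c1.qn.mem_ES

theorem comm_surj (hU : NoUnip G) {s t : M →ₗ[k] M} (hs : MinQ G s) (ht : MinQ G t) (h : ¬ Opp s t)
    (hc : ¬ Comm (EG G s) (EG G t)) {a c : M →ₗ[k] M} (ha : a ∈ ES G s) (ha0 : a ≠ 0)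
    (hcm : c ∈ ES G (s * t - t * s)) : ∃ b ∈ ES G t, c = a * b - b * a := by
  have h' : ¬ Opp t s := fun ho => h ho.symm
  have h1 := sts_eq_zero h2 hs ht.qn h
  obtain ⟨hu, -⟩ := comm_case hs ht h1 (sts_eq_zero h2 ht hs.qn h')
    (comm_ne_zero h2 h3 hs ht h hc hs.qn.mem_ES hs.ne ht.qn.mem_ES ht.ne)
  have hdim : Module.finrank k (ES G t) = Module.finrank k (ES G (s * t - t * s)) := by
    obtain ⟨v, hv, ho⟩ := exists_opp' hU hu
    rw [finrank_ES_opp h2 h3 hu hv ho]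
    by_cases h4 : Opp t v
    · exact finrank_ES_opp h2 h3 ht hv h4
    have h5 := ht.conj_uS hs.qn
    have h6 := finrank_ES_conj (s := t) hs.qn.uS_mem
    rw [uS_conj] at h6
    rw [← h6]
    refine finrank_ES_opp h2 h3 h5 hv (by_contra fun h7 => ?_)
    have e1 := sts_eq_zero h2 hv ht.qn fun ho => h4 ho.symm
    have e2 := sts_eq_zero h2 hv h5.qn fun ho => h7 ho.symm
    rw [h1, sub_zero, mul_add, add_mul, e1, zero_add] at e2
    exact (opp_iff h2 h3 hv hu).1 ho.symm e2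
  let f : ES G t →ₗ[k] ES G (s * t - t * s) := (LinearMap.mulLeft k a - LinearMap.mulRight k a).restrict
    fun b hb => comm_mem_ES h2 h3 hs ht h hc ha hb
  have hinj : Function.Injective f := by
    rw [injective_iff_map_eq_zero]
    intro b hb
    by_contra hb0
    exact comm_ne_zero h2 h3 hs ht h hc ha ha0 b.2 (fun e => hb0 (Subtype.ext e)) (congrArg Subtype.val hb)
  obtain ⟨b, hb⟩ := (LinearMap.injective_iff_surjective_of_finrank_eq_finrank hdim).1 hinj ⟨c, hcm⟩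
  exact ⟨b, b.2, (congrArg Subtype.val hb).symm⟩

theorem uS_comm' {s t a b : M →ₗ[k] M} (hs : MinQ G s) (ht : MinQ G t) (h : ¬ Opp s t)
    (hc : ¬ Comm (EG G s) (EG G t)) (ha : a ∈ ES G s) (hb : b ∈ ES G t) :
    uS a ha.1.sq * uS b hb.1.sq * (uS a ha.1.sq)⁻¹ * (uS b hb.1.sq)⁻¹ =
      uS (a * b - b * a) (comm_mem_ES h2 h3 hs ht h hc ha hb).1.sq :=
  Units.ext (uS_comm _ _ (sandwich h2 h3 hs ht h ha ha hb) (sandwich h2 h3 ht hs (fun ho => h ho.symm) hb hb ha))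

theorem commutator_EG (hU : NoUnip G) {s t : M →ₗ[k] M} (hs : MinQ G s) (ht : MinQ G t) (h : ¬ Opp s t)
    (hc : ¬ Comm (EG G s) (EG G t)) : ⁅EG G s, EG G t⁆ = EG G (s * t - t * s) := by
  refine le_antisymm ((Subgroup.commutator_le).2 fun x hx y hy => ?_) fun z hz => ?_
  · obtain ⟨a, ha, rfl⟩ := exists_of_mem_EG hx
    obtain ⟨b, hb, rfl⟩ := exists_of_mem_EG hy
    rw [commutatorElement_def, uS_comm' h2 h3 hs ht h hc ha hb]
    exact uS_mem_EG (comm_mem_ES h2 h3 hs ht h hc ha hb)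
  · obtain ⟨c, hcm, rfl⟩ := exists_of_mem_EG hz
    obtain ⟨b, hb, rfl⟩ := comm_surj h2 h3 hU hs ht h hc hs.qn.mem_ES hs.ne hcm
    rw [← uS_comm' h2 h3 hs ht h hc hs.qn.mem_ES hb]
    exact comm_mem (uS_mem_EG hs.qn.mem_ES) (uS_mem_EG hb)

theorem minQ_comm {s t : M →ₗ[k] M} (hs : MinQ G s) (ht : MinQ G t) (h : ¬ Opp s t)
    (hc : ¬ Comm (EG G s) (EG G t)) : MinQ G (s * t - t * s) :=
  (comm_case hs ht (sts_eq_zero h2 hs ht.qn h) (sts_eq_zero h2 ht hs.qn fun ho => h ho.symm)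
    (comm_ne_zero h2 h3 hs ht h hc hs.qn.mem_ES hs.ne ht.qn.mem_ES ht.ne)).1

theorem rc_of_not_opp (hU : NoUnip G) {s t : M →ₗ[k] M} (hs : MinQ G s) (ht : MinQ G t) (h : ¬ Opp s t)
    (hc : ¬ Comm (EG G s) (EG G t)) : RootCommutatorCase (quadraticRootSubgroups G) (EG G s) (EG G t) := by
  have h' : ¬ Opp t s := fun ho => h ho.symm
  have hc' : ¬ Comm (EG G t) (EG G s) := fun hh => hc hh.symm
  have key : ∀ {s t : M →ₗ[k] M}, MinQ G s → MinQ G t → ¬ Opp s t → ¬ Comm (EG G s) (EG G t) →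
      Comm ⁅EG G s, EG G t⁆ (EG G s) ∧
      ∀ a ∈ EG G s, a ≠ 1 → ∀ c ∈ ⁅EG G s, EG G t⁆, ∃ b ∈ EG G t, c = a * b * a⁻¹ * b⁻¹ := by
    intro s t hs ht h hc
    rw [commutator_EG h2 h3 hU hs ht h hc]
    constructor
    · intro x hx y hy
      obtain ⟨c, hcm, rfl⟩ := exists_of_mem_EG hx
      obtain ⟨a, ha, rfl⟩ := exists_of_mem_EG hy
      obtain ⟨b, hb, rfl⟩ := comm_surj h2 h3 hU hs ht h hc hs.qn.mem_ES hs.ne hcm
      have e1 : (s * b - b * s) * a = 0 := by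
        rw [sub_mul, sandwich h2 h3 hs ht h hs.qn.mem_ES ha hb, mul_assoc, ES_mul hs.qn.mem_ES ha]; simp
      have e2 : a * (s * b - b * s) = 0 := by
        rw [mul_sub, ← mul_assoc, ← mul_assoc, sandwich h2 h3 hs ht h ha hs.qn.mem_ES hb,
          ES_mul ha hs.qn.mem_ES]; simp
      apply Units.ext
      simp only [Units.val_mul, uS_val, mul_add, add_mul, one_mul, mul_one, e1, e2]
      abel
    · intro x hx hx1 y hy
      obtain ⟨a, ha, rfl⟩ := exists_of_mem_EG hx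
      obtain ⟨c, hcm, rfl⟩ := exists_of_mem_EG hy
      obtain ⟨b, hb, rfl⟩ := comm_surj h2 h3 hU hs ht h hc ha (fun e => hx1 (uS_eq_one.2 e)) hcm
      exact ⟨_, uS_mem_EG hb, (uS_comm' h2 h3 hs ht h hc ha hb).symm⟩
  obtain ⟨k1, k2⟩ := key hs ht h hc
  obtain ⟨k3, k4⟩ := key ht hs h' hc'
  rw [Subgroup.commutator_comm] at k3 k4
  refine rc_mk ?_ k1 k3 k2 fun b hb hb1 c hcm => ?_
  · rw [commutator_EG h2 h3 hU hs ht h hc]
    exact mem_quadraticRootSubgroups.2 ⟨_, minQ_comm h2 h3 hs ht h hc, rfl⟩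
  · obtain ⟨a, ha, e⟩ := k4 b hb hb1 c⁻¹ (inv_mem hcm)
    exact ⟨a, ha, by rw [← inv_inv c, e]; group⟩

theorem core_of_not_opp (hU : NoUnip G) {s t : M →ₗ[k] M} (hs : MinQ G s) (ht : MinQ G t) (h : ¬ Opp s t)
    (hc : ¬ Comm (EG G s) (EG G t)) :
    ((EG G s ⊔ EG G t : Subgroup (M →ₗ[k] M)ˣ) : Set (M →ₗ[k] M)ˣ) ⊆
      quadraticUnipotentCore G ⁅EG G s, EG G t⁆ := by
  have hrc := rc_of_not_opp h2 h3 hU hs ht h hc
  have h' : ¬ Opp t s := fun ho => h ho.symm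
  obtain ⟨hu, d2, d3, -⟩ := comm_case hs ht (sts_eq_zero h2 hs ht.qn h) (sts_eq_zero h2 ht hs.qn h')
    (comm_ne_zero h2 h3 hs ht h hc hs.qn.mem_ES hs.ne ht.qn.mem_ES ht.ne)
  have ss := mul_eq_zero_iff_le.1 hs.qn.sq
  have tt := mul_eq_zero_iff_le.1 ht.qn.sq
  have hX1 : EG G s ⊔ EG G t ≤ FixG (range (s * t - t * s)) := by
    rw [← le_fixedSubmodule, fixedSubmodule_sup, fixedSubmodule_EG hs.qn, fixedSubmodule_EG ht.qn, d2]
    exact sup_le (le_inf (inf_le_left.trans ss) inf_le_right) (le_inf inf_le_right (inf_le_left.trans tt))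
  have hX2 : EG G s ⊔ EG G t ≤ CofixG (ker (s * t - t * s)) := by
    rw [← commutatorSubmodule_le', commutatorSubmodule_sup, commutatorSubmodule_EG hs.qn,
      commutatorSubmodule_EG ht.qn, d3]
    exact sup_le (le_inf le_sup_left (ss.trans le_sup_right)) (le_inf (tt.trans le_sup_right) le_sup_left)
  have hmv : ∀ g ∈ CofixG (ker (s * t - t * s)), ∀ m ∈ ker (s * t - t * s),
      (g : M →ₗ[k] M) m ∈ ker (s * t - t * s) := fun g hg m hm => by
    simpa using add_mem (hg ⟨m, rfl⟩) hm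
  let K : Subgroup (M →ₗ[k] M)ˣ :=
    { carrier := {g | g ∈ CofixG (ker (s * t - t * s)) ∧
        ∀ m ∈ ker (s * t - t * s), (g : M →ₗ[k] M) m - m ∈ range (s * t - t * s)}
      one_mem' := ⟨one_mem _, by simp⟩
      mul_mem' := fun {a b} ha hb => ⟨mul_mem ha.1 hb.1, fun m hm => by
        simpa using add_mem (ha.2 _ (hmv b hb.1 m hm)) (hb.2 m hm)⟩
      inv_mem' := fun {a} ha => ⟨inv_mem ha.1, fun m hm => by
        have := neg_mem (ha.2 _ (hmv _ (inv_mem ha.1) m hm))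
        rwa [← Module.End.mul_apply, Units.mul_inv, neg_sub] at this⟩ }
  have key : ∀ {s' t' : M →ₗ[k] M}, MinQ G s' → MinQ G t' → ¬ Opp t' s' →
      ker (s * t - t * s) ≤ range t' ⊔ ker s' → range s' ⊓ ker t' ≤ range (s * t - t * s) →
      ∀ g ∈ EG G s', ∀ m ∈ ker (s * t - t * s), (g : M →ₗ[k] M) m - m ∈ range (s * t - t * s) := by
    intro s' t' hs' ht' h' k1 k2 g hg m hm
    obtain ⟨a, ha, rfl⟩ := exists_of_mem_EG hg
    obtain ⟨_, ⟨w, rfl⟩, c, hc, rfl⟩ := Submodule.mem_sup.1 (k1 hm)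
    have e : a c = 0 := ha.2.1 hc
    refine k2 ⟨?_, ?_⟩
    · simpa using ha.2.2.1 ⟨t' w + c, rfl⟩
    · have := congrArg (fun f : M →ₗ[k] M => f w) (sandwich h2 h3 ht' hs' h' ht'.qn.mem_ES ht'.qn.mem_ES ha)
      simpa [e] using this
  have hK : EG G s ⊔ EG G t ≤ K := sup_le
    (fun g hg => ⟨hX2 (Subgroup.mem_sup_left hg), key hs ht h' (by rw [d3]; exact inf_le_right)
      (by rw [d2]; exact le_sup_left) g hg⟩)
    (fun g hg => ⟨hX2 (Subgroup.mem_sup_right hg), key ht hs h (by rw [d3]; exact inf_le_left)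
      (by rw [d2]; exact le_sup_right) g hg⟩)
  intro g hg
  refine ⟨sup_le (EG_le s) (EG_le t) hg, cj_eq_self_iff.1 (cj_eq_of_centralizes fun b hb => (hrc.2.1 b hb g hg).symm),
    ?_⟩
  rw [commutator_EG h2 h3 hU hs ht h hc, fixedSubmodule_EG hu.qn, commutatorSubmodule_EG hu.qn]
  refine ⟨fun m => hX2 hg ⟨m, rfl⟩, (hK hg).2, fun m hm => ?_⟩
  simpa [sub_eq_zero] using hX1 hg hm

theorem quad_pair (hU : NoUnip G) {A B : Subgroup (M →ₗ[k] M)ˣ} (hA : A ∈ quadraticRootSubgroups G)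
    (hB : B ∈ quadraticRootSubgroups G) :
    Comm A B ∨ IsRankOnePair A B ∨ RootCommutatorCase (quadraticRootSubgroups G) A B := by
  obtain ⟨s, hs, rfl⟩ := mem_quadraticRootSubgroups.1 hA
  obtain ⟨t, ht, rfl⟩ := mem_quadraticRootSubgroups.1 hB
  by_cases h : Opp s t
  · exact Or.inr (Or.inl (r1_of_opp h2 h3 hs ht h))
  by_cases hc : Comm (EG G s) (EG G t)
  · exact Or.inl hc
  · exact Or.inr (Or.inr (rc_of_not_opp h2 h3 hU hs ht h hc))

theorem opp_of_r1 (hU : NoUnip G) {s t : M →ₗ[k] M} (hs : MinQ G s) (ht : MinQ G t)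
    (hr : IsRankOnePair (EG G s) (EG G t)) : Opp s t := by
  by_contra h
  have hrc := rc_of_not_opp h2 h3 hU hs ht h (r1_not_comm hr)
  apply r1_not_comm hr
  intro a ha b hb
  refine r1_second_centre hr (Subgroup.mem_sup_left ha) (fun x hx y hy => hrc.2.1 _ ?_ y hy) b
    (Subgroup.mem_sup_right hb)
  exact commutator_sup_le (comm_EG s) (comm_EG t) hrc.2.1 (comm_mem (Subgroup.mem_sup_left ha) hx)

end CfsgH9
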