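import Cfsg.Agent.H9.QAlg

set_option autoImplicit false

namespace CfsgH9
open Matrix Polynomial Cfsg
open scoped MatrixGroups

section Alg
variable {k A : Type*} [Field k] [Ring A] [Algebra k A]

/-- `x` is (the value of) an element of `G` -/
def InG (G : Subgroup Aˣ) (x : A) : Prop := ∃ g ∈ G, (g : A) = x

theorem InG.mul {G : Subgroup Aˣ} {x y : A} (hx : InG G x) (hy : InG G y) : InG G (x * y) := by
  obtain ⟨g, hg, rfl⟩ := hx
  obtain ⟨h, hh, rfl⟩ := hy
  exact ⟨g * h, mul_mem hg hh, rfl⟩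

theorem InG.one (G : Subgroup Aˣ) : InG G 1 := ⟨1, one_mem _, rfl⟩
theorem inG_coe {G : Subgroup Aˣ} {g : Aˣ} : InG G (g : A) ↔ g ∈ G :=
  ⟨fun ⟨_, hh, e⟩ => Units.ext e ▸ hh, fun h => ⟨g, h, rfl⟩⟩
theorem InG.mono {G H : Subgroup Aˣ} (h : G ≤ H) {x : A} (hx : InG G x) : InG H x := by
  obtain ⟨g, hg, rfl⟩ := hx; exact ⟨g, h hg, rfl⟩

/-- the unit `1 + s` -/
def uS (s : A) (h : s * s = 0) : Aˣ :=
  ⟨1 + s, 1 - s, by rw [add_mul, mul_sub, mul_sub, h]; simp, by rw [sub_mul, mul_add, mul_add, h]; simp⟩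

@[simp] theorem uS_val (s : A) (h : s * s = 0) : (uS s h : A) = 1 + s := rfl
@[simp] theorem uS_inv (s : A) (h : s * s = 0) : ((uS s h)⁻¹ : Aˣ) = (1 - s : A) := rfl

theorem inv_val_of_sq {g : Aˣ} {s : A} (hg : (g : A) = 1 + s) (h : s * s = 0) : ((g⁻¹ : Aˣ) : A) = 1 - s := by
  have : g = uS s h := Units.ext hg
  rw [this, uS_inv]

theorem smul_sq {s : A} (h : s * s = 0) (c : k) : (c • s) * (c • s) = 0 := by
  rw [smul_mul_smul_comm, h, smul_zero]

variable (k) in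
/-- quadratic (square zero) elements with scalar family in `G` -/
structure QN (G : Subgroup Aˣ) (s : A) : Prop where
  sq : s * s = 0
  fam : ∀ c : k, InG G (1 + c • s)

theorem QN.smul {G : Subgroup Aˣ} {s : A} (h : QN k G s) (c : k) : QN k G (c • s) :=
  ⟨smul_sq h.sq c, fun d => by rw [smul_smul]; exact h.fam _⟩

theorem QN.neg {G : Subgroup Aˣ} {s : A} (h : QN k G s) : QN k G (-s) := by
  simpa using h.smul (-1)

theorem QN.add {G : Subgroup Aˣ} {s t : A} (hs : QN k G s) (ht : QN k G t) (h1 : s * t = 0) (h2 : t * s = 0) :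
    QN k G (s + t) := by
  refine ⟨by rw [add_mul, mul_add, mul_add, hs.sq, ht.sq, h1, h2]; simp, fun c => ?_⟩
  have := (hs.fam c).mul (ht.fam c)
  convert this using 1
  simp [mul_add, add_mul, h1, add_assoc, add_comm, add_left_comm]

theorem QN.conj {G : Subgroup Aˣ} {s : A} (h : QN k G s) {g : Aˣ} (hg : g ∈ G) :
    QN k G (g * s * (g⁻¹ : Aˣ)) := by
  refine ⟨?_, fun c => ?_⟩
  · simp only [mul_assoc, Units.inv_mul_cancel_left]; rw [← mul_assoc s s, h.sq]; simp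
  · have := ((inG_coe.2 hg).mul (h.fam c)).mul (inG_coe.2 (inv_mem hg))
    convert this using 1
    simp [mul_add, add_mul]

theorem QN.mono {G H : Subgroup Aˣ} {s : A} (h : QN k G s) (hle : G ≤ H) : QN k H s :=
  ⟨h.sq, fun c => (h.fam c).mono hle⟩

theorem QN.uS_mem {G : Subgroup Aˣ} {s : A} (h : QN k G s) : uS s h.sq ∈ G := by
  rw [← inG_coe]; simpa using h.fam 1

theorem QN.zero (G : Subgroup Aˣ) : QN k G (0 : A) := ⟨by simp, fun c => by simpa using InG.one G⟩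

theorem Fit.exists_N [FiniteDimensional k A] {s t e u : A} (h : Fit k s t e u) (h2 : (2 : k) ≠ 0)
    (h3 : 3 < ENat.card k) {G : Subgroup Aˣ} (hs : QN k G s) (ht : QN k G t) :
    ∃ N : Subgroup SL(2, FitR k (s * t + t * s) e),
      (∀ g ∈ HK k (Ideal.Quotient.mk (FitI k (s * t + t * s) e) X), ∀ n ∈ N, g * n * g⁻¹ ∈ N) ∧
      (∃ n ∈ N, ¬ Ctr n) ∧ ∀ n ∈ N, h.Phi n ∈ G := by
  have k4 : (1 - e) * (1 - e) = 1 - e := by rw [mul_sub, mul_one, sub_mul, one_mul, h.ee]; simp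
  have k5 : e * (1 - e) = 0 := by rw [mul_sub, mul_one, h.ee, sub_self]
  have k6 : (1 - e) * e = 0 := by rw [sub_mul, one_mul, h.ee, sub_self]
  have cs : Commute (1 - e) s := (Commute.one_left s).sub_left h.e_s
  have ct : Commute (1 - e) t := (Commute.one_left t).sub_left h.e_t
  have km : ∀ x y : A, Commute (1 - e) x → (1 - e) * x * ((1 - e) * y) = (1 - e) * (x * y) := by
    intro x y hx
    rw [mul_assoc, ← mul_assoc x, ← hx.eq, ← mul_assoc, ← mul_assoc, k4, mul_assoc]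
  obtain ⟨N₀, hN₀, hs₀, ht₀⟩ := exists_nil_of_z (k := k) (s := (1 - e) * s) (t := (1 - e) * t)
    (by rw [km _ _ cs, h.ss, mul_zero]) (by rw [km _ _ ct, h.tt, mul_zero])
    (by rw [km _ _ cs, km _ _ ct, ← mul_add]; exact h.nil)
  set R := FitR k (s * t + t * s) e
  set z : R := Ideal.Quotient.mk (FitI k (s * t + t * s) e) X with hz
  let S : Set (SL(2, R) × Aˣ) := {p | ∃ c : k, p = (xU (algebraMap k R c), uS (c • s) (smul_sq h.ss c))} ∪
    {p | ∃ c : k, p = (xL (algebraMap k R c * z), uS (c • t) (smul_sq h.tt c))}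
  let Γ := Subgroup.closure S
  have hSinv : ∀ p ∈ S, p⁻¹ ∈ S := by
    rintro _ (⟨c, rfl⟩ | ⟨c, rfl⟩)
    · refine Or.inl ⟨-c, Prod.ext ?_ (Units.ext ?_)⟩
      · simp [xU_inv]
      · simp [sub_eq_add_neg]
    · refine Or.inr ⟨-c, Prod.ext ?_ (Units.ext ?_)⟩
      · simp only [Prod.inv_mk, xL_inv, map_neg]
        exact congrArg xL (by ring)
      · simp [sub_eq_add_neg]
  have hP : ∀ p ∈ Γ, p.2 ∈ G ∧ Commute e p.2 ∧ (h.Phi p.1 : A) = (1 - e) + e * p.2 ∧
      (1 - e) * ((p.2 : A) - 1) ∈ N₀ := by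
    have base : ∀ p ∈ S, p.2 ∈ G ∧ Commute e p.2 ∧ (h.Phi p.1 : A) = (1 - e) + e * p.2 ∧
      (1 - e) * ((p.2 : A) - 1) ∈ N₀ := by
      rintro _ (⟨c, rfl⟩ | ⟨c, rfl⟩)
      · refine ⟨(hs.smul c).uS_mem, (Commute.one_right e).add_right (h.e_s.smul_right c), ?_, ?_⟩
        · rw [h.Phi_xU_k]; simp only [uS_val, mul_add, mul_one, mul_smul_comm]; abel
        · simpa using N₀.smul_mem c hs₀
      · refine ⟨(ht.smul c).uS_mem, (Commute.one_right e).add_right (h.e_t.smul_right c), ?_, ?_⟩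
        · rw [h.Phi_xL_k]; simp only [uS_val, mul_add, mul_one, mul_smul_comm]; abel
        · simpa using N₀.smul_mem c ht₀
    intro p hp
    induction hp using Subgroup.closure_induction'' with
    | mem p hp => exact base p hp
    | inv_mem p hp => exact base _ (hSinv p hp)
    | one => simp [one_mem]
    | mul a b _ _ ha hb =>
      obtain ⟨a1, a2, a3, a4⟩ := ha
      obtain ⟨b1, b2, b3, b4⟩ := hb
      refine ⟨mul_mem a1 b1, a2.mul_right b2, ?_, ?_⟩
      · rw [Prod.fst_mul, map_mul, Units.val_mul, a3, b3, Prod.snd_mul, Units.val_mul, add_mul, mul_add,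
          mul_add, k4, ← mul_assoc, k6, a2.eq, mul_assoc _ e, k5, mul_assoc, ← mul_assoc e e, h.ee, ← mul_assoc,
          ← a2.eq, mul_assoc]
        simp
      · have ca : Commute (1 - e) ((a.2 : A) - 1) :=
          ((Commute.one_left _).sub_left a2).sub_right (Commute.one_right _)
        have := add_mem (add_mem (hN₀.mul_le (Submodule.mul_mem_mul a4 b4)) a4) b4
        rw [km _ _ ca, ← mul_add, ← mul_add] at this
        convert this using 2
        rw [Prod.snd_mul, Units.val_mul]; noncomm_ring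
  let f : Γ →* A :=
    { toFun := fun p => e + (1 - e) * (p : SL(2, R) × Aˣ).2
      map_one' := by simp
      map_mul' := fun a b => by
        have ca : Commute (1 - e) ((a : SL(2, R) × Aˣ).2 : A) := (Commute.one_left _).sub_left (hP a a.2).2.1
        rw [add_mul, mul_add, mul_add, h.ee, ← mul_assoc, k5, km _ _ ca, mul_assoc, ← (hP a a.2).2.1.eq,
          ← mul_assoc, k6]
        simp }
  have hf : ∀ p : Γ, f p - 1 = (1 - e) * (((p : SL(2, R) × Aˣ).2 : A) - 1) := fun p => by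
    show e + (1 - e) * _ - 1 = _
    rw [mul_sub, mul_one]; abel
  obtain ⟨n, hn⟩ := hN₀.nil
  have hder := derived_mem f hN₀.mul_le (fun p => by rw [hf]; exact (hP p p.2).2.2.2) n
  let π : Γ →* SL(2, R) := (MonoidHom.fst _ _).comp Γ.subtype
  have hπ : π.range = HK k z := by
    rw [MonoidHom.range_comp, Subgroup.range_subtype, MonoidHom.map_closure, HK, Set.image_union]
    congr 2
    · ext g
      constructor
      · rintro ⟨_, ⟨c, rfl⟩, rfl⟩; exact ⟨c, rfl⟩
      · rintro ⟨c, rfl⟩; exact ⟨_, ⟨c, rfl⟩, rfl⟩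
    · ext g
      constructor
      · rintro ⟨_, ⟨c, rfl⟩, rfl⟩; exact ⟨c, rfl⟩
      · rintro ⟨c, rfl⟩; exact ⟨_, ⟨c, rfl⟩, rfl⟩
  refine ⟨(derivedSeries Γ n).map π, ?_, ?_, ?_⟩
  · rintro g hg _ ⟨γ, hγ, rfl⟩
    rw [← hπ] at hg
    obtain ⟨δ, rfl⟩ := hg
    exact ⟨δ * γ * δ⁻¹, (derivedSeries_normal Γ n).conj_mem _ hγ _, by simp⟩
  · have := h.nontrivial
    obtain ⟨m, hm⟩ := Ideal.exists_maximal R
    letI := Ideal.Quotient.field m
    have htop := map_HK_eq_top h2 h3 h.isUnit_X (adjoin_FitR _ _) m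
    have hsurj : Function.Surjective ((red m).comp π) := by
      rw [← MonoidHom.range_eq_top, MonoidHom.range_comp, hπ, htop]
    have h1 := map_derivedSeries_eq hsurj n
    have h4 : ∀ j, derivedSeries SL(2, R ⧸ m) j = ⊤ := by
      intro j
      induction j with
      | zero => rfl
      | succ j ih => rw [derivedSeries_succ, ih]; exact sl2_perfect (three_lt_card_of_algebra h3 _)
    rw [h4] at h1
    obtain ⟨γ, hγ, e1⟩ : xU (1 : R ⧸ m) ∈ (derivedSeries Γ n).map ((red m).comp π) := by rw [h1]; trivial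
    refine ⟨π γ, ⟨γ, hγ, rfl⟩, fun hc => ?_⟩
    have h5 : (red m (π γ)).1 0 1 = 0 := by rw [slmap_apply, hc.1, map_zero]
    have e2 : red m (π γ) = xU 1 := e1
    rw [e2] at h5
    simp at h5
  · rintro _ ⟨γ, hγ, rfl⟩
    have h1 := hder γ hγ
    rw [pow_eq_bot_mono hn (Nat.le_succ n), Submodule.mem_bot, hf] at h1
    obtain ⟨a1, -, a3, -⟩ := hP γ γ.2
    have : h.Phi (π γ) = (γ : SL(2, R) × Aˣ).2 := by
      apply Units.ext
      refine a3.trans ?_
      rw [mul_sub, sub_mul, one_mul, mul_one] at h1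
      linear_combination (norm := abel1) -h1
    rw [this]; exact a1

end Alg

section End
variable {k : Type*} [Field k] {M : Type*} [AddCommGroup M] [Module k M]

/-- rank -/
noncomputable abbrev rk (s : M →ₗ[k] M) : ℕ := Module.finrank k (LinearMap.range s)

theorem range_mul_le (a b : M →ₗ[k] M) : LinearMap.range (a * b) ≤ LinearMap.range a :=
  LinearMap.range_comp_le_range b a

theorem ker_le_mul (a b : M →ₗ[k] M) : LinearMap.ker b ≤ LinearMap.ker (a * b) :=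
  LinearMap.ker_le_ker_comp b a

theorem mul_eq_zero_iff_le {a b : M →ₗ[k] M} : a * b = 0 ↔ LinearMap.range b ≤ LinearMap.ker a :=
  LinearMap.range_le_ker_iff.symm

theorem mul_eq_zero_of_ker_le {a b x : M →ₗ[k] M} (h : LinearMap.ker a ≤ LinearMap.ker b) (hx : a * x = 0) :
    b * x = 0 := mul_eq_zero_iff_le.2 ((mul_eq_zero_iff_le.1 hx).trans h)

theorem mul_eq_zero_of_range_le {a b x : M →ₗ[k] M} (h : LinearMap.range b ≤ LinearMap.range a)
    (hx : x * a = 0) : x * b = 0 := mul_eq_zero_iff_le.2 (h.trans (mul_eq_zero_iff_le.1 hx))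

variable [FiniteDimensional k M]

theorem rk_le_of_range_le {a b : M →ₗ[k] M} (h : LinearMap.range a ≤ LinearMap.range b) : rk a ≤ rk b :=
  Submodule.finrank_mono h

theorem rk_le_of_ker_le {a b : M →ₗ[k] M} (h : LinearMap.ker b ≤ LinearMap.ker a) : rk a ≤ rk b := by
  have h1 := LinearMap.finrank_range_add_finrank_ker a
  have h2 := LinearMap.finrank_range_add_finrank_ker b
  have h3 := Submodule.finrank_mono h
  simp only [rk]; omega

theorem rk_mul_le_left (a b : M →ₗ[k] M) : rk (a * b) ≤ rk a := rk_le_of_range_le (range_mul_le a b)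
theorem rk_mul_le_right (a b : M →ₗ[k] M) : rk (a * b) ≤ rk b := rk_le_of_ker_le (ker_le_mul a b)

theorem range_eq_of_rk_le {a b : M →ₗ[k] M} (h : LinearMap.range a ≤ LinearMap.range b) (h' : rk b ≤ rk a) :
    LinearMap.range a = LinearMap.range b := Submodule.eq_of_le_of_finrank_le h h'

theorem ker_eq_of_rk_le {a b : M →ₗ[k] M} (h : LinearMap.ker b ≤ LinearMap.ker a) (h' : rk b ≤ rk a) :
    LinearMap.ker a = LinearMap.ker b := by
  have h1 := LinearMap.finrank_range_add_finrank_ker a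
  have h2 := LinearMap.finrank_range_add_finrank_ker b
  exact (Submodule.eq_of_le_of_finrank_le h (by simp only [rk] at h'; omega)).symm

theorem rk_conj (g : (M →ₗ[k] M)ˣ) (s : M →ₗ[k] M) : rk (g * s * (g⁻¹ : (M →ₗ[k] M)ˣ) : M →ₗ[k] M) = rk s := by
  refine le_antisymm ((rk_mul_le_left _ _).trans (rk_mul_le_right _ _)) ?_
  have : s = (g⁻¹ : (M →ₗ[k] M)ˣ) * (g * s * (g⁻¹ : (M →ₗ[k] M)ˣ) : M →ₗ[k] M) * g := by simp [mul_assoc]
  conv_lhs => rw [this]
  exact (rk_mul_le_left _ _).trans (rk_mul_le_right _ _)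

omit [FiniteDimensional k M] in
/-- quadratic elements of minimal rank -/
structure MinQ (G : Subgroup (M →ₗ[k] M)ˣ) (s : M →ₗ[k] M) : Prop where
  qn : QN k G s
  ne : s ≠ 0
  min : ∀ t, QN k G t → t ≠ 0 → rk s ≤ rk t

variable {G : Subgroup (M →ₗ[k] M)ˣ}

omit [FiniteDimensional k M] in
theorem MinQ.of_le {s t : M →ₗ[k] M} (h : MinQ G s) (ht : QN k G t) (ht0 : t ≠ 0) (hle : rk t ≤ rk s) :
    MinQ G t := ⟨ht, ht0, fun x hx hx0 => hle.trans (h.min x hx hx0)⟩

omit [FiniteDimensional k M] in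
theorem MinQ.rk_eq {s t : M →ₗ[k] M} (h : MinQ G s) (ht : MinQ G t) : rk s = rk t :=
  le_antisymm (h.min t ht.qn ht.ne) (ht.min s h.qn h.ne)

theorem MinQ.conj {s : M →ₗ[k] M} (h : MinQ G s) {g : (M →ₗ[k] M)ˣ} (hg : g ∈ G) :
    MinQ G (g * s * (g⁻¹ : (M →ₗ[k] M)ˣ)) := by
  refine h.of_le (h.qn.conj hg) (fun e => h.ne ?_) (rk_conj g s).le
  simpa using e

theorem fit_main (h2 : (2 : k) ≠ 0) (h3 : 3 < ENat.card k) {s t e u : M →ₗ[k] M} (h : Fit k s t e u)
    (hs : QN k G s) (ht : MinQ G t) :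
    IsField (FitR k (s * t + t * s) e) ∧ (∀ g, h.Phi g ∈ G) ∧
      HK k (Ideal.Quotient.mk (FitI k (s * t + t * s) e) X) = ⊤ ∧ e * t = t ∧ MinQ G (e * s) := by
  obtain ⟨N, hN, hnc, hNG⟩ := h.exists_N h2 h3 hs ht.qn
  have := h.nontrivial
  have hart : IsArtinianRing (FitR k (s * t + t * s) e) := IsArtinianRing.of_finite k _
  have hrk : rk (e * s) ≤ rk (e * t) := by
    have : e * s = (u * s) * (e * t) * s := by
      rw [← h.usts, mul_assoc u, ← mul_assoc s, ← h.e_s.eq, mul_assoc e, ← mul_assoc u e, h.ue]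
      simp only [mul_assoc]
    rw [this]
    exact (rk_mul_le_left _ _).trans (rk_mul_le_right _ _)
  have hq : ∀ r : FitR k (s * t + t * s) e, (∀ c : k, h.Phi (xU (algebraMap k _ c * r)) ∈ G) →
      QN k G (psi k _ e r * s) := by
    intro r hr
    refine ⟨?_, fun c => ⟨_, hr c, ?_⟩⟩
    · rw [mul_assoc, ← mul_assoc s, ← (h.psi_s r).eq, mul_assoc, h.ss]; simp
    · rw [h.Phi_xU, h.psi_mul, h.psi_algebraMap, smul_mul_assoc, h.e_psi, smul_mul_assoc]
  have hes : ∀ r : FitR k (s * t + t * s) e, psi k _ e r * s = psi k _ e r * (e * s) := fun r => by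
    rw [← mul_assoc, h.psi_e]
  have hne : ∀ r : FitR k (s * t + t * s) e, r ≠ 0 → psi k _ e r * s ≠ 0 := fun r hr e0 =>
    hr (h.psi_eps_eq_zero (i := 0) (j := 1) ((hes r).symm.trans e0))
  obtain ⟨hF, hT, hH⟩ := field_of_min h2 h3 h.isUnit_X (adjoin_FitR _ _) N hN hnc (fun r hr hrN => by
    have h1 := ht.min _ (hq r fun c => hNG _ (hrN c)) (hne r hr)
    have h4 : LinearMap.ker (psi k _ e r * s) = LinearMap.ker (e * s) :=
      ker_eq_of_rk_le (by rw [hes]; exact ker_le_mul _ _) (hrk.trans ((rk_mul_le_right _ _).trans h1))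
    refine IsArtinianRing.isUnit_of_mem_nonZeroDivisors (mem_nonZeroDivisors_iff_left.2 fun r' hr' => ?_)
    by_contra hr0
    apply hne r' hr0
    have h5 : psi k _ e r * s * psi k _ e r' = 0 := by
      rw [mul_assoc, ← (h.psi_s r').eq, ← mul_assoc, ← h.psi_mul, hr', map_zero, zero_mul]
    have h6 := mul_eq_zero_of_ker_le h4.le h5
    rwa [mul_assoc, ← (h.psi_s r').eq, ← mul_assoc, h.e_psi] at h6)
  have hG : ∀ g, h.Phi g ∈ G := fun g => hNG g (by rw [hT]; trivial)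
  have hq1 := hq 1 fun c => hG _
  have hne1 := hne 1 one_ne_zero
  rw [h.psi_one] at hq1 hne1
  have h1 := ht.min _ hq1 hne1
  refine ⟨hF, hG, hH, ?_, ht.of_le hq1 hne1 (hrk.trans (rk_mul_le_right _ _))⟩
  have h4 : LinearMap.ker (e * t) = LinearMap.ker t := ker_eq_of_rk_le (ker_le_mul _ _) (h1.trans hrk)
  have h5 : e * t * (1 - e) = 0 := by
    rw [mul_sub, mul_one, mul_assoc, ← h.e_t.eq, ← mul_assoc, h.ee, sub_self]
  have h6 := mul_eq_zero_of_ker_le h4.le h5
  rw [mul_sub, mul_one, ← h.e_t.eq, sub_eq_zero] at h6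
  exact h6.symm

omit [FiniteDimensional k M] in
theorem mem_quadraticElements {σ : (M →ₗ[k] M)ˣ} :
    σ ∈ quadraticElements G ↔ QN k G ((σ : M →ₗ[k] M) - 1) ∧ (σ : M →ₗ[k] M) - 1 ≠ 0 := by
  constructor
  · rintro ⟨-, ⟨h1, h2⟩, h3⟩
    exact ⟨⟨h1, fun c => ⟨uS _ (smul_sq h1 c), h3 ⟨c, rfl⟩, rfl⟩⟩, h2⟩
  · rintro ⟨⟨h1, h2⟩, h3⟩
    refine ⟨inG_coe.1 (by simpa using h2 1), ⟨h1, h3⟩, ?_⟩
    rintro τ ⟨c, hc⟩
    exact inG_coe.1 (hc ▸ h2 c)

omit [FiniteDimensional k M] in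
theorem mem_minimalQuadraticElements {σ : (M →ₗ[k] M)ˣ} :
    σ ∈ minimalQuadraticElements G ↔ MinQ G ((σ : M →ₗ[k] M) - 1) := by
  constructor
  · rintro ⟨h1, h2⟩
    rw [mem_quadraticElements] at h1
    refine ⟨h1.1, h1.2, fun t ht ht0 => ?_⟩
    have := h2 (uS t ht.sq) (mem_quadraticElements.2 (by simpa using ⟨ht, ht0⟩))
    rw [commutatorRank, commutatorRank, uS_val, add_sub_cancel_left] at this
    exact this
  · rintro ⟨h1, h2, h3⟩
    exact ⟨mem_quadraticElements.2 ⟨h1, h2⟩, fun τ hτ =>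
      h3 _ (mem_quadraticElements.1 hτ).1 (mem_quadraticElements.1 hτ).2⟩

end End

end CfsgH9
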