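import Cfsg.Agent.H9.RankOne

set_option autoImplicit false

namespace CfsgH9
open Cfsg

variable {G : Type*} [Group G] {S : Set (Subgroup G)} {A B C D E : Subgroup G}

theorem rs_comm_self (hS : IsRootSubgroupSet S) (hA : A ∈ S) : Comm A A :=
  comm_self_iff.2 (hS.commutative A hA)

theorem rs_cj (hS : IsRootSubgroupSet S) (hA : A ∈ S) (g : G) : cj g A ∈ S := hS.conj_mem A hA g

theorem rs_ex (hS : IsRootSubgroupSet S) (hA : A ∈ S) : ∃ a ∈ A, a ≠ 1 :=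
  exists_ne_one_of_ne_bot (hS.ne_bot A hA)

theorem rs_pair (hS : IsRootSubgroupSet S) (hA : A ∈ S) (hB : B ∈ S) :
    Comm A B ∨ IsRankOnePair A B ∨ RootCommutatorCase S A B := by
  rw [comm_iff]; exact hS.pair A hA B hB

theorem mem_of_mem_Om (hS : IsRootSubgroupSet S) (hA : A ∈ S) (hC : C ∈ Om A B) : C ∈ S := by
  obtain ⟨x, -, rfl⟩ := mem_Om.1 hC
  exact rs_cj hS hA x

theorem rc_mem (h : RootCommutatorCase S A B) : ⁅A, B⁆ ∈ S := h.1

theorem rc_comm_left (h : RootCommutatorCase S A B) : Comm ⁅A, B⁆ A :=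
  fun c hc a ha => h.2.1 c hc a (Subgroup.mem_sup_left ha)

theorem rc_comm_right (h : RootCommutatorCase S A B) : Comm ⁅A, B⁆ B :=
  fun c hc a ha => h.2.1 c hc a (Subgroup.mem_sup_right ha)

theorem closure_image_inv (s : Set G) (f g : G → G) (hfg : ∀ x, g x = (f x)⁻¹) :
    Subgroup.closure (g '' s) = Subgroup.closure (f '' s) := by
  apply le_antisymm <;> rw [Subgroup.closure_le] <;> rintro _ ⟨x, hx, rfl⟩
  · rw [hfg]; exact Subgroup.inv_mem _ (Subgroup.subset_closure ⟨x, hx, rfl⟩)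
  · have : f x = (g x)⁻¹ := by simp [hfg]
    rw [this]; exact Subgroup.inv_mem _ (Subgroup.subset_closure ⟨x, hx, rfl⟩)

theorem rc_symm (h : RootCommutatorCase S A B) : RootCommutatorCase S B A := by
  refine ⟨?_, ?_, ?_, ?_⟩
  · rw [Subgroup.commutator_comm]; exact h.1
  · rw [Subgroup.commutator_comm, sup_comm]; exact h.2.1
  · intro b hb hb1
    rw [Subgroup.commutator_comm, ← h.2.2.2 b hb hb1]
    exact closure_image_inv _ _ _ (fun x => by group)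
  · intro b hb hb1
    rw [Subgroup.commutator_comm, ← h.2.2.1 b hb hb1]
    exact closure_image_inv _ _ _ (fun x => by group)

theorem comm_mem {a b : G} (ha : a ∈ A) (hb : b ∈ B) : a * b * a⁻¹ * b⁻¹ ∈ ⁅A, B⁆ :=
  Subgroup.commutator_mem_commutator ha hb

theorem comm_mem' {a b : G} (ha : a ∈ A) (hb : b ∈ B) : b * a * b⁻¹ * a⁻¹ ∈ ⁅A, B⁆ := by
  rw [Subgroup.commutator_comm]; exact comm_mem hb ha

theorem comm_mul_right_of {a b b' : G} (h : Comm ⁅A, B⁆ B) (ha : a ∈ A) (hb : b ∈ B) (hb' : b' ∈ B) :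
    a * (b * b') * a⁻¹ * (b * b')⁻¹ = (a * b * a⁻¹ * b⁻¹) * (a * b' * a⁻¹ * b'⁻¹) := by
  have := h _ (comm_mem ha hb') b hb
  calc _ = (a * b * a⁻¹ * b⁻¹) * (b * (a * b' * a⁻¹ * b'⁻¹)) * b⁻¹ := by group
    _ = _ := by rw [← this]; group

/-- in the commutator case every element of the commutator subgroup is a commutator with a fixed `a` -/
theorem rc_surj (h : RootCommutatorCase S A B) {a c : G} (ha : a ∈ A) (ha1 : a ≠ 1) (hc : c ∈ ⁅A, B⁆) :
    ∃ b ∈ B, c = a * b * a⁻¹ * b⁻¹ := by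
  rw [← h.2.2.1 a ha ha1] at hc
  induction hc using Subgroup.closure_induction with
  | mem x hx => obtain ⟨b, hb, rfl⟩ := hx; exact ⟨b, hb, rfl⟩
  | one => exact ⟨1, B.one_mem, by simp⟩
  | mul x y _ _ hx hy =>
    obtain ⟨b, hb, rfl⟩ := hx
    obtain ⟨b', hb', rfl⟩ := hy
    exact ⟨b * b', B.mul_mem hb hb', (comm_mul_right_of (rc_comm_right h) ha hb hb').symm⟩
  | inv x _ hx =>
    obtain ⟨b, hb, rfl⟩ := hx
    refine ⟨b⁻¹, B.inv_mem hb, ?_⟩
    have := comm_mul_right_of (rc_comm_right h) ha hb (B.inv_mem hb)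
    rw [inv_eq_iff_mul_eq_one, ← this]; group

theorem rc_surj' (h : RootCommutatorCase S A B) {a c : G} (ha : a ∈ A) (ha1 : a ≠ 1) (hc : c ∈ ⁅A, B⁆) :
    ∃ b ∈ B, c = b * a * b⁻¹ * a⁻¹ := by
  obtain ⟨b, hb, e⟩ := rc_surj h ha ha1 (Subgroup.inv_mem _ hc)
  exact ⟨b, hb, by rw [← inv_inv c, e]; group⟩

theorem rc_mk (hmem : ⁅A, B⁆ ∈ S) (h1 : Comm ⁅A, B⁆ A) (h2 : Comm ⁅A, B⁆ B)
    (h3 : ∀ a ∈ A, a ≠ 1 → ∀ c ∈ ⁅A, B⁆, ∃ b ∈ B, c = a * b * a⁻¹ * b⁻¹)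
    (h4 : ∀ b ∈ B, b ≠ 1 → ∀ c ∈ ⁅A, B⁆, ∃ a ∈ A, c = a * b * a⁻¹ * b⁻¹) : RootCommutatorCase S A B := by
  refine ⟨hmem, h1.sup_right h2, ?_, ?_⟩
  · intro a ha ha1
    apply le_antisymm
    · rw [Subgroup.closure_le]
      rintro _ ⟨b, hb, rfl⟩
      exact comm_mem ha hb
    · intro c hc
      obtain ⟨b, hb, rfl⟩ := h3 a ha ha1 c hc
      exact Subgroup.subset_closure ⟨b, hb, rfl⟩
  · intro a ha ha1
    apply le_antisymm
    · rw [Subgroup.closure_le]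
      rintro _ ⟨b, hb, rfl⟩
      exact comm_mem hb ha
    · intro c hc
      obtain ⟨b, hb, rfl⟩ := h4 a ha ha1 c hc
      exact Subgroup.subset_closure ⟨b, hb, rfl⟩

theorem rc_cj (hS : IsRootSubgroupSet S) (h : RootCommutatorCase S A B) (g : G) :
    RootCommutatorCase S (cj g A) (cj g B) := by
  refine rc_mk ?_ ?_ ?_ ?_ ?_
  · rw [← cj_commutator]; exact rs_cj hS h.1 g
  · rw [← cj_commutator]; exact (rc_comm_left h).cj g
  · rw [← cj_commutator]; exact (rc_comm_right h).cj g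
  · intro a ha ha1 c hc
    rw [← cj_commutator] at hc
    obtain ⟨a, ha', rfl⟩ := mem_cj'.1 ha
    obtain ⟨c, hc', rfl⟩ := mem_cj'.1 hc
    obtain ⟨b, hb, rfl⟩ := rc_surj h ha' (by rintro rfl; simp at ha1) hc'
    exact ⟨g * b * g⁻¹, conj_mem_cj hb, by group⟩
  · intro a ha ha1 c hc
    rw [← cj_commutator] at hc
    obtain ⟨a, ha', rfl⟩ := mem_cj'.1 ha
    obtain ⟨c, hc', rfl⟩ := mem_cj'.1 hc
    obtain ⟨b, hb, rfl⟩ := rc_surj' (rc_symm h) ha' (by rintro rfl; simp at ha1)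
      (by rwa [Subgroup.commutator_comm])
    exact ⟨g * b * g⁻¹, conj_mem_cj hb, by group⟩

theorem cj_le_sup_commutator {b : G} (hb : b ∈ B) : cj b A ≤ A ⊔ ⁅A, B⁆ := by
  intro x hx
  obtain ⟨a, ha, rfl⟩ := mem_cj'.1 hx
  have := Subgroup.mul_mem_sup (comm_mem' ha hb) ha
  rw [sup_comm]
  simpa using this

theorem rc_not_comm (hS : IsRootSubgroupSet S) (h : RootCommutatorCase S A B) : ¬ Comm A B :=
  fun hc => hS.ne_bot _ h.1 (comm_iff.1 hc)

theorem rc_comm_cj (hS : IsRootSubgroupSet S) (hA : A ∈ S) (h : RootCommutatorCase S A B) {b : G}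
    (hb : b ∈ B) : Comm A (cj b A) :=
  ((rs_comm_self hS hA).sup_right (rc_comm_left h).symm).mono le_rfl (cj_le_sup_commutator hb)

theorem rc_not_r1 (hS : IsRootSubgroupSet S) (hA : A ∈ S) (h : RootCommutatorCase S A B) :
    ¬ IsRankOnePair A B := by
  intro hr
  obtain ⟨b, hb, hb1⟩ := r1_ex_ne_one (r1_symm hr)
  exact r1_not_comm (r1_cj_self hr hb hb1) (rc_comm_cj hS hA h hb)

theorem comm_cj_of_not_r1 (hS : IsRootSubgroupSet S) (hA : A ∈ S) (hB : B ∈ S) (h : ¬ IsRankOnePair A B)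
    {b : G} (hb : b ∈ B) : Comm A (cj b A) := by
  rcases rs_pair hS hA hB with h1 | h1 | h1
  · rw [h1.symm.cj_eq hb]; exact rs_comm_self hS hA
  · exact absurd h1 h
  · exact rc_comm_cj hS hA h1 hb

theorem mem_Om_of_le (hS : IsRootSubgroupSet S) (hA : A ∈ S) (hC : C ∈ S) (h : IsRankOnePair C D)
    (hle : A ≤ C ⊔ D) (hnc : ¬ Comm A (C ⊔ D)) : A ∈ Om C D := by
  by_cases hex : ∃ F ∈ Om C D, IsRankOnePair F A
  · obtain ⟨F, hF, hr⟩ := hex
    obtain ⟨x, hx, e, -⟩ := r1_ex_swap hr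
    rw [← e]
    exact cj_mem_Om ((sup_le (le_of_mem_Om hF) hle) hx) hF
  · exfalso
    push Not at hex
    have hfix : ∀ F ∈ Om C D, ∀ a ∈ A, cj a F = F := fun F hF a ha =>
      (eq_of_comm_Om h hF (cj_mem_Om (hle ha) hF)
        (comm_cj_of_not_r1 hS (mem_of_mem_Om hS hC hF) hA (hex F hF) ha)).symm
    apply hnc
    let K : Subgroup G := (C ⊔ D) ⊓ ⨅ F ∈ Om C D, Subgroup.normalizer (F : Set G)
    have memK : ∀ x, x ∈ K ↔ x ∈ C ⊔ D ∧ ∀ F ∈ Om C D, cj x F = F := by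
      intro x
      simp only [K, Subgroup.mem_inf, Subgroup.mem_iInf, cj_eq_self_iff]
    have hK : ∀ x ∈ C ⊔ D, cj x K = K := by
      refine cj_eq_self_of_le fun x hx y hy => ?_
      obtain ⟨k, hk, rfl⟩ := mem_cj'.1 hy
      rw [memK] at hk ⊢
      refine ⟨Subgroup.mul_mem _ (Subgroup.mul_mem _ hx hk.1) (Subgroup.inv_mem _ hx), fun F hF => ?_⟩
      rw [← cj_cj, ← cj_cj, hk.2 _ (cj_mem_Om (Subgroup.inv_mem _ hx) hF)]; simp
    intro a ha
    refine central_of_fix h hK (fun n hn => ?_) a ((memK a).2 ⟨hle ha, fun F hF => hfix F hF a ha⟩)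
    exact ⟨((memK n).1 hn).2 _ left_mem_Om, ((memK n).1 hn).2 _ (right_mem_Om h)⟩

theorem Om_eq_of_le (hS : IsRootSubgroupSet S) (hA : A ∈ S) (hB : B ∈ S) (hC : C ∈ S)
    (hAB : IsRankOnePair A B) (h : IsRankOnePair C D) (hle : A ⊔ B ≤ C ⊔ D) :
    Om A B = Om C D ∧ A ⊔ B = C ⊔ D := by
  have h1 := mem_Om_of_le hS hA hC h (le_sup_left.trans hle)
    (fun hc => r1_not_comm hAB (hc.mono le_rfl (le_sup_right.trans hle)))
  have h2 := mem_Om_of_le hS hB hC h (le_sup_right.trans hle)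
    (fun hc => r1_not_comm (r1_symm hAB) (hc.mono le_rfl (le_sup_left.trans hle)))
  exact ⟨Om_eq_of_mem_Om h h1 h2 hAB.ne, sup_eq_of_mem_Om h h1 h2 hAB.ne⟩

theorem mem_Om_of_cj_eq (hS : IsRootSubgroupSet S) (hA : A ∈ S) (hB : B ∈ S) (hE : E ∈ S)
    (h : IsRankOnePair A B) {a e : G} (ha : a ∈ A) (ha1 : a ≠ 1) (he : e ∈ E) (heq : cj e B = cj a B) :
    E ∈ Om A B := by
  have h1 : IsRankOnePair B E := by
    by_contra hn
    have := comm_cj_of_not_r1 hS hB hE hn he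
    rw [heq] at this
    exact r1_not_comm (r1_cj_self (r1_symm h) ha ha1) this
  have hle : B ⊔ A ≤ B ⊔ E := by
    rw [← r1_sup_cj_self (r1_symm h) ha ha1, ← heq]
    exact sup_le le_sup_left (cj_le_of_mem (Subgroup.mem_sup_right he) le_sup_left)
  rw [← Om_symm h, (Om_eq_of_le hS hB hA hB (r1_symm h) h1 hle).1]
  exact right_mem_Om h1

/-- a central translate of a non-identity element of `A` is not a root element -/
theorem eq_one_of_central_translate (hS : IsRootSubgroupSet S) (hA : A ∈ S) (hB : B ∈ S) (hE : E ∈ S)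
    (h : IsRankOnePair A B) {a z : G} (ha : a ∈ A) (ha1 : a ≠ 1) (hzA : ∀ x ∈ A, z * x = x * z)
    (hzB : ∀ x ∈ B, z * x = x * z) (he : z * a ∈ E) (he1 : z * a ≠ 1) : z = 1 := by
  have e1 : cj (z * a) B = cj a B := by
    rw [hzA a ha, cj_mul_of_fix _ (cj_eq_of_centralizes hzB)]
  have h1 := mem_Om_of_cj_eq hS hA hB hE h ha ha1 he e1
  have h2 : E = A := eq_of_fix_Om h h1 left_mem_Om he he1 (by
    rw [cj_mul_of_mem _ ha, cj_eq_of_centralizes hzA])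
  have h3 : z ∈ A := by
    have := A.mul_mem (h2 ▸ he) (A.inv_mem ha)
    simpa using this
  exact r1_eq_one_of_fix h h3 (cj_eq_of_centralizes hzB)

/-- non-isolated members -/
def NI (S : Set (Subgroup G)) (A : Subgroup G) : Prop := ∃ D ∈ S, IsRankOnePair A D

theorem ni_of_not_isolated (hA : A ∈ S) (h : ¬ IsIsolatedIn (FAdj S) S A) : NI S A := by
  by_contra hn
  apply h
  refine ⟨hA, fun B => ⟨fun hB => hn ⟨B, hB.2.1, hB.2.2⟩, fun hB => hn ⟨B, hB.1, r1_symm hB.2.2⟩⟩⟩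

theorem not_isolated_of_ni (hA : A ∈ S) (h : NI S A) : ¬ IsIsolatedIn (FAdj S) S A := by
  obtain ⟨D, hD, hr⟩ := h
  exact fun hi => (hi.2 D).1 ⟨hA, hD, hr⟩

theorem NI.cj (hS : IsRootSubgroupSet S) (h : NI S A) (g : G) : NI S (cj g A) := by
  obtain ⟨D, hD, hr⟩ := h
  exact ⟨_, rs_cj hS hD g, r1_cj hr g⟩

/-- trivial intersection -/
theorem eq_of_mem_of_mem (hS : IsRootSubgroupSet S) (hA : A ∈ S) (hB : B ∈ S) (hni : NI S A) {a : G}
    (ha : a ∈ A) (hb : a ∈ B) (ha1 : a ≠ 1) : A = B := by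
  obtain ⟨D, hD, hr⟩ := hni
  have h1 := mem_Om_of_cj_eq hS hA hD hB hr ha ha1 hb rfl
  exact (eq_of_fix_Om hr h1 left_mem_Om hb ha1 (cj_of_mem ha)).symm

theorem cj_eq_of_commute (hS : IsRootSubgroupSet S) (hA : A ∈ S) (hni : NI S A) {a g : G}
    (ha : a ∈ A) (ha1 : a ≠ 1) (hg : g * a = a * g) : cj g A = A := by
  refine (eq_of_mem_of_mem hS hA (rs_cj hS hA g) hni ha ?_ ha1).symm
  rw [mem_cj, mul_assoc, ← hg]; simpa using ha

theorem rc_of_commutator_mem (hS : IsRootSubgroupSet S) (hA : A ∈ S) (hB : B ∈ S) (hC : ⁅A, B⁆ ∈ S) :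
    RootCommutatorCase S A B := by
  rcases rs_pair hS hA hB with h | h | h
  · exact absurd (comm_iff.1 h) (hS.ne_bot _ hC)
  · exfalso
    have hle : ⁅A, B⁆ ≤ A ⊔ B := Subgroup.commutator_le_sup A B
    have hn : ∀ x ∈ A ⊔ B, cj x ⁅A, B⁆ = ⁅A, B⁆ :=
      cj_fix_sup (fun a ha => cj_eq_self_iff.2 (Subgroup.normalizer_commutator_ge_left A B ha))
        (fun a ha => cj_eq_self_iff.2 (Subgroup.normalizer_commutator_ge_right A B ha))
    have hc : Comm ⁅A, B⁆ (A ⊔ B) := by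
      by_contra hc
      have h1 := mem_Om_of_le hS hC hA h hle hc
      obtain ⟨x, hx, e⟩ := mem_Om.1 h1
      obtain ⟨b, hb, hb1⟩ := r1_ex_ne_one (r1_symm h)
      have : A = ⁅A, B⁆ := by
        rw [eq_comm, cj_eq_iff, hn _ (Subgroup.inv_mem _ hx)] at e
        exact e
      apply r1_cj_ne h hb hb1
      rw [this, hn _ (Subgroup.mem_sup_right hb)]
    obtain ⟨b, hb, hb1⟩ := r1_ex_ne_one (r1_symm h)
    apply r1_not_comm (r1_cj_self h hb hb1)
    exact ((rs_comm_self hS hA).sup_right (hc.mono le_rfl le_sup_left).symm).mono le_rfl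
      (cj_le_sup_commutator hb)
  · exact h

theorem rc_ne_commutator (hS : IsRootSubgroupSet S) (h : RootCommutatorCase S A B) : A ≠ ⁅A, B⁆ := by
  intro e
  have := rc_comm_right h
  rw [← e] at this
  exact rc_not_comm hS h this

theorem rc_inj (hS : IsRootSubgroupSet S) (hA : A ∈ S) (h : RootCommutatorCase S A B) (hni : NI S A)
    {a b : G} (ha : a ∈ A) (hb : b ∈ B) (ha1 : a ≠ 1) (hab : a * b = b * a) : b = 1 := by
  by_contra hb1
  have h1 := cj_eq_of_commute hS hA hni ha ha1 hab.symm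
  obtain ⟨c, hc, hc1⟩ := rs_ex hS h.1
  apply rc_ne_commutator hS h
  refine eq_of_mem_of_mem hS hA h.1 hni ?_ hc hc1
  obtain ⟨a', ha', rfl⟩ := rc_surj (rc_symm h) hb hb1 (by rwa [Subgroup.commutator_comm])
  refine A.mul_mem ?_ (A.inv_mem ha')
  rw [← h1]; exact conj_mem_cj ha'

theorem rc_inj' (hS : IsRootSubgroupSet S) (hB : B ∈ S) (h : RootCommutatorCase S A B) (hni : NI S B)
    {a b : G} (ha : a ∈ A) (hb : b ∈ B) (ha1 : a ≠ 1) (hab : a * b = b * a) : b = 1 := by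
  by_contra hb1
  exact ha1 (rc_inj hS hB (rc_symm h) hni hb ha hb1 hab.symm)

theorem rc_mul_mem_cj (h : RootCommutatorCase S A B) {a c : G} (ha : a ∈ A) (ha1 : a ≠ 1)
    (hc : c ∈ ⁅A, B⁆) : ∃ b ∈ B, c * a = b * a * b⁻¹ := by
  obtain ⟨b, hb, rfl⟩ := rc_surj' h ha ha1 hc
  exact ⟨b, hb, by group⟩

theorem eq_of_le_commutator (hS : IsRootSubgroupSet S) (hA : A ∈ S) (h : RootCommutatorCase S A B)
    (hni : NI S A) (hE : E ∈ S) (hle : E ≤ ⁅A, B⁆) : E = ⁅A, B⁆ := by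
  obtain ⟨D, hD, hr⟩ := hni
  obtain ⟨a, ha, ha1⟩ := rs_ex hS hA
  obtain ⟨e, he, he1⟩ := rs_ex hS hE
  have hnc : ¬ Comm D E := by
    intro hc
    obtain ⟨b, hb, e1⟩ := rc_mul_mem_cj h ha ha1 (hle he)
    refine he1 (eq_one_of_central_translate hS hA hD (rs_cj hS hA b) hr ha ha1
      (rc_comm_left h e (hle he)) (hc.symm e he) (e1 ▸ conj_mem_cj ha) ?_)
    rw [e1]; simpa using ha1
  rcases rs_pair hS hD hE with h1 | h1 | h1
  · exact absurd h1 hnc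
  · exact eq_of_mem_of_mem hS hE h.1 ⟨D, hD, r1_symm h1⟩ he (hle he) he1
  rcases rs_pair hS hD h.1 with h2 | h2 | h2
  · exact absurd (h2.mono le_rfl hle) hnc
  · exact (eq_of_mem_of_mem hS h.1 hE ⟨D, hD, r1_symm h2⟩ (hle he) he he1).symm
  refine le_antisymm hle fun c hc => ?_
  obtain ⟨d, hd, hd1⟩ := rs_ex hS hD
  obtain ⟨d', hd', e1⟩ := rc_surj' (rc_symm h2) (hle he) he1 (comm_mem' hc hd)
  obtain ⟨e', he', e2⟩ := rc_surj h1 hd hd1 (comm_mem hd' he)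
  have hc' : e'⁻¹ * c ∈ ⁅A, B⁆ := Subgroup.mul_mem _ (Subgroup.inv_mem _ (hle he')) hc
  have e3 := comm_mul_right_of (rc_comm_right h2) hd (hle he') hc'
  rw [mul_inv_cancel_left, e1, e2, left_eq_mul, mul_inv_eq_one, mul_inv_eq_iff_eq_mul] at e3
  have := rc_inj hS hD h2 ⟨A, hA, r1_symm hr⟩ hd hc' hd1 e3
  rw [inv_mul_eq_one] at this
  exact this ▸ he'

theorem rc_members (hS : IsRootSubgroupSet S) (hA : A ∈ S) (h : RootCommutatorCase S A B) (hni : NI S A)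
    (hE : E ∈ S) (hle : E ≤ A ⊔ ⁅A, B⁆) : (∃ b ∈ B, E = cj b A) ∨ E = ⁅A, B⁆ := by
  by_cases hle' : E ≤ ⁅A, B⁆
  · exact Or.inr (eq_of_le_commutator hS hA h hni hE hle')
  · left
    obtain ⟨e, he, hn⟩ := SetLike.not_le_iff_exists.1 hle'
    have := hle he
    rw [sup_comm, mem_sup_of_comm (rc_comm_left h)] at this
    obtain ⟨c, hc, a, ha, rfl⟩ := this
    have ha1 : a ≠ 1 := by rintro rfl; exact hn (by simpa using hc)
    obtain ⟨b, hb, e1⟩ := rc_mul_mem_cj h ha ha1 hc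
    refine ⟨b, hb, (eq_of_mem_of_mem hS (rs_cj hS hA b) hE (hni.cj hS b) (conj_mem_cj ha)
      (e1 ▸ he) (by simpa using ha1)).symm⟩

theorem rc_partition (hS : IsRootSubgroupSet S) (hA : A ∈ S) (h : RootCommutatorCase S A B)
    (hni : NI S A) : IsSubgroupPartition (A ⊔ ⁅A, B⁆) (membersIn S (A ⊔ ⁅A, B⁆)) := by
  refine ⟨fun C hC => hC.2, fun x hx hx1 => ?_, fun C hC D hD hne => ?_⟩
  · rw [sup_comm, mem_sup_of_comm (rc_comm_left h)] at hx
    obtain ⟨c, hc, a, ha, rfl⟩ := hx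
    by_cases ha1 : a = 1
    · exact ⟨_, ⟨h.1, le_sup_right⟩, by simpa [ha1] using hc⟩
    · obtain ⟨b, hb, e1⟩ := rc_mul_mem_cj h ha ha1 hc
      exact ⟨cj b A, ⟨rs_cj hS hA b, cj_le_sup_commutator hb⟩, e1 ▸ conj_mem_cj ha⟩
  · rw [eq_bot_iff]
    rintro x ⟨hxC, hxD⟩
    by_contra hx1
    rcases rc_members hS hA h hni hC.1 hC.2 with ⟨b, hb, rfl⟩ | rfl
    · exact hne (eq_of_mem_of_mem hS hC.1 hD.1 (hni.cj hS b) hxC hxD hx1)
    · rcases rc_members hS hA h hni hD.1 hD.2 with ⟨b, hb, rfl⟩ | rfl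
      · exact hne (eq_of_mem_of_mem hS hD.1 hC.1 (hni.cj hS b) hxD hxC hx1).symm
      · exact hne rfl

theorem mem_linePartners : C ∈ linePartners S A ↔
    C ∈ S ∧ C ≠ A ∧ Comm A C ∧ IsSubgroupPartition (A ⊔ C) (membersIn S (A ⊔ C)) := by
  rw [comm_iff]
  exact ⟨fun h => ⟨h.1.1, h.1.2.1, h.1.2.2, h.2⟩, fun h => ⟨⟨h.1, h.2.1, h.2.2.1⟩, h.2.2.2⟩⟩

theorem line_symm (hA : A ∈ S) (h : C ∈ linePartners S A) : A ∈ linePartners S C := by
  rw [mem_linePartners] at h ⊢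
  exact ⟨hA, h.2.1.symm, h.2.2.1.symm, sup_comm A C ▸ h.2.2.2⟩

theorem rc_line (hS : IsRootSubgroupSet S) (hA : A ∈ S) (h : RootCommutatorCase S A B)
    (hni : NI S A) : ⁅A, B⁆ ∈ linePartners S A :=
  mem_linePartners.2 ⟨h.1, (rc_ne_commutator hS h).symm, (rc_comm_left h).symm, rc_partition hS hA h hni⟩

end CfsgH9
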