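import Cfsg.Agent.H9.QPair
import Cfsg.Agent.H9.Root

set_option autoImplicit false

namespace CfsgH9
open Polynomial Cfsg LinearMap

variable {k : Type*} [Field k] {M : Type*} [AddCommGroup M] [Module k M] {G : Subgroup (M →ₗ[k] M)ˣ}

theorem mem_fixedSubmodule {H : Subgroup (M →ₗ[k] M)ˣ} {m : M} :
    m ∈ fixedSubmodule H ↔ ∀ g ∈ H, (g : M →ₗ[k] M) m = m := by
  simp [Cfsg.fixedSubmodule, Submodule.mem_iInf, sub_eq_zero]

theorem commutatorSubmodule_le {H : Subgroup (M →ₗ[k] M)ˣ} {W : Submodule k M} :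
    commutatorSubmodule H ≤ W ↔ ∀ g ∈ H, range ((g : M →ₗ[k] M) - 1) ≤ W := by
  simp [commutatorSubmodule]

/-- pointwise stabiliser of a subspace -/
def FixG (W : Submodule k M) : Subgroup (M →ₗ[k] M)ˣ where
  carrier := {g | W ≤ ker ((g : M →ₗ[k] M) - 1)}
  one_mem' := by simp
  mul_mem' := fun {a b} ha hb v hv => by
    have h1 : (a : M →ₗ[k] M) v = v := by simpa [sub_eq_zero] using ha hv
    have h2 : (b : M →ₗ[k] M) v = v := by simpa [sub_eq_zero] using hb hv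
    simp [h1, h2]
  inv_mem' := fun {a} ha v hv => by
    have h1 : (a : M →ₗ[k] M) v = v := by simpa [sub_eq_zero] using ha hv
    have : ((a⁻¹ : (M →ₗ[k] M)ˣ) : M →ₗ[k] M) v = v := by
      conv_lhs => rw [← h1, ← Module.End.mul_apply, Units.inv_mul]
      rfl
    simp only [mem_ker, LinearMap.sub_apply, this]; simp

/-- elements acting trivially on the quotient -/
def CofixG (W : Submodule k M) : Subgroup (M →ₗ[k] M)ˣ where
  carrier := {g | range ((g : M →ₗ[k] M) - 1) ≤ W}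
  one_mem' := by simp
  mul_mem' := fun {a b} ha hb => by
    rintro _ ⟨v, rfl⟩
    have := add_mem (ha ⟨(b : M →ₗ[k] M) v, rfl⟩) (hb ⟨v, rfl⟩)
    simpa using this
  inv_mem' := fun {a} ha => by
    have : ((a⁻¹ : (M →ₗ[k] M)ˣ) : M →ₗ[k] M) - 1 = -(((a : M →ₗ[k] M) - 1) * (a⁻¹ : (M →ₗ[k] M)ˣ)) := by
      simp [sub_mul]
    show range _ ≤ W
    rw [this, range_neg]
    exact (range_mul_le _ _).trans ha

theorem mem_FixG {W : Submodule k M} {g : (M →ₗ[k] M)ˣ} : g ∈ FixG W ↔ W ≤ ker ((g : M →ₗ[k] M) - 1) :=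
  Iff.rfl
theorem mem_CofixG {W : Submodule k M} {g : (M →ₗ[k] M)ˣ} :
    g ∈ CofixG W ↔ range ((g : M →ₗ[k] M) - 1) ≤ W := Iff.rfl

theorem le_fixedSubmodule {H : Subgroup (M →ₗ[k] M)ˣ} {W : Submodule k M} :
    W ≤ fixedSubmodule H ↔ H ≤ FixG W := by
  simp only [Cfsg.fixedSubmodule, le_iInf_iff]; rfl

theorem commutatorSubmodule_le' {H : Subgroup (M →ₗ[k] M)ˣ} {W : Submodule k M} :
    commutatorSubmodule H ≤ W ↔ H ≤ CofixG W := commutatorSubmodule_le

theorem fixedSubmodule_sup (A B : Subgroup (M →ₗ[k] M)ˣ) :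
    fixedSubmodule (A ⊔ B) = fixedSubmodule A ⊓ fixedSubmodule B :=
  eq_of_forall_le_iff fun W => by simp only [le_fixedSubmodule, sup_le_iff, le_inf_iff]

theorem commutatorSubmodule_sup (A B : Subgroup (M →ₗ[k] M)ˣ) :
    commutatorSubmodule (A ⊔ B) = commutatorSubmodule A ⊔ commutatorSubmodule B :=
  eq_of_forall_ge_iff fun W => by simp only [commutatorSubmodule_le', sup_le_iff]

theorem fixedSubmodule_EG {s : M →ₗ[k] M} (h : QN k G s) : fixedSubmodule (EG G s) = ker s :=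
  eq_of_forall_le_iff fun W => by
    rw [le_fixedSubmodule]
    exact ⟨fun h1 => by simpa [mem_FixG] using h1 (uS_mem_EG h.mem_ES), fun h1 g hg => h1.trans hg.2.1⟩

theorem commutatorSubmodule_EG {s : M →ₗ[k] M} (h : QN k G s) : commutatorSubmodule (EG G s) = range s :=
  eq_of_forall_ge_iff fun W => by
    rw [commutatorSubmodule_le']
    exact ⟨fun h1 => by simpa [mem_CofixG] using h1 (uS_mem_EG h.mem_ES), fun h1 g hg => hg.2.2.1.trans h1⟩

theorem Std.ker_e {s t : M →ₗ[k] M} (h : Std s t) : ker (s * t + t * s) = ker s ⊓ ker t := by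
  refine le_antisymm (le_inf ?_ ?_) fun v hv => ?_
  · conv_rhs => rw [← h.es, (z_comm_left h.ss).eq]
    exact ker_le_mul _ _
  · conv_rhs => rw [← h.et, (z_comm_right h.tt).eq]
    exact ker_le_mul _ _
  · have h1 : s v = 0 := hv.1
    have h2 : t v = 0 := hv.2
    simp [h1, h2]

theorem Std.range_e {s t : M →ₗ[k] M} (h : Std s t) : range (s * t + t * s) = range s ⊔ range t := by
  refine le_antisymm ?_ (sup_le ?_ ?_)
  · rintro _ ⟨v, rfl⟩
    exact add_mem (Submodule.mem_sup_left ⟨_, rfl⟩) (Submodule.mem_sup_right ⟨_, rfl⟩)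
  · conv_lhs => rw [← h.es]
    exact range_mul_le _ _
  · conv_lhs => rw [← h.et]
    exact range_mul_le _ _

theorem Std.isCompl {s t : M →ₗ[k] M} (h : Std s t) : IsCompl (ker s ⊓ ker t) (range s ⊔ range t) := by
  rw [← h.ker_e, ← h.range_e]
  exact (LinearMap.IsIdempotentElem.isCompl h.ee).symm

theorem ES_neg (s : M →ₗ[k] M) : ES G (-s) = ES G s := ES_congr (ker_neg s) (range_neg s)

theorem Std.cj_eq {s t : M →ₗ[k] M} (h : Std s t) (hs : QN k G s) (ht : QN k G t) :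
    cj (uS t h.tt) (EG G s) = cj (uS s h.ss) (EG G t) := by
  rw [cj_EG ht.uS_mem, cj_EG hs.uS_mem, uS_conj, uS_conj, h.sts, h.tst, ← EG_congr (ES_neg _)]
  congr 1; abel

theorem Std.special_eq {A : Type*} [Ring A] {s t : A} (h : Std s t) :
    uS t h.tt * uS s h.ss * (uS t h.tt)⁻¹ = uS s h.ss * (uS t h.tt)⁻¹ * (uS s h.ss)⁻¹ := by
  apply Units.ext
  simp only [Units.val_mul, uS_val, uS_inv]
  have h1 := h.sts
  have h2 := h.tst
  have e1 : (1 + t) * (1 + s) * (1 - t) = 1 + s + t * s - s * t - t * t - t * s * t := by noncomm_ring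
  have e2 : (1 + s) * (1 - t) * (1 - s) = 1 - t + t * s - s * t - s * s + s * t * s := by noncomm_ring
  rw [e1, e2, h1, h2, h.ss, h.tt]; abel

variable [FiniteDimensional k M]

section
variable (h2 : (2 : k) ≠ 0) (h3 : 3 < ENat.card k)
include h2 h3

theorem opp_congr_left {s s' t : M →ₗ[k] M} (hs : MinQ G s) (ht : MinQ G t) (h : s' ∈ ES G s) (h0 : s' ≠ 0) :
    Opp s' t ↔ Opp s t := by
  obtain ⟨hs', e1, e2⟩ := hs.of_mem_ES h h0
  rw [opp_iff h2 h3 hs' ht, opp_iff h2 h3 hs ht, ne_eq, ne_eq, mul_eq_zero_iff_le, mul_eq_zero_iff_le, e2,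
    Module.End.mul_eq_comp, Module.End.mul_eq_comp, ker_comp, ker_comp, e1]

theorem opp_congr {s s' t t' : M →ₗ[k] M} (hs : MinQ G s) (ht : MinQ G t) (h : s' ∈ ES G s) (h0 : s' ≠ 0)
    (h' : t' ∈ ES G t) (h0' : t' ≠ 0) : Opp s' t' ↔ Opp s t := by
  rw [opp_congr_left h2 h3 hs (ht.of_mem_ES h' h0').1 h h0, opp_comm, opp_congr_left h2 h3 ht hs h' h0',
    opp_comm]

theorem sandwich {s t a b c : M →ₗ[k] M} (hs : MinQ G s) (ht : MinQ G t) (h : ¬ Opp s t)
    (ha : a ∈ ES G s) (hb : b ∈ ES G s) (hc : c ∈ ES G t) : a * c * b = 0 := by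
  by_cases hc0 : c = 0
  · simp [hc0]
  have := sts_eq_zero h2 hs hc.1 (by rwa [opp_congr h2 h3 hs ht hs.qn.mem_ES hs.ne hc hc0])
  refine mul_eq_zero_of_range_le hb.2.2.1 ?_
  rw [mul_assoc] at this ⊢
  exact mul_eq_zero_of_ker_le ha.2.1 this

theorem exists_std' {s t a : M →ₗ[k] M} (hs : MinQ G s) (ht : MinQ G t) (h : Opp s t) (ha : a ∈ ES G s)
    (ha0 : a ≠ 0) : ∃ b ∈ ES G t, Std a b :=
  exists_std h2 h3 (hs.of_mem_ES ha ha0).1 ht ((opp_congr_left h2 h3 hs ht ha ha0).2 h)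

theorem opp_isCompl {s t : M →ₗ[k] M} (hs : MinQ G s) (ht : MinQ G t) (h : Opp s t) :
    IsCompl (ker s ⊓ ker t) (range s ⊔ range t) := by
  obtain ⟨t', ht', hstd⟩ := exists_std h2 h3 hs ht h
  obtain ⟨-, e1, e2⟩ := ht.of_mem_ES ht' hstd.symm.ne
  rw [← e1, ← e2]; exact hstd.isCompl

theorem r1_of_opp {s t : M →ₗ[k] M} (hs : MinQ G s) (ht : MinQ G t) (h : Opp s t) :
    IsRankOnePair (EG G s) (EG G t) := by
  have key : ∀ {s t : M →ₗ[k] M}, MinQ G s → MinQ G t → Opp s t → ∀ a ∈ EG G s, a ≠ 1 →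
      ∃ b ∈ EG G t, b ≠ 1 ∧ cj b (EG G s) = cj a (EG G t) := by
    intro s t hs ht h a ha ha1
    obtain ⟨x, hx, rfl⟩ := exists_of_mem_EG ha
    have hx0 : x ≠ 0 := fun e => ha1 (uS_eq_one.2 e)
    obtain ⟨y, hy, hstd⟩ := exists_std' h2 h3 hs ht h hx hx0
    refine ⟨uS y hy.1.sq, uS_mem_EG hy, fun e => hstd.symm.ne (uS_eq_one.1 e), ?_⟩
    rw [← hs.EG_eq hx hx0, ← ht.EG_eq hy hstd.symm.ne]
    exact hstd.cj_eq hx.1 hy.1
  refine r1_mk (fun e => ?_) (nilpotent_of_comm (comm_EG s)) (nilpotent_of_comm (comm_EG t))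
    (key hs ht h) (key ht hs h.symm)
  have h1 : t ∈ ES G s := ES_eq_of_EG_eq e ▸ ht.qn.mem_ES
  exact (opp_iff h2 h3 hs ht).1 h (by rw [ES_mul hs.qn.mem_ES h1, zero_mul])

theorem special_of_opp {s t : M →ₗ[k] M} (hs : MinQ G s) (ht : MinQ G t) (h : Opp s t) :
    IsSpecialRankOnePair (EG G s) (EG G t) := by
  have hr := r1_of_opp h2 h3 hs ht h
  refine special_mk hr fun a ha ha1 b hb _ e => ?_
  obtain ⟨x, hx, rfl⟩ := exists_of_mem_EG ha
  have hx0 : x ≠ 0 := fun e => ha1 (uS_eq_one.2 e)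
  obtain ⟨y, hy, hstd⟩ := exists_std' h2 h3 hs ht h hx hx0
  have e2 := hstd.cj_eq hx.1 hy.1
  rw [hs.EG_eq hx hx0, ht.EG_eq hy hstd.symm.ne] at e2
  rw [r1_eq_of_cj_eq (r1_symm hr) hb (uS_mem_EG hy) (e.trans e2.symm)]
  exact hstd.special_eq

theorem unip_of_not_opp {s t : M →ₗ[k] M} (hs : MinQ G s) (ht : MinQ G t) (h : ¬ Opp s t) :
    Unip k (EG G s ⊔ EG G t) := by
  set X := EG G s ⊔ EG G t with hX
  have hXG : X ≤ G := sup_le (EG_le s) (EG_le t)
  have hX1 : X ≤ FixG (ker s ⊓ ker t) := by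
    rw [← le_fixedSubmodule, fixedSubmodule_sup, fixedSubmodule_EG hs.qn, fixedSubmodule_EG ht.qn]
  have hX2 : X ≤ CofixG (range s ⊔ range t) := by
    rw [← commutatorSubmodule_le', commutatorSubmodule_sup, commutatorSubmodule_EG hs.qn,
      commutatorSubmodule_EG ht.qn]
  refine (unip_closure_of_pairs (k := k) (D := {d | d ∈ X ∧ MinQ G ((d : M →ₗ[k] M) - 1)}) ?_ ?_).mono ?_
  · have key : ∀ p ∈ X, ∀ x : (M →ₗ[k] M)ˣ, MinQ G ((x : M →ₗ[k] M) - 1) →
        MinQ G (((p * x * p⁻¹ : (M →ₗ[k] M)ˣ) : M →ₗ[k] M) - 1) := by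
      intro p hp x hx
      convert hx.conj (hXG hp) using 1
      simp [mul_sub, sub_mul]
    intro p hp x hx
    exact ⟨⟨mul_mem (mul_mem hp.1 hx.1) (inv_mem hp.1), key p hp.1 x hx.2⟩,
      ⟨mul_mem (mul_mem (inv_mem hp.1) hx.1) hp.1, by simpa using key p⁻¹ (inv_mem hp.1) x hx.2⟩⟩
  · intro p hp q hq
    have := unip_pair_of_not_opp (k := k) hp.2.qn.sq hq.2.qn.sq (fun ho => ?_)
    · convert this <;> exact Units.ext (by simp)
    have hc := opp_isCompl h2 h3 hp.2 hq.2 ho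
    have p1 : ker s ⊓ ker t ≤ _ := hX1 hp.1
    have q1 : ker s ⊓ ker t ≤ _ := hX1 hq.1
    have p2 : _ ≤ range s ⊔ range t := hX2 hp.1
    have q2 : _ ≤ range s ⊔ range t := hX2 hq.1
    have pp := mul_eq_zero_iff_le.1 hp.2.qn.sq
    have qq := mul_eq_zero_iff_le.1 hq.2.qn.sq
    have d1 : range ((p : M →ₗ[k] M) - 1) ⊓ range ((q : M →ₗ[k] M) - 1) = ⊥ :=
      eq_bot_iff.2 (le_trans (le_inf (inf_le_inf pp qq) (inf_le_left.trans le_sup_left)) hc.disjoint.le_bot)
    have d2 := Submodule.finrank_sup_add_finrank_inf_eq (range ((p : M →ₗ[k] M) - 1)) (range ((q : M →ₗ[k] M) - 1))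
    rw [d1, finrank_bot, add_zero] at d2
    have d3 := Submodule.finrank_add_le_finrank_add_finrank (range s) (range t)
    have d4 := hp.2.rk_eq hs
    have d5 := hq.2.rk_eq ht
    have d6 := Submodule.eq_of_le_of_finrank_le (sup_le p2 q2) (by simp only [rk] at d4 d5; omega)
    have d7 : ker s ⊓ ker t ⊓ (range s ⊔ range t) = ⊥ :=
      eq_bot_iff.2 (le_trans (inf_le_inf (le_inf p1 q1) d6.ge) hc.disjoint.le_bot)
    have ss := mul_eq_zero_iff_le.1 hs.qn.sq
    have tt := mul_eq_zero_iff_le.1 ht.qn.sq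
    have e1 : s * t = 0 := by
      rw [← range_eq_bot, eq_bot_iff, ← d7]
      refine le_inf (le_inf ((range_mul_le _ _).trans ss) ?_) ((range_mul_le _ _).trans le_sup_left)
      rw [← mul_eq_zero_iff_le, ← mul_assoc]
      exact sts_eq_zero h2 ht hs.qn fun ho => h ho.symm
    apply ht.ne
    rw [← range_eq_bot, eq_bot_iff, ← d7]
    exact le_inf (le_inf (mul_eq_zero_iff_le.1 e1) tt) le_sup_right
  · have key : ∀ {s : M →ₗ[k] M}, MinQ G s → EG G s ≤ X →
        EG G s ≤ Subgroup.closure {d | d ∈ X ∧ MinQ G ((d : M →ₗ[k] M) - 1)} := by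
      intro s hs hle g hg
      by_cases hg1 : g = 1
      · rw [hg1]; exact one_mem _
      exact Subgroup.subset_closure ⟨hle hg, (hs.of_mem_ES hg fun e => hg1 (Units.ext (sub_eq_zero.1 e))).1⟩
    exact sup_le (key hs le_sup_left) (key ht le_sup_right)

theorem opp_iff_not_unip {s t : M →ₗ[k] M} (hs : MinQ G s) (ht : MinQ G t) :
    Opp s t ↔ ¬ Unip k (EG G s ⊔ EG G t) := by
  refine ⟨fun h hu => ?_, fun h => by_contra fun h' => h (unip_of_not_opp h2 h3 hs ht h')⟩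
  have := not_opp_of_unip hu (Subgroup.mem_sup_left (uS_mem_EG hs.qn.mem_ES))
    (Subgroup.mem_sup_right (uS_mem_EG ht.qn.mem_ES))
  simp only [uS_val, add_sub_cancel_left] at this
  exact this h

end

theorem uS_comm {A : Type*} [Ring A] {s t : A} (hs : s * s = 0) (ht : t * t = 0) (h1 : s * t * s = 0)
    (h2 : t * s * t = 0) :
    ((uS s hs * uS t ht * (uS s hs)⁻¹ * (uS t ht)⁻¹ : Aˣ) : A) = 1 + (s * t - t * s) := by
  simp only [Units.val_mul, uS_val, uS_inv]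
  have h1' : ∀ x, s * (t * (s * x)) = 0 := fun x => by rw [← zero_mul x, ← h1]; simp only [mul_assoc]
  rw [mul_assoc] at h1 h2
  have ss : ∀ x, s * (s * x) = 0 := fun x => by rw [← mul_assoc, hs, zero_mul]
  simp only [mul_add, add_mul, mul_sub, sub_mul, mul_assoc, one_mul, mul_one, hs, ht, h1, h2, h1', ss,
    mul_zero, zero_mul]
  abel

theorem QN.comm {s t : M →ₗ[k] M} (hs : QN k G s) (ht : QN k G t) (h1 : s * t * s = 0)
    (h2 : t * s * t = 0) : QN k G (s * t - t * s) := by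
  refine ⟨?_, fun c => ⟨_, mul_mem (mul_mem (mul_mem (hs.smul c).uS_mem ht.uS_mem)
    (inv_mem (hs.smul c).uS_mem)) (inv_mem ht.uS_mem), ?_⟩⟩
  · have e : (s * t - t * s) * (s * t - t * s) = s * t * s * t - s * (t * t) * s - t * (s * s) * t + t * s * t * s := by
      noncomm_ring
    rw [e, h1, h2, hs.sq, ht.sq]; simp
  · rw [uS_comm _ _ (by simp [h1]) (by simp [h2])]
    simp [smul_sub]

theorem rk_mul_add (a b : M →ₗ[k] M) : rk (a * b) + Module.finrank k ↥(range b ⊓ ker a) = rk b := by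
  have h := LinearMap.finrank_range_add_finrank_ker (a.domRestrict (range b))
  rw [range_domRestrict, ker_domRestrict, ← range_comp, ← Submodule.finrank_map_subtype_eq,
    Submodule.map_comap_subtype] at h
  exact h

theorem comm_case {s t : M →ₗ[k] M} (hs : MinQ G s) (ht : MinQ G t) (h1 : s * t * s = 0)
    (h2 : t * s * t = 0) (hne : s * t - t * s ≠ 0) :
    MinQ G (s * t - t * s) ∧ range (s * t - t * s) = (range s ⊓ ker t) ⊔ (range t ⊓ ker s) ∧
      ker (s * t - t * s) = (range s ⊔ ker t) ⊓ (range t ⊔ ker s) ∧ range s ⊓ range t = ⊥ := by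
  have hq := hs.qn.comm ht.qn h1 h2
  have a1 : range (s * t) ≤ range s ⊓ ker t :=
    le_inf (range_mul_le _ _) (mul_eq_zero_iff_le.1 (by rw [← mul_assoc, h2]))
  have a2 : range (t * s) ≤ range t ⊓ ker s :=
    le_inf (range_mul_le _ _) (mul_eq_zero_iff_le.1 (by rw [← mul_assoc, h1]))
  have a3 : range (s * t - t * s) ≤ range (s * t) ⊔ range (t * s) := by
    rintro _ ⟨v, rfl⟩
    exact sub_mem (Submodule.mem_sup_left ⟨v, rfl⟩) (Submodule.mem_sup_right ⟨v, rfl⟩)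
  have b1 := rk_mul_add s t
  have b2 := rk_mul_add t s
  have b3 := Submodule.finrank_mono a1
  have b4 := Submodule.finrank_mono a2
  have b5 := Submodule.finrank_mono a3
  have b6 := Submodule.finrank_sup_add_finrank_inf_eq (range (s * t)) (range (t * s))
  have b7 := hs.min _ hq hne
  have b8 := hs.rk_eq ht
  simp only [rk] at b1 b2 b7 b8
  have c1 := Submodule.eq_of_le_of_finrank_le a1 (by omega)
  have c2 := Submodule.eq_of_le_of_finrank_le a2 (by omega)
  have c3 := Submodule.eq_of_le_of_finrank_le a3 (by omega)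
  have c4 : range (s * t) ⊓ range (t * s) = ⊥ := Submodule.finrank_eq_zero.1 (by omega)
  have ss := mul_eq_zero_iff_le.1 hs.qn.sq
  have tt := mul_eq_zero_iff_le.1 ht.qn.sq
  have kk : ∀ {s t : M →ₗ[k] M}, s * t * s = 0 → range (t * s) = range t ⊓ ker s →
      ker (s * t) = range s ⊔ ker t := by
    intro s t h1 c2
    refine le_antisymm (fun v hv => ?_) (sup_le (mul_eq_zero_iff_le.1 h1) (ker_le_mul _ _))
    have : t v ∈ range (t * s) := by rw [c2]; exact ⟨⟨v, rfl⟩, hv⟩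
    obtain ⟨w, hw⟩ := this
    have e : v = s w + (v - s w) := by abel
    rw [e]
    refine add_mem (Submodule.mem_sup_left ⟨w, rfl⟩) (Submodule.mem_sup_right ?_)
    rw [mem_ker, map_sub, ← hw]; simp
  refine ⟨hs.of_le hq hne (by simp only [rk]; omega), by rw [c3, c1, c2], ?_, ?_⟩
  · rw [← kk h1 c2, ← kk h2 c1]
    refine le_antisymm (fun v hv => ?_) fun v hv => ?_
    · have e : (s * t) v = (t * s) v := by simpa [sub_eq_zero] using hv
      have : (s * t) v ∈ range (s * t) ⊓ range (t * s) := ⟨⟨v, rfl⟩, ⟨v, e.symm⟩⟩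
      rw [c4, Submodule.mem_bot] at this
      exact ⟨this, e.symm.trans this⟩
    · have e1 : (s * t) v = 0 := hv.1
      have e2 : (t * s) v = 0 := hv.2
      rw [mem_ker, LinearMap.sub_apply, e1, e2, sub_zero]
  · rw [eq_bot_iff, ← c4, c1, c2]
    exact le_inf (le_inf inf_le_left (inf_le_right.trans tt)) (le_inf inf_le_right (inf_le_left.trans ss))

end CfsgH9
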