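import Cfsg.Prelude.Def_RootSubgroups
import Cfsg.Agent.H4.BaerSuzuki
import Cfsg.Agent.H4.Dihedral

set_option autoImplicit false

namespace CfsgH9
open Cfsg

variable {G : Type*} [Group G]

/-- a self-normalized set of root involutions (not necessarily generating) -/
structure RI (D : Set G) : Prop where
  sq : ∀ d ∈ D, d * d = 1
  ne : ∀ d ∈ D, d ≠ 1
  conj : ∀ a ∈ D, ∀ b ∈ D, a * b * a ∈ D
  pair : ∀ a ∈ D, ∀ b ∈ D, a * b = b * a ∨ Odd (orderOf (a * b)) ∨ (orderOf (a * b) = 4 ∧ (a * b) ^ 2 ∈ D)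

/-- odd pair -/
def Od (a b : G) : Prop := a ≠ b ∧ Odd (orderOf (a * b))

/-- pair with product of order four -/
def Fo (a b : G) : Prop := orderOf (a * b) = 4

variable {D : Set G} {a b c d e x y z : G}

theorem RI.of_set (h : IsRootInvolutionSet D) : RI D where
  sq d hd := CfsgH4.mul_self_of_orderOf (h.orderOf_eq d hd)
  ne d hd := CfsgH4.ne_one_of_orderOf (h.orderOf_eq d hd)
  conj a ha b hb := by
    have := h.conj_mem b hb a
    rwa [CfsgH4.inv_eq_of_orderOf (h.orderOf_eq a ha)] at this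
  pair := h.pair

theorem RI.inv (h : RI D) (hd : d ∈ D) : d⁻¹ = d := inv_eq_of_mul_eq_one_right (h.sq d hd)

theorem RI.sq_assoc (h : RI D) (hd : d ∈ D) (g : G) : d * (d * g) = g := by
  rw [← mul_assoc, h.sq d hd, one_mul]

theorem orderOf_mul_swap (a b : G) : orderOf (a * b) = orderOf (b * a) := by
  have : b * a = a⁻¹ * (a * b) * a⁻¹⁻¹ := by group
  rw [this, CfsgH4.orderOf_conj']

theorem Od.symm (h : Od a b) : Od b a := ⟨h.1.symm, by rw [orderOf_mul_swap]; exact h.2⟩

theorem Fo.symm (h : Fo a b) : Fo b a := by unfold Fo at *; rwa [orderOf_mul_swap]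

theorem Od.conj (h : Od a b) (g : G) : Od (g * a * g⁻¹) (g * b * g⁻¹) := by
  refine ⟨fun e => h.1 (by simpa using e), ?_⟩
  have : g * a * g⁻¹ * (g * b * g⁻¹) = g * (a * b) * g⁻¹ := by group
  rw [this, CfsgH4.orderOf_conj']; exact h.2

theorem Fo.conj (h : Fo a b) (g : G) : Fo (g * a * g⁻¹) (g * b * g⁻¹) := by
  unfold Fo at *
  have : g * a * g⁻¹ * (g * b * g⁻¹) = g * (a * b) * g⁻¹ := by group
  rw [this, CfsgH4.orderOf_conj']; exact h

theorem od_conj_iff (g : G) : Od (g * a * g⁻¹) (g * b * g⁻¹) ↔ Od a b :=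
  ⟨fun h => by simpa [mul_assoc] using h.conj g⁻¹, fun h => h.conj g⟩

theorem fo_conj_iff (g : G) : Fo (g * a * g⁻¹) (g * b * g⁻¹) ↔ Fo a b :=
  ⟨fun h => by simpa [mul_assoc] using h.conj g⁻¹, fun h => h.conj g⟩

theorem eq_one_of_odd_of_pow_two_pow {h : G} (ho : Odd (orderOf h)) {k : ℕ} (hk : h ^ 2 ^ k = 1) : h = 1 := by
  have h1 := orderOf_dvd_of_pow_eq_one hk
  have h2 : (orderOf h).Coprime (2 ^ k) := (Nat.Coprime.pow_right k (Nat.coprime_two_right.2 ho))
  exact orderOf_eq_one_iff.1 (Nat.Coprime.eq_one_of_dvd h2 h1)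

theorem eq_one_of_odd_of_sq {h : G} (ho : Odd (orderOf h)) (hk : h * h = 1) : h = 1 :=
  eq_one_of_odd_of_pow_two_pow ho (k := 1) (by simpa [pow_two] using hk)

theorem odd_orderOf_pow {h : G} (ho : Odd (orderOf h)) (n : ℕ) : Odd (orderOf (h ^ n)) :=
  Odd.of_dvd_nat ho (orderOf_pow_dvd n)

theorem eq_one_of_odd_of_isPGroup {h : G} (ho : Odd (orderOf h)) {P : Subgroup G} (hP : IsPGroup 2 P)
    (hh : h ∈ P) : h = 1 := by
  obtain ⟨k, hk⟩ := hP ⟨h, hh⟩
  exact eq_one_of_odd_of_pow_two_pow ho (k := k) (by simpa using congrArg Subtype.val hk)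

theorem Od.mul_ne_one (hD : RI D) (ha : a ∈ D) (h : Od a b) : a * b ≠ 1 := fun e =>
  h.1 (by rw [← hD.inv ha]; exact inv_eq_of_mul_eq_one_right e)

theorem Od.not_comm (hD : RI D) (ha : a ∈ D) (hb : b ∈ D) (h : Od a b) : a * b ≠ b * a := fun e => by
  apply h.mul_ne_one hD ha
  apply eq_one_of_odd_of_sq h.2
  calc _ = a * (b * a) * b := by group
    _ = 1 := by rw [← e, ← mul_assoc, hD.sq a ha, one_mul, hD.sq b hb]

theorem Od.not_fo (h : Od a b) : ¬ Fo a b := fun e => by
  have := h.2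
  rw [show orderOf (a * b) = 4 from e] at this
  exact absurd this (by decide)

theorem Fo.not_comm (hD : RI D) (ha : a ∈ D) (hb : b ∈ D) (h : Fo a b) : a * b ≠ b * a := fun e => by
  have h1 : (a * b) ^ 2 = 1 := by
    calc _ = a * (b * a) * b := by rw [pow_two]; group
      _ = 1 := by rw [← e, ← mul_assoc, hD.sq a ha, one_mul, hD.sq b hb]
  have := orderOf_dvd_of_pow_eq_one h1
  rw [show orderOf (a * b) = 4 from h] at this
  exact absurd this (by decide)

theorem RI.tri (hD : RI D) (ha : a ∈ D) (hb : b ∈ D) : a * b = b * a ∨ Od a b ∨ Fo a b := by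
  by_cases hab : a = b
  · left; rw [hab]
  rcases hD.pair a ha b hb with h | h | h
  · exact Or.inl h
  · exact Or.inr (Or.inl ⟨hab, h⟩)
  · exact Or.inr (Or.inr h.1)

theorem Fo.mem (hD : RI D) (ha : a ∈ D) (hb : b ∈ D) (h : Fo a b) : a * b * a * b ∈ D := by
  rcases hD.pair a ha b hb with h1 | h1 | h1
  · exact absurd h1 (h.not_comm hD ha hb)
  · rw [show orderOf (a * b) = 4 from h] at h1
    exact absurd h1 (by decide)
  · have := h1.2
    rwa [pow_two, ← mul_assoc] at this

theorem Fo.pow_four (h : Fo a b) : a * b * a * b * (a * b * a * b) = 1 := by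
  have := pow_orderOf_eq_one (a * b)
  rw [show orderOf (a * b) = 4 from h] at this
  rw [← this]; simp only [pow_succ, pow_zero, one_mul, mul_assoc]

/-- the commutator of a non-odd pair is an involution (or trivial) -/
theorem RI.comm_sq (hD : RI D) (ha : a ∈ D) (hb : b ∈ D) (h : ¬ Od a b) :
    a * b * a * b * (a * b * a * b) = 1 := by
  rcases hD.tri ha hb with h1 | h1 | h1
  · have : a * b * a * b = 1 := by
      rw [h1, mul_assoc b, hD.sq a ha, mul_one, hD.sq b hb]
    rw [this, one_mul]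
  · exact absurd h1 h
  · exact h1.pow_four

theorem RI.comm_eq (hD : RI D) (ha : a ∈ D) (hb : b ∈ D) (h : ¬ Od a b) :
    b * a * b * a = a * b * a * b := by
  have h1 := hD.comm_sq ha hb h
  have h2 : (a * b * a * b)⁻¹ = b * a * b * a := by
    simp only [mul_inv_rev, hD.inv ha, hD.inv hb, mul_assoc]
  rw [← h2]; exact inv_eq_of_mul_eq_one_right h1

theorem RI.comm_left (hD : RI D) (ha : a ∈ D) (hb : b ∈ D) (h : ¬ Od a b) :
    a * b * a * b * a = a * (a * b * a * b) := by
  conv_rhs => rw [← hD.comm_eq ha hb h]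
  simp only [mul_assoc]

theorem RI.comm_right (hD : RI D) (ha : a ∈ D) (hb : b ∈ D) (h : ¬ Od a b) :
    a * b * a * b * b = b * (a * b * a * b) := by
  conv_lhs => rw [← hD.comm_eq ha hb h]
  group

theorem RI.comm_mem_or (hD : RI D) (ha : a ∈ D) (hb : b ∈ D) (h : ¬ Od a b) :
    a * b * a * b = 1 ∨ a * b * a * b ∈ D := by
  rcases hD.tri ha hb with h1 | h1 | h1
  · left; rw [h1, mul_assoc b, hD.sq a ha, mul_one, hD.sq b hb]
  · exact absurd h1 h
  · exact Or.inr (h1.mem hD ha hb)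

theorem RI.fo_of (hD : RI D) (ha : a ∈ D) (hb : b ∈ D) (h1 : a * b ≠ b * a) (h2 : ¬ Od a b) : Fo a b := by
  rcases hD.tri ha hb with h | h | h
  · exact absurd h h1
  · exact absurd h h2
  · exact h

theorem RI.od_of (hD : RI D) (ha : a ∈ D) (hb : b ∈ D) (h1 : a * b ≠ b * a) (h2 : ¬ Fo a b) : Od a b := by
  rcases hD.tri ha hb with h | h | h
  · exact absurd h h1
  · exact h
  · exact absurd h h2

/-- no product of two root involutions has order twice an odd number `> 1` -/
theorem RI.two_m (hD : RI D) (ha : a ∈ D) (hb : b ∈ D) {z h : G} (hz : z * z = 1) (hzh : z * h = h * z)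
    (ho : Odd (orderOf h)) (e : a * b = z * h) : z = 1 ∨ h = 1 := by
  have hsq : (a * b) ^ 2 = h ^ 2 := by
    rw [e, Commute.mul_pow hzh, pow_two z, hz, one_mul]
  rcases hD.tri ha hb with h1 | h1 | h1
  · right
    apply eq_one_of_odd_of_pow_two_pow ho (k := 1)
    rw [pow_one, ← hsq]
    calc _ = a * (b * a) * b := by rw [pow_two]; group
      _ = 1 := by rw [← h1, ← mul_assoc, hD.sq a ha, one_mul, hD.sq b hb]
  · left
    obtain ⟨k, hk⟩ := h1.2.mul ho
    have h2 : (a * b) ^ (orderOf (a * b) * orderOf h) = 1 := by rw [pow_mul, pow_orderOf_eq_one, one_pow]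
    rw [e, Commute.mul_pow hzh, mul_comm (orderOf (z * h)), pow_mul h, pow_orderOf_eq_one, one_pow,
      mul_one, ← e, mul_comm, hk, pow_succ, pow_mul, pow_two, hz, one_pow, one_mul] at h2
    exact h2
  · right
    apply eq_one_of_odd_of_pow_two_pow ho (k := 2)
    rw [show 2 ^ 2 = 2 * 2 by norm_num, pow_mul, ← hsq, ← pow_mul]
    have := pow_orderOf_eq_one (a * b)
    rwa [show orderOf (a * b) = 4 from h1] at this

/-- an involution centralizing an odd pair does not translate it into `D` -/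
theorem RI.lemD (hD : RI D) (ha : a ∈ D) (h : Od a b) {z : G} (hz : z * z = 1)
    (hza : z * a = a * z) (hzb : z * b = b * z) (hm : z * b ∈ D) : z = 1 := by
  have := hD.two_m ha hm hz (h := a * b) (Commute.mul_right hza hzb) h.2 (by rw [← mul_assoc, ← hza, mul_assoc])
  rcases this with h1 | h1
  · exact h1
  · exact absurd h1 (h.mul_ne_one hD ha)

theorem RI.lemA' (hD : RI D) (hx : x ∈ D) {u v : G} (hu : u ∈ D) (hv : v ∈ D) (h1 : ¬ Od x u)
    (h2 : ¬ Od x v) : ¬ Od (u * x * u) (v * x * v) := by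
  intro h
  have e1 : u * x * u = x * (x * u * x * u) := by rw [← mul_assoc, ← mul_assoc, ← mul_assoc, hD.sq x hx, one_mul]
  have e2 : v * x * v = x * (x * v * x * v) := by rw [← mul_assoc, ← mul_assoc, ← mul_assoc, hD.sq x hx, one_mul]
  have c1 := hD.comm_left hx hu h1
  have c2 := hD.comm_left hx hv h2
  have s1 := hD.comm_sq hx hu h1
  have s2 := hD.comm_sq hx hv h2
  have m1 := hD.comm_mem_or hx hu h1
  set p := x * u * x * u
  set q := x * v * x * v
  have e3 : u * x * u * (v * x * v) = p * q := by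
    rw [e1, e2, ← c1, mul_assoc, hD.sq_assoc hx]
  have ho := h.2
  rw [e3] at ho
  have hne : p * q ≠ 1 := e3 ▸ h.mul_ne_one hD (hD.conj u hu x hx)
  rcases m1 with m1 | m1
  · rw [m1, one_mul] at ho hne
    exact hne (eq_one_of_odd_of_sq ho s2)
  · have := hD.two_m m1 (hD.conj v hv x hx) (hD.sq x hx) (h := p * q)
      (Commute.mul_right (c1.symm) (c2.symm)) ho (by rw [e2, ← mul_assoc, c1, mul_assoc])
    rcases this with h3 | h3
    · exact hD.ne x hx h3
    · exact hne h3

theorem RI.lemA (hD : RI D) (hx : x ∈ D) {u v : G} (hu : u ∈ D) (hv : v ∈ D) (huv : u * v = v * u)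
    (h : Od x (u * v)) : Od x u ∨ Od x v := by
  by_contra hn
  push Not at hn
  apply hD.lemA' hx hu hv hn.1 hn.2
  have e : u * x * u * (v * x * v) = u * (x * (u * v)) ^ 2 * u⁻¹ := by
    rw [hD.inv hu, pow_two]
    calc _ = u * x * u * v * x * (v * (u * u)) := by rw [hD.sq u hu]; group
      _ = u * x * u * v * x * ((v * u) * u) := by group
      _ = _ := by rw [← huv]; group
  refine ⟨fun e1 => ?_, ?_⟩
  · have h1 : u * x * u * (v * x * v) = 1 := by rw [← e1]; exact hD.sq _ (hD.conj u hu x hx)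
    rw [e] at h1
    have h2 : (x * (u * v)) ^ 2 = 1 := by simpa using h1
    exact h.mul_ne_one hD hx (eq_one_of_odd_of_pow_two_pow h.2 (k := 1) h2)
  · rw [e, CfsgH4.orderOf_conj']
    exact odd_orderOf_pow h.2 2

theorem Od.conj_self (hD : RI D) (ha : a ∈ D) (hb : b ∈ D) (h : Od a b) : Od a (b * a * b) := by
  have e : a * (b * a * b) = (a * b) ^ 2 := by rw [pow_two]; group
  refine ⟨fun e1 => h.not_comm hD ha hb ?_, by rw [e]; exact odd_orderOf_pow h.2 2⟩
  conv_rhs => rw [e1]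
  rw [← mul_assoc, ← mul_assoc, hD.sq b hb, one_mul]

theorem RI.conj_closure (hD : RI D) {g : G} (hg : g ∈ Subgroup.closure D) (hd : d ∈ D) :
    g * d * g⁻¹ ∈ D := by
  induction hg using Subgroup.closure_induction'' generalizing d with
  | one => simpa using hd
  | mem x hx => rw [hD.inv hx]; exact hD.conj x hx d hd
  | inv_mem x hx => rw [inv_inv, hD.inv hx]; exact hD.conj x hx d hd
  | mul x y _ _ ihx ihy =>
    have := ihx (ihy hd)
    rwa [show x * (y * d * y⁻¹) * x⁻¹ = x * y * d * (x * y)⁻¹ by group] at this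

theorem Od.exists_conj (hD : RI D) (ha : a ∈ D) (hb : b ∈ D) (h : Od a b) :
    ∃ g ∈ Subgroup.closure ({a, b} : Set G), b = g * a * g⁻¹ := by
  obtain ⟨n, hn⟩ := CfsgH4.dih_conj_of_odd (hD.sq b hb) (hD.sq a ha) h.symm.2
  refine ⟨(b * a) ^ n, Subgroup.pow_mem _ (Subgroup.mul_mem _ ?_ ?_) _, hn.symm⟩ <;>
    exact Subgroup.subset_closure (by simp)

/-- a conjugation closed set of involutions without odd pairs generates a `2`-group -/
theorem isPGroup_closure_of_not_od [Finite G] (hD : RI D) {T : Set G} (hT : T ⊆ D)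
    (hc : ∀ a ∈ T, ∀ b ∈ T, a * b * a ∈ T) (hn : ∀ a ∈ T, ∀ b ∈ T, ¬ Od a b) :
    IsPGroup 2 (Subgroup.closure T) := by
  have hcl : ∀ g ∈ Subgroup.closure T, ∀ d ∈ T, g * d * g⁻¹ ∈ T := by
    intro g hg
    induction hg using Subgroup.closure_induction'' with
    | one => simp
    | mem x hx => intro d hd; rw [hD.inv (hT hx)]; exact hc x hx d hd
    | inv_mem x hx => intro d hd; rw [inv_inv, hD.inv (hT hx)]; exact hc x hx d hd
    | mul x y _ _ ihx ihy =>
      intro d hd
      have := ihx _ (ihy d hd)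
      rwa [show x * (y * d * y⁻¹) * x⁻¹ = x * y * d * (x * y)⁻¹ by group] at this
  have h1 := CfsgH4.baer_suzuki_set (G := Subgroup.closure T) (p := 2) (Subtype.val ⁻¹' T)
    (fun g d hd => hcl g g.2 d hd) (fun x hx y hy => by
      refine CfsgH4.dih_isPGroup (k := 2) (Subtype.ext (hD.sq _ (hT hx))) (Subtype.ext (hD.sq _ (hT hy))) ?_
      apply Subtype.ext
      have := hD.comm_sq (hT hx) (hT hy) (hn _ hx _ hy)
      simp only [Subgroup.coe_pow, Subgroup.coe_mul, Subgroup.coe_one]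
      rw [← this, show (2 : ℕ) ^ 2 = 4 from rfl]; simp only [pow_succ, pow_zero, one_mul, mul_assoc])
  rw [show Subtype.val ⁻¹' T = ((↑) : Subgroup.closure T → G) ⁻¹' T from rfl,
    Subgroup.closure_closure_coe_preimage] at h1
  exact h1.of_equiv Subgroup.topEquiv

end CfsgH9
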