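import Cfsg.Agent.H9.RootInv

set_option autoImplicit false

namespace CfsgH9
open Cfsg

variable {G : Type*} [Group G]

/-- `b` is a product partner of `a` -/
def XP (D : Set G) (a b : G) : Prop := b ∈ D ∧ a * b = b * a ∧ b ≠ a ∧ a * b ∈ D

variable {D : Set G} {a b c d e n x y z : G}

theorem mem_productPartners : b ∈ productPartners D a ↔ XP D a b := by
  unfold productPartners commutingOthers XP
  simp only [Set.mem_ofPred_eq]
  constructor
  · rintro ⟨⟨h1, h2, h3⟩, h4⟩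
    exact ⟨h1, h2.symm, h3, h2 ▸ h4⟩
  · rintro ⟨h1, h2, h3, h4⟩
    exact ⟨⟨h1, h2.symm, h3⟩, h2 ▸ h4⟩

theorem XP.symm (ha : a ∈ D) (h : XP D a b) : XP D b a := ⟨ha, h.2.1.symm, h.2.2.1.symm, h.2.1 ▸ h.2.2.2⟩

theorem XP.mul (hD : RI D) (ha : a ∈ D) (h : XP D a b) : XP D a (a * b) := by
  refine ⟨h.2.2.2, ?_, fun e => hD.ne b h.1 (by simpa using e), by rw [hD.sq_assoc ha]; exact h.1⟩
  rw [mul_assoc, ← h.2.1]

theorem XP.mul' (hD : RI D) (ha : a ∈ D) (h : XP D a b) : XP D b (a * b) := by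
  rw [h.2.1]; exact (h.symm ha).mul hD h.1

theorem XP.conj (hD : RI D) (h : XP D a b) {g : G} (hg : g ∈ Subgroup.closure D) :
    XP D (g * a * g⁻¹) (g * b * g⁻¹) := by
  refine ⟨hD.conj_closure hg h.1, ?_, fun e => h.2.2.1 (by simpa using e), ?_⟩
  · calc _ = g * (a * b) * g⁻¹ := by group
      _ = _ := by rw [h.2.1]; group
  · have := hD.conj_closure hg h.2.2.2
    rwa [show g * (a * b) * g⁻¹ = g * a * g⁻¹ * (g * b * g⁻¹) by group] at this

theorem Fo.comm_ne_one (hD : RI D) (ha : a ∈ D) (hb : b ∈ D) (h : Fo a b) : a * b * a * b ≠ 1 :=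
  hD.ne _ (h.mem hD ha hb)

theorem Fo.not_od (h : Fo a b) : ¬ Od a b := fun h' => h'.not_fo h

theorem Fo.xp_left (hD : RI D) (ha : a ∈ D) (hb : b ∈ D) (h : Fo a b) : XP D a (a * b * a * b) := by
  refine ⟨h.mem hD ha hb, (hD.comm_left ha hb h.not_od).symm, fun e => ?_, ?_⟩
  · apply hD.ne a ha
    have h1 : b * a * b = 1 := by
      have : a * (b * a * b) = a * 1 := by rw [mul_one]; simpa [mul_assoc] using e
      exact mul_left_cancel this
    calc a = b * (b * a * b) * b := by rw [← mul_assoc, ← mul_assoc, hD.sq b hb, one_mul, mul_assoc, hD.sq b hb, mul_one]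
      _ = 1 := by rw [h1, mul_one, hD.sq b hb]
  · rw [← mul_assoc, ← mul_assoc, ← mul_assoc, hD.sq a ha, one_mul]
    exact hD.conj b hb a ha

theorem Fo.xp_right (hD : RI D) (ha : a ∈ D) (hb : b ∈ D) (h : Fo a b) : XP D b (a * b * a * b) := by
  rw [← hD.comm_eq ha hb h.not_od]
  exact h.symm.xp_left hD hb ha

theorem XP.not_comm (hD : RI D) (hy : y ∈ D) (h : XP D a b) (ho : Od a y) : b * y ≠ y * b := fun e =>
  hD.ne b h.1 (hD.lemD hy ho.symm (hD.sq b h.1) e h.2.1.symm (h.2.1 ▸ h.2.2.2))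

theorem XP.od_or (hD : RI D) (ha : a ∈ D) (hy : y ∈ D) (h : XP D a b) (ho : Od a y) :
    Od y b ∨ Od y (a * b) := by
  refine hD.lemA hy h.1 h.2.2.2 (h.mul' hD ha).2.1 ?_
  rw [h.2.1, hD.sq_assoc h.1]
  exact ho.symm

theorem XP.fo_of (hD : RI D) (hy : y ∈ D) (h : XP D a b) (ho : Od a y) (hn : ¬ Od b y) : Fo b y :=
  hD.fo_of h.1 hy (h.not_comm hD hy ho) hn

theorem XP.od_mul (hD : RI D) (ha : a ∈ D) (hy : y ∈ D) (h : XP D a b) (ho : Od a y) (hn : ¬ Od b y) :
    Od y (a * b) := (h.od_or hD ha hy ho).resolve_left fun h' => hn h'.symm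

/-- two product partners of the same element do not form an odd pair -/
theorem XP.not_od (hD : RI D) (ha : a ∈ D) (h : XP D a b) (hc : c ∈ D) (hac : a * c = c * a) : ¬ Od b c :=
  fun ho => (h.symm ha).not_comm hD hc ho hac

theorem lemB (hD : RI D) (ha : a ∈ D) (hy : y ∈ D) (hx : x ∈ D) (ho : Od a y) (hax : a * x = x * a)
    (hf : Fo x y) : Fo a (x * y * x * y) := by
  have h1 := hf.xp_left hD hx hy
  have h2 := hf.xp_right hD hx hy
  refine hD.fo_of ha h1.1 (fun e => ?_) (fun h3 => ?_)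
  · exact h2.not_comm hD ha ho.symm e.symm
  · exact h1.not_od hD hx ha hax.symm h3.symm

theorem lemC_inj (hD : RI D) (ha : a ∈ D) (hy : y ∈ D) (ho : Od a y) {x x' : G} (hx : XP D a x)
    (hx' : XP D a x') (hf : Fo x y) (hf' : Fo x' y) (e : x * y * x * y = x' * y * x' * y) : x = x' := by
  have e1 : x * y * x = x' * y * x' := mul_right_cancel e
  have ho1 := hx.od_mul hD ha hy ho hf.not_od
  have ho2 := hx'.od_mul hD ha hy ho hf'.not_od
  set z := x * x' with hz
  have hzy : z * y = y * z := by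
    calc _ = x * (x' * y * x') * x' := by rw [hz, mul_assoc x (x' * y * x'), mul_assoc _ x' x', hD.sq x' hx'.1]; group
      _ = _ := by rw [← e1, ← mul_assoc, ← mul_assoc, hD.sq x hx.1, hz]; group
  have hza : z * a = a * z := by
    rw [hz, mul_assoc, ← hx'.2.1, ← mul_assoc, ← hx.2.1, mul_assoc]
  have hzx : x * z * x⁻¹ = z⁻¹ := by
    rw [hz, hD.sq_assoc hx.1, mul_inv_rev, hD.inv hx'.1]
  set k := y * (a * x) with hk
  have hkz : k * z * k⁻¹ = z⁻¹ := by
    calc _ = y * a * (x * z * x⁻¹) * a⁻¹ * y⁻¹ := by rw [hk]; group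
      _ = y * (a * z⁻¹) * a⁻¹ * y⁻¹ := by rw [hzx]; group
      _ = (y * z⁻¹) * y⁻¹ := by rw [(Commute.inv_left hza).symm.eq]; group
      _ = _ := by rw [(Commute.inv_left hzy).symm.eq]; group
  have hkk : Commute (k * k) z := by
    change _ * _ = _ * _
    have : k * z⁻¹ * k⁻¹ = z := by
      have := congrArg (·⁻¹) hkz
      simpa [mul_assoc] using this
    calc _ = k * (k * z * k⁻¹) * k := by group
      _ = (k * z⁻¹ * k⁻¹) * (k * k) := by rw [hkz]; group
      _ = _ := by rw [this]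
  have hkz' : Commute k z := by
    obtain ⟨m, hm⟩ := ho1.2
    have : k = (k * k) ^ (m + 1) := by
      rw [← pow_two, ← pow_mul, show 2 * (m + 1) = 2 * m + 1 + 1 by ring, ← hm, pow_succ,
        pow_orderOf_eq_one, one_mul]
    rw [this]; exact hkk.pow_left _
  have hzz : z * z = 1 := by
    have : z = z⁻¹ := by rw [← hkz, hkz'.eq]; group
    nth_rewrite 1 [this]; simp
  have := hD.two_m hy hx'.2.2.2 hzz hkz'.symm.eq ho1.2 (by
    rw [← hkz'.eq, hk, hz, mul_assoc, mul_assoc, hD.sq_assoc hx.1])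
  rcases this with h1 | h1
  · rw [← hD.inv hx.1]; exact inv_eq_of_mul_eq_one_right h1
  · exact absurd h1 (ho1.mul_ne_one hD hy)

theorem lemC [Finite G] (hD : RI D) (ha : a ∈ D) (hy : y ∈ D) (ho : Od a y) (hb : XP D a b) (hf : Fo b y) :
    ∃ n, XP D y n ∧ Fo n a ∧ n * a * n * a = b := by
  have key : ∀ {a y : G}, a ∈ D → y ∈ D → Od a y →
      Set.MapsTo (fun x => x * y * x * y) {x | XP D a x ∧ Fo x y} {x | XP D y x ∧ Fo x a} ∧
      Set.InjOn (fun x => x * y * x * y) {x | XP D a x ∧ Fo x y} := by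
    intro a y ha hy ho
    refine ⟨fun x hx => ⟨hx.2.xp_right hD hx.1.1 hy, (lemB hD ha hy hx.1.1 ho hx.1.2.1 hx.2).symm⟩,
      fun x hx x' hx' e => lemC_inj hD ha hy ho hx.1 hx'.1 hx.2 hx'.2 e⟩
  obtain ⟨m1, i1⟩ := key ha hy ho
  obtain ⟨m2, i2⟩ := key hy ha ho.symm
  have h3 := ((Set.toFinite _).injOn_iff_bijOn_of_mapsTo (m2.comp m1)).1 (i2.comp i1 m1)
  obtain ⟨x, hx, e⟩ := h3.surjOn ⟨hb, hf⟩
  exact ⟨_, (m1 hx).1, (m1 hx).2, e⟩

/-- odd partners -/
def Aset (D : Set G) (a : G) : Set G := {y | y ∈ D ∧ Od a y}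

theorem mem_oddPartners : y ∈ oddPartners D a ↔ y ∈ D ∧ Od a y := by
  unfold oddPartners Od
  simp only [Set.mem_ofPred_eq, ne_comm]

theorem oddAdj_iff : OddAdj D a b ↔ a ∈ D ∧ b ∈ D ∧ Od a b := Iff.rfl

theorem mem_Aset_conj (hD : RI D) {g : G} (hg : g ∈ Subgroup.closure D) :
    y ∈ Aset D (g * a * g⁻¹) ↔ g⁻¹ * y * g ∈ Aset D a := by
  constructor
  · rintro ⟨h1, h2⟩
    refine ⟨by simpa using hD.conj_closure (Subgroup.inv_mem _ hg) h1, ?_⟩
    simpa [mul_assoc] using h2.conj g⁻¹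
  · rintro ⟨h1, h2⟩
    refine ⟨by simpa [mul_assoc] using hD.conj_closure hg h1, ?_⟩
    simpa [mul_assoc] using h2.conj g

theorem Aset_conj_eq (hD : RI D) {g : G} (hg : g ∈ Subgroup.closure D) (h : Aset D a = Aset D b) :
    Aset D (g * a * g⁻¹) = Aset D (g * b * g⁻¹) := by
  ext y; rw [mem_Aset_conj hD hg, mem_Aset_conj hD hg, h]

/-- `D` is one class under the group it generates -/
def OneClass (D : Set G) : Prop := ∀ a ∈ D, ∀ b ∈ D, ∃ g ∈ Subgroup.closure D, b = g * a * g⁻¹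

theorem oneClass_of_connected (hD : RI D) (hc : IsConnectedSet (OddAdj D) D) : OneClass D := by
  intro a ha b hb
  have := hc a ha b hb
  clear hb
  induction this with
  | refl => exact ⟨1, Subgroup.one_mem _, by simp⟩
  | tail _ h2 ih =>
    obtain ⟨g, hg, rfl⟩ := ih
    obtain ⟨g', hg', e⟩ := Od.exists_conj hD h2.1 h2.2.1 h2.2.2
    refine ⟨g' * g, Subgroup.mul_mem _ (Subgroup.closure_mono ?_ hg') hg, by rw [e]; group⟩
    rintro _ (rfl | rfl)
    exacts [h2.1, h2.2.1]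

theorem ncard_eq_of_conj {S T : Set G} (g : G) (h : ∀ y, y ∈ T ↔ g⁻¹ * y * g ∈ S) : T.ncard = S.ncard := by
  have : T = (MulAut.conj g) '' S := by
    ext y
    rw [h]
    constructor
    · intro hy; exact ⟨_, hy, by simp [mul_assoc]⟩
    · rintro ⟨s, hs, rfl⟩; simpa [mul_assoc] using hs
  rw [this, Set.ncard_image_of_injective _ (MulAut.conj g).injective]

theorem Aset_eq_of_subset [Finite G] (hD : RI D) (hcl : OneClass D) (ha : a ∈ D) (hb : b ∈ D)
    (h : Aset D a ⊆ Aset D b) : Aset D a = Aset D b := by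
  obtain ⟨g, hg, rfl⟩ := hcl a ha b hb
  exact Set.eq_of_subset_of_ncard_le h (ncard_eq_of_conj g fun y => mem_Aset_conj hD hg).le

theorem exists_od_not_od [Finite G] (hD : RI D) (hcl : OneClass D) (ha : a ∈ D) (hb : b ∈ D)
    (h : Aset D a ≠ Aset D b) : ∃ y ∈ D, Od a y ∧ ¬ Od b y := by
  by_contra hn
  push Not at hn
  exact h (Aset_eq_of_subset hD hcl ha hb fun y hy => ⟨hy.1, hn y hy.1 hy.2⟩)

theorem mem_C : y ∈ commutingMembers D a ↔ y ∈ D ∧ y * a = a * y := Iff.rfl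

theorem mem_C_conj (hD : RI D) {g : G} (hg : g ∈ Subgroup.closure D) :
    y ∈ commutingMembers D (g * a * g⁻¹) ↔ g⁻¹ * y * g ∈ commutingMembers D a := by
  rw [mem_C, mem_C]
  refine and_congr ⟨fun h => by simpa using hD.conj_closure (Subgroup.inv_mem _ hg) h,
    fun h => by simpa [mul_assoc] using hD.conj_closure hg h⟩ ⟨fun h => ?_, fun h => ?_⟩
  · calc _ = g⁻¹ * (y * (g * a * g⁻¹)) * g := by group
      _ = _ := by rw [h]; group
  · calc _ = g * (g⁻¹ * y * g * a) * g⁻¹ := by group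
      _ = _ := by rw [h]; group

theorem C_eq_of_subset [Finite G] (hD : RI D) (hcl : OneClass D) (ha : a ∈ D) (hb : b ∈ D)
    (h : commutingMembers D a ⊆ commutingMembers D b) : commutingMembers D a = commutingMembers D b := by
  obtain ⟨g, hg, rfl⟩ := hcl a ha b hb
  exact Set.eq_of_subset_of_ncard_le h (ncard_eq_of_conj g fun y => mem_C_conj hD hg).le

theorem Aset_subset_of_C_subset (hD : RI D) (hd : d ∈ D) (he : e ∈ D)
    (h : commutingMembers D d ⊆ commutingMembers D e) : Aset D e ⊆ Aset D d := by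
  rintro x ⟨hx, ho⟩
  refine ⟨hx, hD.od_of hd hx (fun e1 => ho.not_comm hD he hx (h ⟨hx, e1.symm⟩).2.symm) fun hf => ?_⟩
  have h1 := hf.xp_left hD hd hx
  have h2 := hf.xp_right hD hd hx
  exact h2.not_comm hD he ho.symm (h ⟨h1.1, h1.2.1.symm⟩).2

/-- two involutions acting as different transpositions on a four-group form an odd pair -/
theorem od_of_three_cycle (hD : RI D) (he : e ∈ D) (hn : n ∈ D) (hc : c ∈ D) (hx : x ∈ D) (hcx : c ≠ x)
    (hcomm : c * x = x * c) (h1 : e * c * e = c) (h2 : e * x * e = c * x) (h3 : n * x * n = x)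
    (h4 : n * c * n = c * x) : Od e n ∧ (e * n) ^ 3 * c = c * (e * n) ^ 3 := by
  have s1 : e * n * c * (e * n)⁻¹ = x := by
    rw [mul_inv_rev, hD.inv he, hD.inv hn]
    calc _ = e * (n * c * n) * e := by group
      _ = (e * c * e) * (e * x * e) := by rw [h4]; simp only [mul_assoc, hD.sq_assoc he]
      _ = x := by rw [h1, h2, hD.sq_assoc hc]
  have s2 : e * n * x * (e * n)⁻¹ = c * x := by
    rw [mul_inv_rev, hD.inv he, hD.inv hn]
    calc _ = e * (n * x * n) * e := by group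
      _ = _ := by rw [h3, h2]
  have s3 : (e * n) ^ 3 * c * ((e * n) ^ 3)⁻¹ = c := by
    calc _ = e * n * (e * n * (e * n * c * (e * n)⁻¹) * (e * n)⁻¹) * (e * n)⁻¹ := by
          simp only [pow_succ, pow_zero, one_mul]; group
      _ = e * n * (c * x) * (e * n)⁻¹ := by rw [s1, s2]
      _ = (e * n * c * (e * n)⁻¹) * (e * n * x * (e * n)⁻¹) := by group
      _ = c := by rw [s1, s2, hcomm, hD.sq_assoc hx]
  refine ⟨?_, by rw [← mul_inv_eq_iff_eq_mul]; exact s3⟩
  by_contra hno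
  have h5 := hD.comm_sq he hn hno
  have h6 : (e * n) ^ 3 = (e * n)⁻¹ := by
    rw [eq_inv_iff_mul_eq_one, ← h5]; simp only [pow_succ, pow_zero, one_mul, mul_assoc]
  rw [h6] at s3
  apply hcx
  rw [← s1]
  conv_rhs => rw [← s3]
  group

theorem not_subset_commutator [Finite G] {T : Set G} (hP : IsPGroup 2 (Subgroup.closure T))
    (h : ∀ t ∈ T, t ∈ ⁅Subgroup.closure T, Subgroup.closure T⁆) {t : G} (ht : t ∈ T) : t = 1 := by
  by_contra hne
  haveI : Nontrivial (Subgroup.closure T) := ⟨⟨⟨t, Subgroup.subset_closure ht⟩, 1, by simpa using hne⟩⟩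
  haveI := hP.isNilpotent
  have h1 := IsSolvable.commutator_lt_top_of_nontrivial (Subgroup.closure T)
  apply h1.ne
  apply Subgroup.map_injective (Subgroup.closure T).subtype_injective
  rw [commutator_def, Subgroup.map_commutator, ← MonoidHom.range_eq_map, Subgroup.range_subtype]
  exact le_antisymm (Subgroup.commutator_le_self _) ((Subgroup.closure_le _).2 h)

theorem C_eq_of_Aset_eq [Finite G] (hD : RI D) (hcl : OneClass D) (hd : d ∈ D) (he : e ∈ D)
    (h : Aset D d = Aset D e) : commutingMembers D d = commutingMembers D e := by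
  refine C_eq_of_subset hD hcl hd he ?_
  rintro x ⟨hx, hxd⟩
  refine ⟨hx, ?_⟩
  by_contra hxe
  -- commutators of elements of the class `T` with normalizing elements
  have hT : ∀ {u v : G}, u ∈ D → v ∈ D → Fo u v → Aset D (v * u * v) = Aset D u →
      Aset D (u * v * u * v) = Aset D u := by
    intro u v hu hv hf h1
    refine Aset_eq_of_subset hD hcl (hf.mem hD hu hv) hu ?_
    rintro y ⟨hy, ho⟩
    have h2 := (hf.xp_left hD hu hv).symm hu
    rcases h2.od_or hD (hf.mem hD hu hv) hy ho with h3 | h3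
    · exact ⟨hy, h3.symm⟩
    · rw [← h1]
      refine ⟨hy, ?_⟩
      rw [hD.comm_left hu hv hf.not_od, ← mul_assoc, ← mul_assoc, ← mul_assoc, hD.sq u hu, one_mul] at h3
      exact h3.symm
  have hnorm : ∀ {u v w : G}, v ∈ D → v * w = w * v → Aset D u = Aset D w →
      Aset D (v * u * v) = Aset D u := by
    intro u v w hv h1 h2
    have := Aset_conj_eq hD (Subgroup.subset_closure hv) h2
    rw [h1, mul_inv_cancel_right, hD.inv hv] at this
    rw [this, h2]
  have hf : Fo e x := hD.fo_of he hx (fun e1 => hxe e1.symm) fun ho => by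
    have : x ∈ Aset D d := h ▸ ⟨hx, ho⟩
    exact this.2.not_comm hD hd hx hxd.symm
  have hc := hT he hx hf (hnorm hx hxd h.symm)
  have hxc := hf.xp_right hD he hx
  have hec := hf.xp_left hD he hx
  set c := e * x * e * x with hcdef
  by_cases hxT : Aset D c = Aset D x
  · -- the class is a `2`-group equal to its commutator subgroup
    let T : Set G := {t | t ∈ D ∧ Aset D t = Aset D e}
    have hP : IsPGroup 2 (Subgroup.closure T) := by
      refine isPGroup_closure_of_not_od hD (fun t ht => ht.1) (fun u hu v hv => ⟨hD.conj u hu.1 v hv.1, ?_⟩)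
        fun u hu v hv ho => ?_
      · rw [hnorm hu.1 rfl (hv.2.trans hu.2.symm), hv.2]
      · have : v ∈ Aset D v := by rw [hv.2, ← hu.2]; exact ⟨hv.1, ho⟩
        exact this.2.1 rfl
    refine hD.ne e he (not_subset_commutator hP (fun t ht => ?_) ⟨he, rfl⟩)
    obtain ⟨g, hg, rfl⟩ := hcl c hxc.1 t ht.1
    have hg' : ∀ u ∈ T, g * u * g⁻¹ ∈ T := fun u hu =>
      ⟨hD.conj_closure hg hu.1, (Aset_conj_eq hD hg (hu.2.trans hc.symm)).trans ht.2⟩
    have := Subgroup.commutator_mem_commutator (Subgroup.subset_closure (hg' e ⟨he, rfl⟩))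
      (Subgroup.subset_closure (hg' x ⟨hx, hxT.symm.trans hc⟩))
    convert this using 1
    rw [commutatorElement_def, hcdef]
    conv_lhs => rw [← hD.inv he, ← hD.inv hx]
    rw [hD.inv he, hD.inv hx]
    nth_rewrite 2 [← hD.inv he]
    nth_rewrite 2 [← hD.inv hx]
    group
  · obtain ⟨y, hy, ho, hno⟩ := exists_od_not_od hD hcl hxc.1 hx hxT
    have hcx := hxc.symm hx
    obtain ⟨n, hn, hfn, e1⟩ := lemC hD hxc.1 hy ho hcx (hcx.fo_of hD hy ho hno)
    have h3 := hfn.xp_left hD hn.1 hxc.1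
    rw [e1] at h3
    have h4 := (od_of_three_cycle hD he hn.1 hxc.1 hx hxc.2.2.1 hcx.2.1
      (by rw [hec.2.1, mul_assoc, hD.sq e he, mul_one])
      (by rw [hcdef, mul_assoc _ x x, hD.sq x hx, mul_one])
      (by rw [h3.2.1, mul_assoc, hD.sq n hn.1, mul_one])
      (by rw [hcx.2.1, ← e1, mul_assoc _ c c, hD.sq c hxc.1, mul_one])).1
    have : n ∈ Aset D c := hc ▸ ⟨hn.1, h4⟩
    exact this.2.not_fo hfn.symm

end CfsgH9
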